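import Cfsg.Agent.H920.Basic
import Cfsg.Agent.H919.AschCSA
import Cfsg.Agent.H919.AschTensor

/-!
# Trace criteria for absolutely irreducible matrix groups (helper920)

* `exists_conj_of_trace` : an absolutely irreducible representation is determined by its traces;
* `realisable_of_trace` : all traces in `F₀` ⇒ realisable over `F₀` (finite fields);
* `exists_unitary_of_trace`, `exists_bilinear_of_trace` : invariant forms from traces.
-/

set_option autoImplicit false

namespace Cfsg.Agent.H920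

open Cfsg.Geo Matrix

variable {ι : Type} [Fintype ι] [DecidableEq ι] {F : Type*} [Field F]

section Conj

variable {G : Type*} [Group G]

/-- The algebra homomorphism from the group algebra attached to a matrix representation. -/
noncomputable def liftRep (ρ : G →* GL ι F) : MonoidAlgebra F G →ₐ[F] Matrix ι ι F :=
  MonoidAlgebra.lift F (Matrix ι ι F) G ((Units.coeHom (Matrix ι ι F)).comp ρ)

theorem liftRep_of (ρ : G →* GL ι F) (g : G) :
    liftRep ρ (MonoidAlgebra.of F G g) = (ρ g : Matrix ι ι F) := by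
  rw [liftRep, MonoidAlgebra.lift_of]
  rfl

theorem liftRep_surjective {ρ : G →* GL ι F}
    (h : Algebra.adjoin F (Set.range fun g => (ρ g : Matrix ι ι F)) = ⊤) :
    Function.Surjective (liftRep ρ) := by
  rw [← AlgHom.range_eq_top, eq_top_iff, ← h, Algebra.adjoin_le_iff]
  rintro _ ⟨g, rfl⟩
  exact ⟨MonoidAlgebra.of F G g, liftRep_of ρ g⟩

theorem trace_liftRep_eq {ρ₁ ρ₂ : G →* GL ι F}
    (htr : ∀ g, (ρ₁ g : Matrix ι ι F).trace = (ρ₂ g : Matrix ι ι F).trace) (x : MonoidAlgebra F G) :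
    (liftRep ρ₁ x).trace = (liftRep ρ₂ x).trace := by
  induction x using MonoidAlgebra.induction_on with
  | of g => rw [liftRep_of, liftRep_of, htr]
  | add x y hx hy => rw [map_add, map_add, Matrix.trace_add, Matrix.trace_add, hx, hy]
  | smul c x hx => rw [map_smul, map_smul, Matrix.trace_smul, Matrix.trace_smul, hx]

theorem ker_le_of_trace {ρ₁ ρ₂ : G →* GL ι F}
    (h : Algebra.adjoin F (Set.range fun g => (ρ₁ g : Matrix ι ι F)) = ⊤)
    (htr : ∀ g, (ρ₁ g : Matrix ι ι F).trace = (ρ₂ g : Matrix ι ι F).trace) {x : MonoidAlgebra F G}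
    (hx : liftRep ρ₂ x = 0) : liftRep ρ₁ x = 0 := by
  rw [Matrix.ext_iff_trace_mul_right]
  intro M
  obtain ⟨y, rfl⟩ := liftRep_surjective h M
  rw [← map_mul, trace_liftRep_eq htr, map_mul, hx, Matrix.zero_mul, Matrix.zero_mul]

theorem surjective_of_ker_le {A B C : Type*} [Ring A] [Ring B] [Ring C] [Algebra F A] [Algebra F B] [Algebra F C]
    [Module.Finite F B] (g : A →ₐ[F] C) (f : A →ₐ[F] B) (hg : Function.Surjective g)
    (hker : ∀ x, f x = 0 → g x = 0) (hdim : Module.finrank F C = Module.finrank F B) :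
    Function.Surjective f := by
  obtain ⟨s, hs⟩ := LinearMap.exists_rightInverse_of_surjective g.toLinearMap (LinearMap.range_eq_top.2 hg)
  have hs' : ∀ c, g (s c) = c := fun c => LinearMap.congr_fun hs c
  have hinj : Function.Injective (f.toLinearMap ∘ₗ s) := by
    rw [← LinearMap.ker_eq_bot, LinearMap.ker_eq_bot']
    intro c hc
    have := hker (s c) hc
    rwa [hs'] at this
  have : Module.Finite F C := Module.Finite.of_injective _ hinj
  have hsurj := (LinearMap.injective_iff_surjective_of_finrank_eq_finrank hdim).1 hinj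
  intro b
  obtain ⟨c, hc⟩ := hsurj b
  exact ⟨s c, hc⟩

theorem exists_algHom_of_ker_le {A B C : Type*} [Ring A] [Ring B] [Ring C] [Algebra F A] [Algebra F B] [Algebra F C]
    (f : A →ₐ[F] B) (g : A →ₐ[F] C) (hf : Function.Surjective f)
    (hker : ∀ x, f x = 0 → g x = 0) : ∃ φ : B →ₐ[F] C, ∀ x, φ (f x) = g x := by
  have hk : ∀ x y, f x = f y → g x = g y := by
    intro x y hxy
    have := hker (x - y) (by rw [map_sub, hxy, sub_self])
    rwa [map_sub, sub_eq_zero] at this
  choose s hs using hf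
  have hgs : ∀ x, g (s (f x)) = g x := fun x => hk _ _ (hs (f x))
  refine ⟨AlgHom.ofLinearMap
    { toFun := fun b => g (s b)
      map_add' := fun b c => by
        rw [← map_add]
        exact hk _ _ (by rw [hs, map_add, hs, hs])
      map_smul' := fun c b => by
        rw [RingHom.id_apply, ← map_smul]
        exact hk _ _ (by rw [hs, map_smul, hs]) } ?_ ?_, fun x => hgs x⟩
  · change g (s 1) = 1
    rw [← map_one g]
    exact hk _ _ (by rw [hs, map_one])
  · intro b c
    change g (s (b * c)) = g (s b) * g (s c)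
    rw [← map_mul]
    exact hk _ _ (by rw [hs, map_mul, hs, hs])

/-- **An absolutely irreducible matrix representation is determined up to conjugacy by its traces.** -/
theorem exists_conj_of_trace (ρ₁ ρ₂ : G →* GL ι F)
    (h : Algebra.adjoin F (Set.range fun g => (ρ₁ g : Matrix ι ι F)) = ⊤)
    (htr : ∀ g, (ρ₁ g : Matrix ι ι F).trace = (ρ₂ g : Matrix ι ι F).trace) :
    ∃ J : GL ι F, ∀ g, ρ₂ g = J * ρ₁ g * J⁻¹ := by
  have h1 := liftRep_surjective h
  -- `ρ₂` also spans
  have h2 : Function.Surjective (liftRep ρ₂) :=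
    surjective_of_ker_le (liftRep ρ₁) (liftRep ρ₂) h1 (fun x hx => ker_le_of_trace h htr hx) rfl
  obtain ⟨φ, hφ⟩ := exists_algHom_of_ker_le (liftRep ρ₂) (liftRep ρ₁) h2 (fun x hx => ker_le_of_trace h htr hx)
  have hsurj : Function.Surjective φ := by
    intro M
    obtain ⟨x, rfl⟩ := h1 M
    exact ⟨liftRep ρ₂ x, hφ x⟩
  have hinj : Function.Injective φ := (LinearMap.injective_iff_surjective (f := φ.toLinearMap)).2 hsurj
  obtain ⟨P, hP⟩ := H919.exists_conj_of_algEquiv (AlgEquiv.ofBijective φ ⟨hinj, hsurj⟩)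
  refine ⟨P⁻¹, fun g => ?_⟩
  have h3 := hP (ρ₂ g : Matrix ι ι F)
  have h4 : AlgEquiv.ofBijective φ ⟨hinj, hsurj⟩ (ρ₂ g : Matrix ι ι F) = (ρ₁ g : Matrix ι ι F) := by
    change φ _ = _
    rw [← liftRep_of ρ₂, hφ, liftRep_of]
  rw [h4] at h3
  have h5 : ρ₁ g = P * ρ₂ g * P⁻¹ := by
    apply Units.ext
    rw [Units.val_mul, Units.val_mul]
    exact h3
  rw [h5]
  group

end Conj

section Forms

/-- The contragredient representation twisted by a field automorphism, on a subgroup. -/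
def dualRep (σ : F ≃+* F) (P : Subgroup (GL ι F)) : P →* GL ι F where
  toFun g :=
    { val := ((((g : GL ι F)⁻¹ : GL ι F) : Matrix ι ι F).map σ)ᵀ
      inv := (((g : GL ι F) : Matrix ι ι F).map σ)ᵀ
      val_inv := by
        rw [← Matrix.transpose_mul]
        have : (((g : GL ι F) : Matrix ι ι F).map σ) * ((((g : GL ι F)⁻¹ : GL ι F) : Matrix ι ι F).map σ) =
            (1 : Matrix ι ι F) := by
          rw [← Matrix.map_mul, ← Units.val_mul, mul_inv_cancel, Units.val_one,
            Matrix.map_one σ (map_zero σ) (map_one σ)]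
        rw [this, Matrix.transpose_one]
      inv_val := by
        rw [← Matrix.transpose_mul]
        have : ((((g : GL ι F)⁻¹ : GL ι F) : Matrix ι ι F).map σ) * (((g : GL ι F) : Matrix ι ι F).map σ) =
            (1 : Matrix ι ι F) := by
          rw [← Matrix.map_mul, ← Units.val_mul, inv_mul_cancel, Units.val_one,
            Matrix.map_one σ (map_zero σ) (map_one σ)]
        rw [this, Matrix.transpose_one] }
  map_one' := by
    apply Units.ext
    change ((((1 : GL ι F)⁻¹ : GL ι F) : Matrix ι ι F).map σ)ᵀ = 1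
    rw [inv_one, Units.val_one, Matrix.map_one σ (map_zero σ) (map_one σ), Matrix.transpose_one]
  map_mul' g h := by
    apply Units.ext
    change (((((g : GL ι F) * (h : GL ι F))⁻¹ : GL ι F) : Matrix ι ι F).map σ)ᵀ =
      ((((g : GL ι F)⁻¹ : GL ι F) : Matrix ι ι F).map σ)ᵀ * ((((h : GL ι F)⁻¹ : GL ι F) : Matrix ι ι F).map σ)ᵀ
    rw [_root_.mul_inv_rev, Units.val_mul, Matrix.map_mul, Matrix.transpose_mul]

theorem dualRep_val (σ : F ≃+* F) (P : Subgroup (GL ι F)) (g : P) :
    (dualRep σ P g : Matrix ι ι F) = ((((g : GL ι F)⁻¹ : GL ι F) : Matrix ι ι F).map σ)ᵀ := rfl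

omit [DecidableEq ι] in
theorem trace_map (σ : F ≃+* F) (M : Matrix ι ι F) : (M.map σ).trace = σ M.trace := by
  simp [Matrix.trace, Matrix.diag]

/-- The key statement: a matrix `J` intertwining `P` and its twisted contragredient, with `(J^σ)ᵀ = c J`. -/
theorem exists_gram_of_trace {P : Subgroup (GL ι F)} (hP : ActsAbsolutelyIrreducibly (matrixSet P)) (σ : F ≃+* F)
    (hσ : ∀ a, σ (σ a) = a)
    (htr : ∀ g ∈ P, ((g⁻¹ : GL ι F) : Matrix ι ι F).trace = σ ((g : Matrix ι ι F).trace)) :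
    ∃ (J : GL ι F) (c : F), ((J : Matrix ι ι F).map σ)ᵀ = c • (J : Matrix ι ι F) ∧
      (∀ g ∈ P, ((g : Matrix ι ι F).map σ)ᵀ * (J : Matrix ι ι F) * (g : Matrix ι ι F) = J) := by
  have hmm : ∀ M : Matrix ι ι F, (M.map σ).map σ = M := by
    intro M
    ext i j
    simp [hσ]
  obtain ⟨J, hJ⟩ := exists_conj_of_trace P.subtype (dualRep σ P)
    (by
      rw [← adjoin_eq_top hP]
      congr 1
      ext M
      constructor
      · rintro ⟨g, rfl⟩
        exact ⟨g, g.2, rfl⟩
      · rintro ⟨g, hg, rfl⟩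
        exact ⟨⟨g, hg⟩, rfl⟩)
    (by
      intro g
      rw [dualRep_val, Matrix.trace_transpose, trace_map, htr g g.2, hσ]
      rfl)
  -- `J g = ((g⁻¹)^σ)ᵀ J`
  have h1 : ∀ g ∈ P, ((((g : GL ι F)⁻¹ : GL ι F) : Matrix ι ι F).map σ)ᵀ * (J : Matrix ι ι F) =
      (J : Matrix ι ι F) * (g : Matrix ι ι F) := by
    intro g hg
    have h2 := hJ ⟨g, hg⟩
    have h3 : dualRep σ P ⟨g, hg⟩ * J = J * g := by
      rw [h2]
      change J * g * J⁻¹ * J = J * g
      group
    have h4 := congrArg Units.val h3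
    rw [Units.val_mul, Units.val_mul] at h4
    exact h4
  have h5 : ∀ g ∈ P, ((g : Matrix ι ι F).map σ)ᵀ * (J : Matrix ι ι F) * (g : Matrix ι ι F) = J := by
    intro g hg
    rw [Matrix.mul_assoc, ← h1 g hg, ← Matrix.mul_assoc, ← Matrix.transpose_mul, ← Matrix.map_mul,
      ← Units.val_mul, inv_mul_cancel, Units.val_one, Matrix.map_one σ (map_zero σ) (map_one σ),
      Matrix.transpose_one, Matrix.one_mul]
  -- `J' = (J^σ)ᵀ` has the same property
  have h6 : ∀ g ∈ P, ((((g : GL ι F)⁻¹ : GL ι F) : Matrix ι ι F).map σ)ᵀ * ((J : Matrix ι ι F).map σ)ᵀ =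
      ((J : Matrix ι ι F).map σ)ᵀ * (g : Matrix ι ι F) := by
    intro g hg
    have h7 := h1 g⁻¹ (P.inv_mem hg)
    rw [inv_inv] at h7
    have h8 := congrArg (fun M : Matrix ι ι F => (M.map σ)ᵀ) h7
    simp only [Matrix.map_mul, Matrix.transpose_mul, Matrix.transpose_map, Matrix.transpose_transpose, hmm] at h8
    exact h8.symm
  obtain ⟨c, hc⟩ := hP.2 (((J⁻¹ : GL ι F) : Matrix ι ι F) * ((J : Matrix ι ι F).map σ)ᵀ) (by
    rintro _ ⟨g, hg, rfl⟩
    have h9 : (g : Matrix ι ι F) * ((J⁻¹ : GL ι F) : Matrix ι ι F) =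
        ((J⁻¹ : GL ι F) : Matrix ι ι F) * ((((g : GL ι F)⁻¹ : GL ι F) : Matrix ι ι F).map σ)ᵀ := by
      have h10 := congrArg (fun M => ((J⁻¹ : GL ι F) : Matrix ι ι F) * M * ((J⁻¹ : GL ι F) : Matrix ι ι F))
        (h1 g hg)
      beta_reduce at h10
      rw [Matrix.mul_assoc, Matrix.mul_assoc _ (J : Matrix ι ι F), ← Units.val_mul, mul_inv_cancel, Units.val_one,
        Matrix.mul_one, ← Matrix.mul_assoc, ← Units.val_mul, inv_mul_cancel, Units.val_one, Matrix.one_mul] at h10
      exact h10.symm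
    rw [Matrix.mul_assoc, ← h6 g hg, ← Matrix.mul_assoc, ← h9, Matrix.mul_assoc])
  refine ⟨J, c, ?_, h5⟩
  have h11 := congrArg (fun M => (J : Matrix ι ι F) * M) hc
  beta_reduce at h11
  rw [← Matrix.mul_assoc, ← Units.val_mul, mul_inv_cancel, Units.val_one, Matrix.one_mul, Matrix.mul_smul,
    Matrix.mul_one] at h11
  exact h11

/-- The form `(u, v) ↦ (v^σ)ᵀ J u`. -/
def gramForm (σ : F ≃+* F) (J : Matrix ι ι F) (u v : ι → F) : F := (fun i => σ (v i)) ⬝ᵥ (J *ᵥ u)

omit [DecidableEq ι] in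
theorem gramForm_add_left (σ : F ≃+* F) (J : Matrix ι ι F) (x y v : ι → F) :
    gramForm σ J (x + y) v = gramForm σ J x v + gramForm σ J y v := by
  rw [gramForm, Matrix.mulVec_add, dotProduct_add]
  rfl

omit [DecidableEq ι] in
theorem gramForm_smul_left (σ : F ≃+* F) (J : Matrix ι ι F) (c : F) (x v : ι → F) :
    gramForm σ J (c • x) v = c * gramForm σ J x v := by
  rw [gramForm, Matrix.mulVec_smul, dotProduct_smul]
  rfl

omit [DecidableEq ι] in
theorem gramForm_map (σ : F ≃+* F) (J g : Matrix ι ι F) (hg : (g.map σ)ᵀ * J * g = J) (u v : ι → F) :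
    gramForm σ J (g *ᵥ u) (g *ᵥ v) = gramForm σ J u v := by
  have h1 : (fun i => σ ((g *ᵥ v) i)) = (g.map σ) *ᵥ (fun i => σ (v i)) := by
    funext i
    simp [Matrix.mulVec, dotProduct, map_sum, map_mul]
  rw [gramForm, h1, ← Matrix.vecMul_transpose, ← Matrix.dotProduct_mulVec, Matrix.mulVec_mulVec,
    Matrix.mulVec_mulVec, hg]
  rfl

omit [DecidableEq ι] in
/-- `f(v, u)^σ` is given by `(J^σ)ᵀ`. -/
theorem gramForm_swap (σ : F ≃+* F) (hσ : ∀ a, σ (σ a) = a) (J : Matrix ι ι F) (u v : ι → F) :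
    σ (gramForm σ J v u) = gramForm σ ((J.map σ)ᵀ) u v := by
  have h1 : ∀ w : ι → F, (fun i => σ ((J *ᵥ w) i)) = (J.map σ) *ᵥ (fun i => σ (w i)) := by
    intro w
    funext i
    simp [Matrix.mulVec, dotProduct, map_sum, map_mul]
  have h2 : σ (gramForm σ J v u) = u ⬝ᵥ (fun i => σ ((J *ᵥ v) i)) := by
    simp only [gramForm, dotProduct, map_sum, map_mul, hσ]
  rw [h2, h1, gramForm, Matrix.mulVec_transpose, Matrix.dotProduct_mulVec, dotProduct_comm]

theorem gramForm_nondeg (σ : F ≃+* F) (J : GL ι F) :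
    IsNondegenerateForm (gramForm σ (J : Matrix ι ι F)) := by
  intro v hv
  constructor
  · -- `∃ x, f x v ≠ 0`
    obtain ⟨i, hi⟩ : ∃ i, v i ≠ 0 := by
      by_contra hcon
      push Not at hcon
      exact hv (funext hcon)
    refine ⟨((J⁻¹ : GL ι F) : Matrix ι ι F) *ᵥ Pi.single i 1, ?_⟩
    rw [gramForm, Matrix.mulVec_mulVec, ← Units.val_mul, mul_inv_cancel, Units.val_one, Matrix.one_mulVec,
      dotProduct_single, mul_one]
    exact (map_ne_zero σ).2 hi
  · -- `∃ x, f v x ≠ 0`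
    have hw : (J : Matrix ι ι F) *ᵥ v ≠ 0 := by
      intro h0
      apply hv
      have := congrArg (fun w => ((J⁻¹ : GL ι F) : Matrix ι ι F) *ᵥ w) h0
      beta_reduce at this
      rw [Matrix.mulVec_mulVec, ← Units.val_mul, inv_mul_cancel, Units.val_one, Matrix.one_mulVec,
        Matrix.mulVec_zero] at this
      exact this
    obtain ⟨i, hi⟩ : ∃ i, ((J : Matrix ι ι F) *ᵥ v) i ≠ 0 := by
      by_contra hcon
      push Not at hcon
      exact hw (funext hcon)
    refine ⟨Pi.single i 1, ?_⟩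
    rw [gramForm]
    have : (fun j => σ ((Pi.single i (1 : F) : ι → F) j)) = (Pi.single i 1 : ι → F) := by
      funext j
      rcases eq_or_ne j i with rfl | hj
      · simp
      · simp [Pi.single_eq_of_ne hj]
    rw [this, single_dotProduct, one_mul]
    exact hi

omit [DecidableEq ι] in
theorem gramForm_smul_gram (σ : F ≃+* F) (c : F) (J : Matrix ι ι F) (u v : ι → F) :
    gramForm σ (c • J) u v = c * gramForm σ J u v := by
  rw [gramForm, Matrix.smul_mulVec, dotProduct_smul]
  rfl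

/-- **Trace criterion for a unitary form.** -/
theorem exists_unitary_of_trace {P : Subgroup (GL ι F)} (hP : ActsAbsolutelyIrreducibly (matrixSet P))
    (σ : F ≃+* F) (hσ1 : σ ≠ RingEquiv.refl F) (hσ : ∀ a, σ (σ a) = a)
    (htr : ∀ g ∈ P, ((g⁻¹ : GL ι F) : Matrix ι ι F).trace = σ ((g : Matrix ι ι F).trace)) :
    ∃ f : (ι → F) → (ι → F) → F, IsUnitaryForm σ f ∧ FixesForm (matrixSet P) f := by
  obtain ⟨J, c, hJ, hg⟩ := exists_gram_of_trace hP σ hσ htr
  rcases isEmpty_or_nonempty ι with he | ⟨⟨i₀⟩⟩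
  · refine ⟨fun _ _ => 0, ⟨hσ1, hσ, by simp, by simp, by simp, ?_⟩, ?_⟩
    · intro v hv
      exact absurd (Subsingleton.elim v 0) hv
    · rintro _ ⟨g, _, rfl⟩ u v
      rfl
  -- `c σ(c) = 1`
  have : Nonempty ι := ⟨i₀⟩
  have hJ0 : (J : Matrix ι ι F) ≠ 0 := J.ne_zero
  have hc : c * σ c = 1 := by
    have h1 := congrArg (fun M : Matrix ι ι F => (M.map σ)ᵀ) hJ
    have h2 : (((((J : Matrix ι ι F).map σ)ᵀ).map σ)ᵀ : Matrix ι ι F) = J := by
      ext i j
      simp [hσ]
    have h3 : (((c • (J : Matrix ι ι F)).map σ)ᵀ : Matrix ι ι F) = (σ c * c) • (J : Matrix ι ι F) := by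
      have h3' : (((c • (J : Matrix ι ι F)).map σ)ᵀ : Matrix ι ι F) = σ c • ((J : Matrix ι ι F).map σ)ᵀ := by
        ext i j
        simp only [Matrix.transpose_apply, Matrix.map_apply, Matrix.smul_apply, smul_eq_mul, map_mul]
      rw [h3', hJ, smul_smul]
    beta_reduce at h1
    rw [h2, h3] at h1
    have h4 : (1 - σ c * c) • (J : Matrix ι ι F) = 0 := by
      rw [sub_smul, one_smul, ← h1, sub_self]
    rcases smul_eq_zero.1 h4 with h5 | h5
    · rw [mul_comm]
      exact (sub_eq_zero.1 h5).symm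
    · exact absurd h5 hJ0
  -- Hilbert 90
  obtain ⟨l, hl0, hl⟩ : ∃ l : F, l ≠ 0 ∧ σ l * c = l := by
    have h1 : ∃ a : F, a + c * σ a ≠ 0 := by
      by_contra hcon
      push Not at hcon
      have hc1 : c = -1 := by
        have := hcon 1
        rw [map_one, mul_one] at this
        exact eq_neg_of_add_eq_zero_right this
      apply hσ1
      ext a
      have := hcon a
      rw [hc1, neg_one_mul, ← sub_eq_add_neg, sub_eq_zero] at this
      exact this.symm
    obtain ⟨a, ha⟩ := h1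
    refine ⟨a + c * σ a, ha, ?_⟩
    rw [map_add, map_mul, hσ]
    linear_combination a * hc
  refine ⟨fun u v => l * gramForm σ (J : Matrix ι ι F) u v, ⟨hσ1, hσ, ?_, ?_, ?_, ?_⟩, ?_⟩
  · intro x y v
    rw [gramForm_add_left, mul_add]
  · intro d x v
    rw [gramForm_smul_left]
    ring
  · intro v w
    rw [map_mul, gramForm_swap σ hσ, hJ, gramForm_smul_gram, ← mul_assoc, hl]
  · intro v hv
    obtain ⟨⟨x, hx⟩, ⟨y, hy⟩⟩ := gramForm_nondeg σ J v hv
    exact ⟨⟨x, mul_ne_zero hl0 hx⟩, ⟨y, mul_ne_zero hl0 hy⟩⟩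
  · rintro _ ⟨g, hgP, rfl⟩ u v
    beta_reduce
    rw [gramForm_map σ _ _ (hg g hgP)]

/-- **Trace criterion for a bilinear form.** -/
theorem exists_bilinear_of_trace {P : Subgroup (GL ι F)} (hP : ActsAbsolutelyIrreducibly (matrixSet P))
    (htr : ∀ g ∈ P, ((g⁻¹ : GL ι F) : Matrix ι ι F).trace = (g : Matrix ι ι F).trace) :
    ∃ f : (ι → F) → (ι → F) → F, IsBilinearForm f ∧ IsNondegenerateForm f ∧ FixesForm (matrixSet P) f ∧
      ((∀ u v, f u v = f v u) ∨ (∀ u v, f u v = - f v u)) := by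
  have hσ : ∀ a : F, (RingEquiv.refl F) (RingEquiv.refl F a) = a := fun a => rfl
  obtain ⟨J, c, hJ, hg⟩ := exists_gram_of_trace hP (RingEquiv.refl F) hσ (by simpa using htr)
  have hswap : ∀ u v, gramForm (RingEquiv.refl F) (J : Matrix ι ι F) v u =
      c * gramForm (RingEquiv.refl F) (J : Matrix ι ι F) u v := by
    intro u v
    have h1 := gramForm_swap (RingEquiv.refl F) hσ (J : Matrix ι ι F) u v
    rw [hJ, gramForm_smul_gram] at h1
    exact h1
  refine ⟨gramForm (RingEquiv.refl F) (J : Matrix ι ι F), ⟨?_, ?_, ?_, ?_⟩, gramForm_nondeg _ J, ?_, ?_⟩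
  · intro x y v
    exact gramForm_add_left _ _ _ _ _
  · intro d x v
    exact gramForm_smul_left _ _ _ _ _
  · intro v x y
    rw [gramForm, gramForm, gramForm, ← add_dotProduct]
    rfl
  · intro d v x
    rw [gramForm, gramForm, ← smul_eq_mul, ← smul_dotProduct]
    rfl
  · rintro _ ⟨g, hgP, rfl⟩ u v
    exact gramForm_map _ _ _ (hg g hgP) u v
  · by_cases hall : ∀ u v, gramForm (RingEquiv.refl F) (J : Matrix ι ι F) u v = 0
    · left
      intro u v
      rw [hall, hall]
    · push Not at hall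
      obtain ⟨u₀, v₀, h0⟩ := hall
      have h1 := hswap u₀ v₀
      have h2 := hswap v₀ u₀
      rw [h1, ← mul_assoc] at h2
      have h3 : (c * c - 1) * gramForm (RingEquiv.refl F) (J : Matrix ι ι F) u₀ v₀ = 0 := by
        rw [sub_mul, one_mul, ← h2, sub_self]
      have h4 : c * c - 1 = 0 := (mul_eq_zero.1 h3).resolve_right h0
      have h5 : (c - 1) * (c + 1) = 0 := by linear_combination h4
      rcases mul_eq_zero.1 h5 with h6 | h6
      · left
        intro u v
        rw [hswap v u, sub_eq_zero.1 h6, one_mul]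
      · right
        intro u v
        rw [hswap v u, eq_neg_of_add_eq_zero_left h6, neg_one_mul]

end Forms

end Cfsg.Agent.H920
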