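import Cfsg.Agent.H920.CsPerf
import Cfsg.Agent.H921.SympDim

/-!
# Coordinates and the perfect part for the groups of the statements (helper920)

`exists_coord_core` : `R` absolutely irreducible of symplectic type, `r` odd, `|Z(R)| = r`, `|R| = r ^ (1 + 2 k)`, or
`r = 2`, `|Z(R)| = 4`, `|R| = 2 ^ (2 + 2 k)`, and `5 ≤ r ^ k`: coordinates `C` and a perfect part `Y` exist.
-/

set_option autoImplicit false

namespace Cfsg.Agent.H920

open Cfsg Cfsg.Geo Matrix Cfsg.Agent.ClassicalGeometry.SympBasic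
open scoped commutatorElement

variable {ι : Type} [Fintype ι] [DecidableEq ι] {F : Type*} [Field F] {R : Subgroup (GL ι F)} {r k : ℕ}

/-- The types in the statements. -/
def IsType (r k : ℕ) (R : Subgroup (GL ι F)) : Prop :=
  (Odd r ∧ Nat.card (Subgroup.center R) = r ∧ Nat.card R = r ^ (1 + 2 * k)) ∨
    (r = 2 ∧ Nat.card (Subgroup.center R) = 4 ∧ Nat.card R = 2 ^ (2 + 2 * k))

theorem mem_scalars_of_mem_center (habs : ActsAbsolutelyIrreducibly (matrixSet R)) {x : R}
    (hx : x ∈ Subgroup.center R) : (x : GL ι F) ∈ scalars ι F := by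
  rw [center_eq habs] at hx
  exact hx

theorem mem_center_of_mem_scalars (habs : ActsAbsolutelyIrreducibly (matrixSet R)) {x : R}
    (hx : (x : GL ι F) ∈ scalars ι F) : x ∈ Subgroup.center R := by
  rw [center_eq habs]
  exact hx

theorem comm_of_type [Finite R] (hR : IsSymplecticTypeGroup r R)
    (habs : ActsAbsolutelyIrreducibly (matrixSet R)) (ht : IsType r k R) :
    ∀ x ∈ R, ∀ y ∈ R, x * y * x⁻¹ * y⁻¹ ∈ scalars ι F := by
  intro x hx y hy
  have hZ : Odd r → Nat.card (Subgroup.center R) = r := by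
    intro hodd
    rcases ht with h | h
    · exact h.2.1
    · rw [h.1] at hodd; exact absurd hodd (by decide)
  exact mem_scalars_of_mem_center habs (H921.commutator_mem_center hR hZ ⟨x, hx⟩ ⟨y, hy⟩)

theorem card_of_type [Finite R] [Nonempty ι] (hR : IsSymplecticTypeGroup r R)
    (habs : ActsAbsolutelyIrreducibly (matrixSet R)) (ht : IsType r k R) : Fintype.card ι = r ^ k := by
  rcases ht with h | h
  · exact H921.card_eq_pow_of_center_prime hR habs h.2.1 h.2.2
  · obtain ⟨rfl, h1, h2⟩ := h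
    exact H921.card_eq_pow_of_center_four hR habs h1 h2

/-- The scalar `i`. -/
theorem exists_i_of_type [Finite R] [Nonempty ι] (hR : IsSymplecticTypeGroup 2 R)
    (habs : ActsAbsolutelyIrreducibly (matrixSet R)) (hZ : Nat.card (Subgroup.center R) = 4) :
    ∃ (z : R) (i : F), i ^ 2 = -1 ∧ ((z : GL ι F) : Matrix ι ι F) = i • (1 : Matrix ι ι F) ∧
      orderOf (z ^ 2) = 2 ∧ z ∈ Subgroup.center R := by
  have hcyc : IsCyclic (Subgroup.center R) :=
    hR.cyclic_of_characteristic _ inferInstance ⟨⟨fun a b => Subtype.ext ((Subgroup.mem_center_iff.1 a.2 b).symm)⟩⟩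
  obtain ⟨z, hz⟩ := hcyc.exists_generator
  have hord : orderOf z = 4 := by
    rw [orderOf_eq_card_of_forall_mem_zpowers hz, hZ]
  have hord' : orderOf (z : R) = 4 := by rw [Subgroup.orderOf_coe, hord]
  have hord'' : orderOf ((z : R) : GL ι F) = 4 := by rw [Subgroup.orderOf_coe, hord']
  obtain ⟨c, hc⟩ := (mem_scalars_iff _).1 (mem_scalars_of_mem_center habs z.2)
  have hpow : ∀ n : ℕ, ((((z : R) : GL ι F) ^ n : GL ι F) : Matrix ι ι F) = (c : F) ^ n • (1 : Matrix ι ι F) := by
    intro n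
    rw [Units.val_pow_eq_pow_val, hc, smul_pow, one_pow]
  have h4 : (c : F) ^ 4 = 1 := by
    have h1 := hpow 4
    rw [← hord'', pow_orderOf_eq_one, hord''] at h1
    have h2 : (1 : F) • ((1 : GL ι F) : Matrix ι ι F) = (c : F) ^ 4 • ((1 : GL ι F) : Matrix ι ι F) := by
      rw [one_smul]; exact h1
    exact (smul_gl_injective h2).symm
  have h2 : (c : F) ^ 2 ≠ 1 := by
    intro h2
    have h1 : ((z : R) : GL ι F) ^ 2 = 1 := by
      apply Units.ext
      rw [hpow, h2, one_smul]; rfl
    have := orderOf_dvd_of_pow_eq_one h1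
    rw [hord''] at this
    exact absurd this (by decide)
  have h3 : (c : F) ^ 2 = -1 := by
    have h5 : ((c : F) ^ 2 - 1) * ((c : F) ^ 2 + 1) = 0 := by linear_combination h4
    rcases mul_eq_zero.1 h5 with h6 | h6
    · exact absurd (sub_eq_zero.1 h6) h2
    · exact eq_neg_of_add_eq_zero_left h6
  refine ⟨z, c, h3, hc, ?_, z.2⟩
  rw [orderOf_pow' _ two_ne_zero, hord']
  norm_num

theorem full_of_type [Finite R] [Nonempty ι] (hR : IsSymplecticTypeGroup r R)
    (habs : ActsAbsolutelyIrreducibly (matrixSet R)) (ht : IsType r k R) (x : R) :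
    ∃ z ∈ Subgroup.center R, (z * x) ^ r = 1 := by
  rcases ht with ⟨hodd, -, -⟩ | ⟨rfl, hZ, -⟩
  · refine ⟨1, Subgroup.one_mem _, ?_⟩
    rw [one_mul]
    have hexp : Monoid.exponent R = r := by
      rw [hR.exponent_eq, (Nat.coprime_two_left.mpr hodd).gcd_eq_one, mul_one]
    have := Monoid.pow_exponent_eq_one x
    rwa [hexp] at this
  · obtain ⟨z, i, -, -, hz2, hzc⟩ := exists_i_of_type hR habs hZ
    have hexp : Monoid.exponent R = 4 := by rw [hR.exponent_eq]; norm_num
    have h4 : ∀ q : R, q ^ 4 = 1 := fun q => by rw [← hexp]; exact Monoid.pow_exponent_eq_one q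
    have hst := (Cfsg.Agent.ClassificationK.SymplecticExpFour.structure_exp_four
      ⟨hR.pGroup, hR.cyclic_of_characteristic⟩ h4 hz2 (Subgroup.pow_mem _ hzc 2)).2.1 x
    rcases hst with h | h
    · exact ⟨1, Subgroup.one_mem _, by rw [one_mul, h]⟩
    · refine ⟨z, hzc, ?_⟩
      have hcm : Commute z x := (Subgroup.mem_center_iff.1 hzc x).symm
      rw [hcm.mul_pow, h, ← pow_add]
      exact h4 z

theorem pow_of_type [Finite R] [Nonempty ι] (hR : IsSymplecticTypeGroup r R)
    (habs : ActsAbsolutelyIrreducibly (matrixSet R)) (ht : IsType r k R) : ∀ x ∈ R, x ^ r ∈ scalars ι F := by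
  intro x hx
  obtain ⟨z, hz, h⟩ := full_of_type hR habs ht ⟨x, hx⟩
  have hcm : Commute z (⟨x, hx⟩ : R) := (Subgroup.mem_center_iff.1 hz _).symm
  rw [hcm.mul_pow] at h
  have h1 : (⟨x, hx⟩ : R) ^ r = (z ^ r)⁻¹ := (eq_inv_of_mul_eq_one_right h)
  have h2 : (⟨x, hx⟩ : R) ^ r ∈ Subgroup.center R := by
    rw [h1]; exact Subgroup.inv_mem _ (Subgroup.pow_mem _ hz r)
  exact mem_scalars_of_mem_center habs h2

/-- **Coordinates and perfect part.** -/
theorem exists_coord_core [Finite F] [Nonempty ι] (hR : IsSymplecticTypeGroup r R)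
    (habs : ActsAbsolutelyIrreducibly (matrixSet R)) (ht : IsType r k R) (h5 : 5 ≤ r ^ k) :
    ∃ (C : Coord R r k) (Y : Subgroup (GL ι F)), C.Core Y := by
  have hfin : Finite (GL ι F) := inferInstance
  have hp : Fact r.Prime := ⟨hR.prime⟩
  have hk : 1 ≤ k := by
    rcases Nat.eq_zero_or_pos k with rfl | h
    · rw [pow_zero] at h5; omega
    · exact h
  obtain ⟨C⟩ := exists_coord habs (comm_of_type hR habs ht) hR.prime hk (pow_of_type hR habs ht)
    (card_of_type hR habs ht)
  have hfull : ∀ v, ∃ x : R, C.φ x = v ∧ x ^ r = 1 := by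
    intro v
    obtain ⟨x, rfl⟩ := C.surj v
    obtain ⟨z, hz, h⟩ := full_of_type hR habs ht x
    refine ⟨z * x, ?_, h⟩
    rw [C.map_mul, (C.ker_iff z).2 (mem_scalars_of_mem_center habs hz), zero_add]
  have h' : Odd r ∨ (r = 2 ∧ ∃ (z : R) (i : F), i ^ 2 = -1 ∧
      ((z : GL ι F) : Matrix ι ι F) = i • (1 : Matrix ι ι F)) := by
    rcases ht with ht | ⟨rfl, hZ, -⟩
    · exact Or.inl ht.1
    · obtain ⟨z, i, h1, h2, -⟩ := exists_i_of_type hR habs hZ
      exact Or.inr ⟨rfl, z, i, h1, h2⟩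
  have hperf : commutator (Matrix.symplecticGroup (Fin k) (ZMod r)) = ⊤ := by
    apply Cfsg.Agent.LieClassical.SympPerfect.commutator_eq_top
    rw [ZMod.card]
    have h2 := hR.prime.two_le
    by_cases h4 : 4 ≤ r
    · exact Or.inr (Or.inr h4)
    · by_cases hr3 : r = 3
      · subst hr3
        by_cases hk3 : 3 ≤ k
        · exact Or.inl hk3
        · have : k = 2 := by
            interval_cases k
            · norm_num at h5
            · rfl
          exact Or.inr (Or.inl ⟨this, le_rfl⟩)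
      · have hr2 : r = 2 := by omega
        subst hr2
        left
        by_contra hk3
        interval_cases k <;> norm_num at h5
  obtain ⟨Y, hY⟩ := C.exists_core hperf (fun A => C.exists_ind hk h' hfull A)
  exact ⟨C, Y, hY⟩

end Cfsg.Agent.H920
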