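import Cfsg.Agent.H920.SympB

/-!
# C6a: existence of a symplectic-type normal subgroup (helper920)
-/

set_option autoImplicit false

namespace Cfsg.Agent.H920

open Cfsg.Geo Matrix

variable {ι : Type} [Fintype ι] [DecidableEq ι] {F : Type*} [Field F]

/-- Conjugation by an element normalising `R`. -/
def conjEquiv {G : Type*} [Group G] (R : Subgroup G) (h : G) (h1 : ∀ x ∈ R, h * x * h⁻¹ ∈ R)
    (h2 : ∀ x ∈ R, h⁻¹ * x * h ∈ R) : R ≃* R where
  toFun x := ⟨h * x * h⁻¹, h1 x x.2⟩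
  invFun x := ⟨h⁻¹ * x * h, h2 x x.2⟩
  left_inv x := by apply Subtype.ext; simp [mul_assoc]
  right_inv x := by apply Subtype.ext; simp [mul_assoc]
  map_mul' x y := by apply Subtype.ext; simp [mul_assoc]

theorem conj_mem_of_characteristic {G : Type*} [Group G] {H R : Subgroup G}
    (hR : ∀ h ∈ H, ∀ x ∈ R, h * x * h⁻¹ ∈ R) (A : Subgroup R) (hA : A.Characteristic) :
    ∀ h ∈ H, ∀ x ∈ A.map R.subtype, h * x * h⁻¹ ∈ A.map R.subtype := by
  rintro h hh _ ⟨x, hx, rfl⟩
  let e := conjEquiv R h (hR h hh) (fun x hx => by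
    have := hR h⁻¹ (H.inv_mem hh) x hx
    rwa [inv_inv] at this)
  refine ⟨e x, ?_, rfl⟩
  have := (Subgroup.characteristic_iff_map_le.1 hA) e
  exact this ⟨x, hx, rfl⟩

theorem exists_prime_pow_scalar [Finite F] {N : Subgroup (GL ι F)} (hN : ¬ N ≤ scalars ι F) :
    ∃ r : ℕ, r.Prime ∧ ∃ x ∈ N, x ∉ scalars ι F ∧ x ^ r ∈ scalars ι F := by
  obtain ⟨x, hx, hxs⟩ := SetLike.not_le_iff_exists.1 hN
  let q : GL ι F ⧸ scalars ι F := QuotientGroup.mk x
  have hq : q ≠ 1 := fun h => hxs ((QuotientGroup.eq_one_iff x).1 h)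
  have hone : orderOf q ≠ 1 := fun h => hq (orderOf_eq_one_iff.1 h)
  obtain ⟨r, hr, k, hk⟩ := Nat.exists_prime_and_dvd hone
  have hpos : 0 < orderOf q := orderOf_pos q
  refine ⟨r, hr, x ^ k, N.pow_mem hx k, ?_, ?_⟩
  · intro h
    have h1 : q ^ k = 1 := (QuotientGroup.eq_one_iff (x ^ k)).2 h
    have h2 := orderOf_dvd_of_pow_eq_one h1
    rw [hk] at h2
    have hk0 : 0 < k := by
      rcases Nat.eq_zero_or_pos k with h0 | h0
      · rw [h0, mul_zero] at hk; omega
      · exact h0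
    have h3 := Nat.le_of_dvd hk0 h2
    have h4 : 2 ≤ r := hr.two_le
    nlinarith
  · rw [← pow_mul, mul_comm, ← hk]
    have : q ^ orderOf q = 1 := pow_orderOf_eq_one q
    exact (QuotientGroup.eq_one_iff (x ^ orderOf q)).1 this

theorem commutator_pow {x y : GL ι F} {r : ℕ} (hy : y ^ r ∈ scalars ι F)
    (hc : y * x * y⁻¹ * x⁻¹ ∈ scalars ι F) : (y * x * y⁻¹ * x⁻¹) ^ r = 1 := by
  set c := y * x * y⁻¹ * x⁻¹ with hcdef
  have hyx : y * x = c * (x * y) := by rw [hcdef]; group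
  have h1 : ∀ n : ℕ, y ^ n * x = c ^ n * (x * y ^ n) := by
    intro n
    induction n with
    | zero => simp
    | succ n ih =>
      calc y ^ (n + 1) * x = y ^ n * (y * x) := by rw [pow_succ, mul_assoc]
        _ = y ^ n * (c * (x * y)) := by rw [hyx]
        _ = c * (y ^ n * (x * y)) := by
          rw [← mul_assoc (y ^ n) c, ← scalars_comm hc (y ^ n), mul_assoc]
        _ = c * ((y ^ n * x) * y) := by rw [mul_assoc (y ^ n)]
        _ = c * ((c ^ n * (x * y ^ n)) * y) := by rw [ih]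
        _ = c ^ (n + 1) * (x * y ^ (n + 1)) := by
          rw [pow_succ' c, pow_succ y]; simp only [mul_assoc]
  have h2 := h1 r
  rw [scalars_comm hy x] at h2
  have h3 : 1 * (x * y ^ r) = c ^ r * (x * y ^ r) := by rw [one_mul]; exact h2
  exact (mul_right_cancel h3).symm

/-- **C6a**: a symplectic-type subgroup from a normal subgroup that is abelian modulo scalars. -/
theorem exists_symplecticType [Finite F] {H : Subgroup (GL ι F)}
    (hspan : ∀ N : Subgroup (GL ι F), N ≤ H → (∀ h ∈ H, ∀ x ∈ N, h * x * h⁻¹ ∈ N) →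
      N ≤ scalars ι F ∨ ActsAbsolutelyIrreducibly (matrixSet N))
    {N : Subgroup (GL ι F)} (hNH : N ≤ H) (hN : ∀ h ∈ H, ∀ x ∈ N, h * x * h⁻¹ ∈ N)
    (hns : ¬ N ≤ scalars ι F) (hcomm : ∀ x ∈ N, ∀ y ∈ N, x * y * x⁻¹ * y⁻¹ ∈ scalars ι F) :
    ∃ (r m : ℕ) (R : Subgroup (GL ι F)), R ≤ N ∧ (∀ h ∈ H, ∀ x ∈ R, h * x * h⁻¹ ∈ R) ∧
      H ≤ subgroupNormalizer R ∧
      ActsAbsolutelyIrreducibly (matrixSet R) ∧ IsSymplecticTypeGroup r R ∧ ringChar F ≠ r ∧
      1 ≤ m ∧ Fintype.card ι = r ^ m ∧ Subgroup.center R = (scalars ι F).subgroupOf R ∧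
      ((Odd r ∧ Nat.card (Subgroup.center R) = r ∧ Nat.card R = r ^ (1 + 2 * m)) ∨
       (r = 2 ∧ Nat.card (Subgroup.center R) = 4 ∧ Nat.card R = 2 ^ (2 + 2 * m)) ∨
       (r = 2 ∧ Nat.card (Subgroup.center R) = 2 ∧ Nat.card R = 2 ^ (1 + 2 * m))) := by
  classical
  have hne : Nonempty ι := by
    by_contra hcon
    have he : IsEmpty ι := not_nonempty_iff.1 hcon
    exact hns fun x _ => by
      have : x = 1 := by apply Units.ext; ext i; exact (he.false i).elim
      rw [this]; exact Subgroup.one_mem _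
  obtain ⟨r, hr, x₀, hx₀N, hx₀s, hx₀r⟩ := exists_prime_pow_scalar hns
  -- step 2
  set N₁ := powScalar N r hcomm with hN₁def
  have hN₁N : N₁ ≤ N := fun x hx => hx.1
  have hN₁n : ∀ h ∈ H, ∀ x ∈ N₁, h * x * h⁻¹ ∈ N₁ := by
    intro h hh x hx
    refine ⟨hN h hh x hx.1, ?_⟩
    rw [conj_pow]
    exact scalars_normal.conj_mem _ hx.2 _
  have hN₁ns : ¬ N₁ ≤ scalars ι F := fun hle => hx₀s (hle ⟨hx₀N, hx₀r⟩)
  have hN₁irr := (hspan N₁ (hN₁N.trans hNH) hN₁n).resolve_left hN₁ns
  -- step 3, 4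
  have hcomm₁ : ∀ x ∈ N₁, ∀ y ∈ N₁, x * y * x⁻¹ * y⁻¹ ∈ scalars ι F := fun x hx y hy =>
    hcomm x hx.1 y hy.1
  have hcr : ∀ x ∈ N₁, ∀ y ∈ N₁, (x * y * x⁻¹ * y⁻¹) ^ r = 1 := fun x hx y hy =>
    commutator_pow hx.2 (hcomm₁ x hx y hy)
  obtain ⟨k, hk⟩ : ∃ k, k = r * Nat.gcd 2 r := ⟨_, rfl⟩
  have hrk : r ∣ k := ⟨_, hk⟩
  have hchoose : r ∣ k.choose 2 := by
    rcases hr.eq_two_or_odd' with h2 | h2
    · subst h2
      rw [hk]
      decide
    · have hg : Nat.gcd 2 r = 1 := (Nat.coprime_two_left).2 h2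
      rw [hk, hg, mul_one, Nat.choose_two_right]
      obtain ⟨j, hj⟩ := h2
      rw [hj]
      have : (2 * j + 1) * (2 * j + 1 - 1) / 2 = (2 * j + 1) * j := by
        rw [Nat.add_sub_cancel, mul_comm 2 j, ← mul_assoc, Nat.mul_div_cancel _ (by norm_num)]
      rw [this]
      exact dvd_mul_right _ _
  have hk0 : k ≠ 0 := by
    rw [hk]
    exact mul_ne_zero hr.ne_zero (Nat.gcd_pos_of_pos_left _ (by norm_num)).ne'
  have hmul : ∀ x ∈ N₁, ∀ y ∈ N₁, (x * y) ^ k = x ^ k * y ^ k := by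
    intro x hx y hy
    have hc := hcomm₁ y hy x hx
    have hyx : y * x = (y * x * y⁻¹ * x⁻¹) * (x * y) := by group
    rw [mul_pow_of_comm hc hyx k]
    obtain ⟨j, hj⟩ := hchoose
    rw [hj, pow_mul, hcr y hy x hx, one_pow, one_mul]
  have hsck : ∀ x ∈ N₁, x ^ k ∈ scalars ι F := by
    intro x hx
    obtain ⟨j, hj⟩ := hrk
    rw [hj, pow_mul]
    exact Subgroup.pow_mem _ hx.2 _
  -- step 5
  set R := powOne N₁ k hmul with hRdef
  have hRN₁ : R ≤ N₁ := fun x hx => hx.1
  have hRn : ∀ h ∈ H, ∀ x ∈ R, h * x * h⁻¹ ∈ R := by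
    intro h hh x hx
    refine ⟨hN₁n h hh x hx.1, ?_⟩
    rw [conj_pow, hx.2]
    simp
  have hRns : ¬ R ≤ scalars ι F := by
    intro hle
    exact hN₁ns (le_scalars_of_comm hN₁irr (comm_of_powOne_le hmul hsck hle))
  have hRirr := (hspan R (hRN₁.trans (hN₁N.trans hNH)) hRn).resolve_left hRns
  have hRk : ∀ x ∈ R, x ^ k = 1 := fun x hx => hx.2
  have hRcomm : ∀ x ∈ R, ∀ y ∈ R, x * y * x⁻¹ * y⁻¹ ∈ scalars ι F := fun x hx y hy =>
    hcomm₁ x (hRN₁ hx) y (hRN₁ hy)
  -- step 6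
  obtain ⟨x₁, hx₁, y₁, hy₁, hxy⟩ : ∃ x ∈ R, ∃ y ∈ R, x * y ≠ y * x := by
    by_contra hcon
    push Not at hcon
    exact hRns (le_scalars_of_comm hRirr hcon)
  set z := x₁ * y₁ * x₁⁻¹ * y₁⁻¹ with hzdef
  have hzR : z ∈ R := R.mul_mem (R.mul_mem (R.mul_mem hx₁ hy₁) (R.inv_mem hx₁)) (R.inv_mem hy₁)
  have hzs : z ∈ scalars ι F := hRcomm x₁ hx₁ y₁ hy₁
  have hzr : z ^ r = 1 := hcr x₁ (hRN₁ hx₁) y₁ (hRN₁ hy₁)
  have hz1 : z ≠ 1 := by
    intro h
    apply hxy
    have : x₁ * y₁ = z * (y₁ * x₁) := by rw [hzdef]; group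
    rw [this, h, one_mul]
  have hcen := center_eq hRirr
  have hchar : ringChar F ≠ r := ringChar_ne_of_scalar hr hzs hzr hz1
  -- exponent
  have hexpdvd : Monoid.exponent R ∣ k := by
    apply Monoid.exponent_dvd_of_forall_pow_eq_one
    intro x
    apply Subtype.ext
    exact hRk x x.2
  have horderz : orderOf (⟨z, hzR⟩ : R) = r := by
    have h1 : (⟨z, hzR⟩ : R) ^ r = 1 := Subtype.ext hzr
    rcases (Nat.dvd_prime hr).1 (orderOf_dvd_of_pow_eq_one h1) with h2 | h2
    · exact absurd (congrArg Subtype.val (orderOf_eq_one_iff.1 h2)) hz1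
    · exact h2
  have hrexp : r ∣ Monoid.exponent R := by
    rw [← horderz]
    exact Monoid.order_dvd_exponent _
  have hexp : Monoid.exponent R = k := by
    rcases hr.eq_two_or_odd' with h2 | h2
    · subst h2
      have hk4 : k = 4 := by rw [hk]; decide
      rw [hk4] at hexpdvd ⊢
      have h4 : Monoid.exponent R ≤ 4 := Nat.le_of_dvd (by norm_num) hexpdvd
      have hne2 : Monoid.exponent R ≠ 2 := by
        intro he
        apply hxy
        have hsq : ∀ x ∈ R, x * x = 1 := by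
          intro x hx
          have := Monoid.pow_exponent_eq_one (⟨x, hx⟩ : R)
          rw [he] at this
          have := congrArg Subtype.val this
          rw [← sq]
          exact this
        have h5 := hsq _ (R.mul_mem hx₁ hy₁)
        calc x₁ * y₁ = (x₁ * y₁)⁻¹ := by rw [eq_comm, inv_eq_iff_mul_eq_one]; exact h5
          _ = y₁⁻¹ * x₁⁻¹ := mul_inv_rev _ _
          _ = y₁ * x₁ := by
            rw [inv_eq_iff_mul_eq_one.2 (hsq _ hx₁), inv_eq_iff_mul_eq_one.2 (hsq _ hy₁)]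
      interval_cases h : Monoid.exponent R
      · simp at hexpdvd
      · omega
      · exact absurd rfl hne2
      · omega
      · rfl
    · have hg : Nat.gcd 2 r = 1 := (Nat.coprime_two_left).2 h2
      rw [hg, mul_one] at hk
      subst hk
      exact Nat.dvd_antisymm hexpdvd hrexp
  have hcyc : IsCyclic (Subgroup.center R) := by
    have := isCyclic_scalars (ι := ι) (F := F)
    let f : Subgroup.center R →* scalars ι F :=
      { toFun := fun x => ⟨x, by
          have : (x : R) ∈ (scalars ι F).subgroupOf R := hcen ▸ x.2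
          exact this⟩
        map_one' := rfl
        map_mul' := fun _ _ => rfl }
    apply isCyclic_of_injective f
    intro x y hxy
    apply Subtype.ext
    apply Subtype.ext
    exact congrArg (fun w : scalars ι F => (w : GL ι F)) hxy
  have hzc : (⟨z, hzR⟩ : R) ∈ Subgroup.center R := by rw [hcen]; exact hzs
  have hcard_dvd : Nat.card (Subgroup.center R) ∣ k := by
    rw [← IsCyclic.exponent_eq_card, ← hexp]
    exact Monoid.exponent_dvd_of_forall_pow_eq_one fun x => by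
      apply Subtype.ext
      exact Monoid.pow_exponent_eq_one _
  have hr_dvd : r ∣ Nat.card (Subgroup.center R) := by
    have : orderOf (⟨⟨z, hzR⟩, hzc⟩ : Subgroup.center R) = r := by
      rw [← horderz]
      exact (Subgroup.orderOf_coe _).symm
    rw [← this]
    exact orderOf_dvd_natCard _
  -- p-group
  have hpR : IsPGroup r R := by
    intro x
    refine ⟨2, ?_⟩
    have h1 : k ∣ r ^ 2 := by
      rw [hk, sq]
      exact Nat.mul_dvd_mul_left r (Nat.gcd_dvd_right 2 r)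
    obtain ⟨j, hj⟩ := h1
    rw [hj, pow_mul]
    have : x ^ k = 1 := Subtype.ext (hRk x x.2)
    rw [this, one_pow]
  have : Fact r.Prime := ⟨hr⟩
  have hquot := card_quotient_scalars hRirr hRcomm
  obtain ⟨m, hm⟩ : ∃ m, Fintype.card ι = r ^ m := by
    have h1 : IsPGroup r (R ⧸ (scalars ι F).subgroupOf R) := hpR.to_quotient _
    obtain ⟨j, hj⟩ := IsPGroup.iff_card.1 h1
    rw [hquot] at hj
    have h2 : Fintype.card ι ∣ r ^ j := by rw [← hj, sq]; exact dvd_mul_right _ _
    obtain ⟨m, _, hm⟩ := (Nat.dvd_prime_pow hr).1 h2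
    exact ⟨m, hm⟩
  have hm1 : 1 ≤ m := by
    rcases Nat.eq_zero_or_pos m with h0 | h0
    · exfalso
      rw [h0, pow_zero] at hm
      apply hRns
      intro x hx
      obtain ⟨i, hi⟩ := Fintype.card_eq_one_iff.1 hm
      apply mem_scalars_of_val (c := (x : Matrix ι ι F) i i)
      ext a b
      rw [hi a, hi b]
      simp
    · exact h0
  have hcardR : Nat.card R = Nat.card (Subgroup.center R) * r ^ (2 * m) := by
    rw [Subgroup.card_eq_card_quotient_mul_card_subgroup ((scalars ι F).subgroupOf R), hquot, hm, hcen,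
      mul_comm, ← pow_mul, mul_comm m 2]
  refine ⟨r, m, R, hRN₁.trans hN₁N, hRn, ?_, hRirr, ⟨hr, hpR, ?_, by rw [hexp, hk]⟩, hchar, hm1, hm, hcen, ?_⟩
  · intro h hh
    rw [subgroupNormalizer, Subgroup.mem_normalizer_iff]
    intro x
    constructor
    · intro hx
      exact hRn h hh x hx
    · intro hx
      have := hRn h⁻¹ (H.inv_mem hh) _ hx
      simpa [mul_assoc] using this
  · intro A hA hAc
    have hA' := conj_mem_of_characteristic hRn A hA
    have hle : A.map R.subtype ≤ R := by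
      rintro _ ⟨x, _, rfl⟩
      exact x.2
    have hAs : A.map R.subtype ≤ scalars ι F := by
      rcases hspan _ (hle.trans (hRN₁.trans (hN₁N.trans hNH))) hA' with h | h
      · exact h
      · apply le_scalars_of_comm h
        rintro _ ⟨x, hx, rfl⟩ _ ⟨y, hy, rfl⟩
        have := hAc.is_comm.comm (⟨x, hx⟩ : A) ⟨y, hy⟩
        exact congrArg (fun w : A => ((w : R) : GL ι F)) this
    have := isCyclic_scalars (ι := ι) (F := F)
    let f : A →* scalars ι F :=
      { toFun := fun x => ⟨(x : R), hAs ⟨x, x.2, rfl⟩⟩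
        map_one' := rfl
        map_mul' := fun _ _ => rfl }
    apply isCyclic_of_injective f
    intro x y hxy
    apply Subtype.ext
    apply Subtype.ext
    exact congrArg (fun w : scalars ι F => (w : GL ι F)) hxy
  · rcases hr.eq_two_or_odd' with h2 | h2
    · right
      subst h2
      have hk4 : k = 4 := by rw [hk]; decide
      rw [hk4] at hcard_dvd
      have h4 : Nat.card (Subgroup.center R) ≤ 4 := Nat.le_of_dvd (by norm_num) hcard_dvd
      have h5 : Nat.card (Subgroup.center R) = 2 ∨ Nat.card (Subgroup.center R) = 4 := by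
        interval_cases h : Nat.card (Subgroup.center R)
        · simp at hcard_dvd
        · omega
        · left; rfl
        · omega
        · right; rfl
      rcases h5 with h5 | h5
      · right
        refine ⟨rfl, h5, ?_⟩
        rw [hcardR, h5, add_comm, pow_succ, mul_comm]
      · left
        refine ⟨rfl, h5, ?_⟩
        rw [hcardR, h5, pow_add]
        norm_num
    · left
      have hg : Nat.gcd 2 r = 1 := (Nat.coprime_two_left).2 h2
      rw [hk, hg, mul_one] at hcard_dvd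
      have h5 := Nat.dvd_antisymm hcard_dvd hr_dvd
      refine ⟨h2, h5, ?_⟩
      rw [hcardR, h5, add_comm, pow_succ, mul_comm]

end Cfsg.Agent.H920
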