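import Cfsg.Agent.H920.FiTwo

/-!
# `Orb 2 28 Fi₂₄'` (helper920)
-/

set_option autoImplicit false

namespace Cfsg.Agent.H920.FiTwo

open Cfsg Cfsg.Spor Cfsg.Agent.H921.Spor Cfsg.Agent.H921.Spor.Cox Cfsg.Agent.H921.Spor.Fi
open Cfsg.Agent.ChevalleyStructure.WeylData

section General

variable {α : Type} [DecidableEq α] {edges : List (α × ℕ × α)} {extra : List (FreeGroup α)}

theorem gn_sq {x : α} (hx : x ∈ coxNodes edges) : gn edges extra x * gn edges extra x = 1 := by
  have h2 := rel (extra := extra) hx hx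
  have h6 : coxLabel edges x x = 1 := by simp [coxLabel]
  rwa [h6, pow_one] at h2

theorem gn_comm {x y : α} (hx : x ∈ coxNodes edges) (hy : y ∈ coxNodes edges) (h2 : coxLabel edges x y = 2) :
    gn edges extra x * gn edges extra y = gn edges extra y * gn edges extra x := by
  have h1 := rel (extra := extra) hx hy
  rw [h2, pow_two] at h1
  have h3 := eq_inv_of_mul_eq_one_left h1
  rw [h3, mul_inv_rev, inv_eq_of_mul_eq_one_left (gn_sq hx), inv_eq_of_mul_eq_one_left (gn_sq hy)]

theorem gn_braid {x y : α} (hx : x ∈ coxNodes edges) (hy : y ∈ coxNodes edges) (h3 : coxLabel edges x y = 3) :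
    gn edges extra x * gn edges extra y * gn edges extra x = gn edges extra y * gn edges extra x * gn edges extra y := by
  have h1 := rel (extra := extra) hx hy
  have hx' := gn_sq (extra := extra) hx
  have hy' := gn_sq (extra := extra) hy
  rw [h3] at h1
  have h4 : gn edges extra x * gn edges extra y * gn edges extra x *
      (gn edges extra y * gn edges extra x * gn edges extra y) = 1 := by
    rw [← h1, pow_succ, pow_two]; simp only [mul_assoc]
  have h5 := eq_inv_of_mul_eq_one_left h4
  rw [h5, mul_inv_rev, mul_inv_rev, inv_eq_of_mul_eq_one_left hx', inv_eq_of_mul_eq_one_left hy', mul_assoc]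

end General

/-- the nodes of the diagram of type `E₇` -/
def f7 (a : ℕ) : Fi24.Gen := [Fi24.Gen.f, .h, .e, .d, .c, .b, .a].getD a .f

/-- the generators -/
abbrev G24 (x : Fi24.Gen) : Fi24 := gn Fi24.edges Fi24.extra x

theorem pre7 : Pre certE7 (fun a => G24 (f7 a)) := pre certE7 f7 (by decide +kernel)

theorem nodes (x : Fi24.Gen) : x ∈ coxNodes Fi24.edges := by
  cases x <;> decide

/-- the relation defining `l` -/
theorem l_eq : G24 .l = ev (fun a => G24 (f7 a)) (rp [6, 5, 4, 3, 2, 0, 1] 9) := by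
  have h1 : PresentedGroup.mk (coxRelators Fi24.edges ∪ {r | r ∈ Fi24.extra})
      (Fi24.l * (((Fi24.a * Fi24.b * Fi24.c * Fi24.d * Fi24.e * Fi24.f * Fi24.h) ^ 9)⁻¹)) = 1 :=
    PresentedGroup.one_of_mem (Or.inr (by
      change _ ∈ Fi24.extra
      unfold Fi24.extra
      exact List.mem_cons_self))
  rw [map_mul, map_inv, map_pow, map_mul, map_mul, map_mul, map_mul, map_mul, map_mul, mul_inv_eq_one] at h1
  rw [ev_rp]
  have h2 : ev (fun a => G24 (f7 a)) [6, 5, 4, 3, 2, 0, 1] =
      G24 .a * G24 .b * G24 .c * G24 .d * G24 .e * G24 .f * G24 .h := by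
    simp only [ev_cons, ev_nil, mul_one, mul_assoc]
    rfl
  rw [h2]
  exact h1

theorem comm_ev {G : Type*} [Group G] {t : ℕ → G} {g : G} {w : List ℕ} (h : ∀ a ∈ w, g * t a = t a * g) :
    g * ev t w = ev t w * g := by
  induction w with
  | nil => simp
  | cons a w ih =>
    rw [ev_cons, ← mul_assoc, h a List.mem_cons_self, mul_assoc, ih fun b hb => h b (List.mem_cons_of_mem _ hb),
      ← mul_assoc]

theorem ctx : Ctx (fun a => G24 (f7 a)) (G24 .g) where
  pre := pre7
  gg := gn_sq (nodes _)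
  gt := by
    intro a h1 h2
    have : ∀ a < 7, 1 ≤ a → coxLabel Fi24.edges .g (f7 a) = 2 := by decide
    exact gn_comm (nodes _) (nodes _) (this a h2 h1)
  g0 := gn_braid (nodes _) (nodes _) (by decide)
  gs := by
    rw [pre7.eq check5, ev_append, ← l_eq, ← mul_assoc, gn_comm (nodes .g) (nodes .l) (by decide), mul_assoc,
      mul_assoc]
    congr 1
    apply comm_ev
    intro a ha
    have h1 : ∀ a ∈ rp [6, 5, 4, 3, 2, 1] 5, coxLabel Fi24.edges .g (f7 a) = 2 := by decide
    exact gn_comm (nodes _) (nodes _) (h1 a ha)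

theorem pair_mem {a b : ℕ} (ha : a < 7) (hb : b < 7) : G24 (f7 a) * G24 (f7 b) ∈ commutator Fi24 := by
  have hp : ∀ a < 7, a ≠ 1 → ∃ i < 10, f7 a = f24 i := by decide
  have hd : ∃ i < 10, Fi24.Gen.d = f24 i := ⟨5, by norm_num, rfl⟩
  -- everything is related to `d`
  have key : ∀ a < 7, G24 (f7 a) * G24 .d ∈ commutator Fi24 := by
    intro a ha
    by_cases h1 : a = 1
    · subst h1
      exact adj_mem (nodes _) (nodes _) (by decide)
    · obtain ⟨i, hi, h2⟩ := hp a ha h1
      obtain ⟨j, hj, h3⟩ := hd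
      rw [h2, h3]
      exact Fi24_mem i hi j hj
  have h1 := Subgroup.mul_mem _ (key a ha) (Subgroup.inv_mem _ (key b hb))
  rw [mul_inv_rev, mul_assoc, mul_inv_cancel_left, inv_eq_of_mul_eq_one_left (gn_sq (nodes (f7 b)))] at h1
  exact h1

/-- **The configuration at 2.** -/
theorem fi24_two (hnc : ∃ g h : Fi24', g * h ≠ h * g) : Orb 2 28 Fi24' := by
  have hK : ∀ a < 7, ∀ b < 7, G24 (f7 a) * G24 (f7 b) ∈ commutator Fi24 := fun a ha b hb => pair_mem ha hb
  have hg : G24 .g * G24 (f7 0) ∈ commutator Fi24 := adj_mem (nodes _) (nodes _) (by decide)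
  have hTK : T (fun a => G24 (f7 a)) (G24 .g) ∈ commutator Fi24 := by
    have h1 : T (fun a => G24 (f7 a)) (G24 .g) =
        (G24 .g * G24 (f7 0)) * ev (fun a => G24 (f7 a)) (0 :: ths) := by
      unfold T
      rw [ev_cons, mul_assoc, ← mul_assoc (G24 (f7 0)) (G24 (f7 0)), gn_sq (nodes (f7 0)), one_mul]
    rw [h1]
    exact Subgroup.mul_mem _ hg (mem_of_even' (t := fun a => G24 (f7 a)) hK _ (by decide))
  refine orb_two ctx ?_ ?_ ?_
  · intro hT
    -- `g = ths`
    have h1 : G24 .g = ev (fun a => G24 (f7 a)) ths := by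
      unfold T at hT
      rw [← inv_eq_of_mul_eq_one_left ctx.ss]
      exact eq_inv_of_mul_eq_one_left hT
    have h2 : G24 .j * G24 .g = G24 .g * G24 .j := by
      rw [h1]
      apply comm_ev
      intro a ha
      have h3 : ∀ a ∈ ths, coxLabel Fi24.edges .j (f7 a) = 2 := by decide
      exact gn_comm (nodes _) (nodes _) (h3 a ha)
    have h3 := gn_braid (extra := Fi24.extra) (nodes .g) (nodes .j) (by decide)
    have h4 : G24 .g * G24 .j ≠ 1 :=
      ne_of_nc (Fi24_nc hnc) .g .j 11 (by decide) (by decide) (by intro x; cases x <;> decide)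
    apply h4
    have e1 : G24 .g * G24 .j * G24 .g = G24 .j := by
      rw [← h2, mul_assoc, gn_sq (nodes .g), mul_one]
    have e2 : G24 .j * G24 .g * G24 .j = G24 .g := by
      rw [h2, mul_assoc, gn_sq (nodes .j), mul_one]
    have e3 : G24 .j = G24 .g := e1.symm.trans (h3.trans e2)
    rw [e3]
    exact gn_sq (nodes .g)
  · intro i
    unfold X u
    exact (inferInstance : (commutator Fi24).Normal).conj_mem _ hTK _
  · intro w hw
    exact mem_of_even' (t := fun a => G24 (f7 a)) hK _ (List.all_eq_true.1 checkSW w hw)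

end Cfsg.Agent.H920.FiTwo
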