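import Cfsg.Agent.H915.LD
import Cfsg.Agent.H920.Trace

/-!
# Dimension nine: tensor products of two 3-dimensional matrices (helper920)
-/

set_option autoImplicit false

namespace Cfsg.Agent.H920.Nine

open Cfsg Cfsg.Geo Matrix
open scoped Kronecker

variable {F : Type*} [Field F]

/-- `a ⊗ b` as a `9 × 9` matrix -/
def kron9 (a b : Matrix (Fin 3) (Fin 3) F) : Matrix (Fin 9) (Fin 9) F :=
  Matrix.reindex finProdFinEquiv finProdFinEquiv (a ⊗ₖ b)

theorem kron9_apply (a b : Matrix (Fin 3) (Fin 3) F) (i j k l : Fin 3) :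
    kron9 a b (finProdFinEquiv (i, j) : Fin (3 * 3)) (finProdFinEquiv (k, l) : Fin (3 * 3)) = a i k * b j l := by
  unfold kron9
  rw [Matrix.reindex_apply, Matrix.submatrix_apply, Equiv.symm_apply_apply, Equiv.symm_apply_apply]
  rfl

theorem kron9_mul (a b a' b' : Matrix (Fin 3) (Fin 3) F) : kron9 (a * a') (b * b') = kron9 a b * kron9 a' b' := by
  unfold kron9
  rw [Matrix.mul_kronecker_mul, Matrix.reindex_apply, Matrix.reindex_apply, Matrix.reindex_apply,
    Matrix.submatrix_mul_equiv]

theorem kron9_one : kron9 (1 : Matrix (Fin 3) (Fin 3) F) 1 = 1 := by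
  unfold kron9
  rw [Matrix.one_kronecker_one, Matrix.reindex_apply]
  exact Matrix.submatrix_one_equiv _

theorem trace_kron9 (a b : Matrix (Fin 3) (Fin 3) F) : (kron9 a b).trace = a.trace * b.trace := by
  unfold kron9
  rw [← Matrix.trace_kronecker]
  rw [Matrix.reindex_apply]
  exact Fintype.sum_equiv (finProdFinEquiv (m := 3) (n := 3)).symm _ _ (fun x => rfl)

end Cfsg.Agent.H920.Nine
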