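import Cfsg.Prelude.Def_GeometricClasses

/-!
# Absolutely irreducible matrix groups: spanning (Burnside), scalars (helper920)

* `adjoin_eq_top` : a set of matrices acting absolutely irreducibly generates the full matrix algebra;
* `span_eq_top` : the matrices of an absolutely irreducible subgroup of `GL(ι, F)` span the matrix algebra.
-/

set_option autoImplicit false

namespace Cfsg.Agent.H920

open Cfsg.Geo Matrix

variable {ι : Type} [Fintype ι] [DecidableEq ι] {F : Type*} [Field F]

/-- Burnside's theorem: a set of matrices acting absolutely irreducibly generates the matrix algebra. -/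
theorem adjoin_eq_top {S : Set (Matrix ι ι F)} (h : ActsAbsolutelyIrreducibly S) :
    Algebra.adjoin F S = ⊤ := by
  classical
  rcases isEmpty_or_nonempty ι with he | hne
  · rw [eq_top_iff]
    rintro a -
    have : a = 0 := by ext i; exact (he.false i).elim
    rw [this]
    exact Subalgebra.zero_mem _
  obtain ⟨hirr, hcomm⟩ := h
  let φ : Matrix ι ι F ≃ₐ[F] Module.End F (ι → F) := Matrix.toLinAlgEquiv'
  have hφ : ∀ (M : Matrix ι ι F), φ M = Matrix.toLin' M := fun M => rfl
  set A' : Subalgebra F (Module.End F (ι → F)) := (Algebra.adjoin F S).map φ.toAlgHom with hA'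
  have hmem : ∀ M ∈ S, φ M ∈ A' := fun M hM =>
    ⟨M, Algebra.subset_adjoin hM, rfl⟩
  have hsimple : IsSimpleModule A' (ι → F) := by
    refine { exists_pair_ne := ⟨⊥, ⊤, bot_ne_top⟩, eq_bot_or_eq_top := fun W => ?_ }
    have hW : ∀ s ∈ S, (W.restrictScalars F).map (Matrix.toLin' s) ≤ W.restrictScalars F := by
      rintro s hs _ ⟨v, hv, rfl⟩
      exact W.smul_mem ⟨φ s, hmem s hs⟩ hv
    rcases hirr (W.restrictScalars F) hW with h | h
    · left
      exact (Submodule.restrictScalars_eq_bot_iff F A' (ι → F)).1 h
    · right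
      exact (Submodule.restrictScalars_eq_top_iff F A' (ι → F)).1 h
  have hend : ∀ ψ : Module.End A' (ι → F), ∃ c : F, ∀ v, ψ v = c • v := by
    intro ψ
    let ψ' : Module.End F (ι → F) := ψ.restrictScalars F
    obtain ⟨c, hc⟩ := hcomm (φ.symm ψ') (by
      intro s hs
      apply φ.injective
      rw [map_mul, map_mul, AlgEquiv.apply_symm_apply]
      ext1
      apply LinearMap.ext
      intro v
      have := ψ.map_smul ⟨φ s, hmem s hs⟩ (Pi.single ‹ι› v)
      exact this)
    refine ⟨c, fun v => ?_⟩
    have : ψ' = φ (c • 1) := by rw [← hc, AlgEquiv.apply_symm_apply]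
    have h2 := LinearMap.congr_fun this v
    rw [map_smul, map_one] at h2
    exact h2
  rw [eq_top_iff]
  rintro a -
  let f : Module.End (Module.End A' (ι → F)) (ι → F) :=
    { toFun := φ a
      map_add' := map_add (φ a)
      map_smul' := by
        intro ψ v
        obtain ⟨c, hc⟩ := hend ψ
        change φ a (ψ v) = ψ (φ a v)
        rw [hc, hc, map_smul] }
  obtain ⟨r, hr⟩ := jacobson_density (R := A') (M := ι → F) f (Finset.univ.image (Pi.basisFun F ι))
  have h1 : φ a = (r : Module.End F (ι → F)) := by
    apply (Pi.basisFun F ι).ext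
    intro i
    exact hr (Pi.basisFun F ι i) (Finset.mem_image_of_mem _ (Finset.mem_univ _))
  obtain ⟨b, hb, hbr⟩ := r.2
  have h2 : φ b = φ a := by rw [h1]; exact hbr
  rw [← φ.injective h2]
  exact hb

theorem span_matrixSet_eq_adjoin (R : Subgroup (GL ι F)) :
    Submodule.span F (matrixSet R) = Subalgebra.toSubmodule (Algebra.adjoin F (matrixSet R)) := by
  rw [Algebra.adjoin_eq_span]
  congr 1
  apply le_antisymm
  · exact Submonoid.subset_closure
  · intro x hx
    induction hx using Submonoid.closure_induction with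
    | mem x hx => exact hx
    | one => exact ⟨1, R.one_mem, by simp⟩
    | mul x y _ _ hx hy =>
      obtain ⟨g, hg, rfl⟩ := hx
      obtain ⟨k, hk, rfl⟩ := hy
      exact ⟨g * k, R.mul_mem hg hk, by simp⟩

theorem span_eq_top {R : Subgroup (GL ι F)} (h : ActsAbsolutelyIrreducibly (matrixSet R)) :
    Submodule.span F (matrixSet R) = ⊤ := by
  rw [span_matrixSet_eq_adjoin, adjoin_eq_top h]
  rfl

end Cfsg.Agent.H920
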