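import Cfsg.Agent.H920.NineForm
import Cfsg.Agent.H887.DS.Nine
import Cfsg.Agent.H905.MdP
import Cfsg.Agent.H218.SdDC
import Cfsg.Agent.H927.LDTwF4

/-!
# Dimension nine: defining characteristic (helper920)
-/

set_option autoImplicit false
set_option linter.unusedSectionVars false
set_option linter.style.haveILetI false

namespace Cfsg.Agent.H920.Nine

open Cfsg Cfsg.Geo Matrix
open H915.LD (Core Soc tr SD Fr Cj)

universe u

variable {F : Type u} [Field F] [Fintype F] {P : Subgroup (GL (Fin 9) F)} (p : ℕ) [hp : Fact p.Prime] [hFp : CharP F p]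

/-- `P = {x ⊗ α x}` -/
def FormA (P : Subgroup (GL (Fin 9) F)) : Prop :=
  ∃ (α : F ≃+* F) (g : GL (Fin 9) F), α ≠ RingEquiv.refl F ∧ ∀ y, y ∈ P ↔
    ∃ x : SpecialLinearGroup (Fin 3) F, (y : Matrix (Fin 9) (Fin 9) F) =
      (g : Matrix (Fin 9) (Fin 9) F) * kron9 x.1 (x.1.map α) * ((g⁻¹ : GL (Fin 9) F) : Matrix (Fin 9) (Fin 9) F)

/-- `P = {x ⊗ α x⁻ᵀ}` -/
def FormB (P : Subgroup (GL (Fin 9) F)) : Prop :=
  ∃ (α : F ≃+* F) (g : GL (Fin 9) F), α ≠ RingEquiv.refl F ∧ ∀ y, y ∈ P ↔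
    ∃ x : SpecialLinearGroup (Fin 3) F, (y : Matrix (Fin 9) (Fin 9) F) =
      (g : Matrix (Fin 9) (Fin 9) F) * kron9 x.1 (((x⁻¹).1.map α)ᵀ) *
        ((g⁻¹ : GL (Fin 9) F) : Matrix (Fin 9) (Fin 9) F)

/-- the possibilities in the defining characteristic -/
def Dc9 (p : ℕ) (P : Subgroup (GL (Fin 9) F)) : Prop :=
  P = specialLinear (Fin 9) F ∨
  (∃ (K : Type) (_ : Field K) (_ : Fintype K), Nonempty (Soc P ≃* ProjectiveSpecialLinearGroup (Fin 3) K) ∧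
    ((Fintype.card K = Fintype.card F ^ 2 ∧ ∀ Q, Q ≠ 0 → ¬ Cj P Q) ∨
     (Fintype.card K = Fintype.card F ∧ FormA P ∧ ∀ Q, Q ≠ 0 → ¬ Cj P Q) ∨
     (Fintype.card K = Fintype.card F ∧ FormB P))) ∨
  (∃ (K : Type) (_ : Field K) (_ : Fintype K) (_ : CharP K p) (N q : ℕ),
    Fintype.card K = q ^ 2 ∧ 3 ≤ N ∧ N ≤ 9 ∧ ¬ (N = 3 ∧ q = 2) ∧ Nonempty (Soc P ≃* PSU N K q) ∧ Cj P q)

include hFp hp in
/-- `T = PSL_3` -/
theorem dc_three (hC : Core P) {K : Type} [Field K] [Fintype K] [CharP K p]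
    (e : Soc P ≃* ProjectiveSpecialLinearGroup (Fin 3) K) :
    ((Fintype.card K = Fintype.card F ^ 2 ∧ ∀ Q, Q ≠ 0 → ¬ Cj P Q) ∨
     (Fintype.card K = Fintype.card F ∧ FormA P ∧ ∀ Q, Q ≠ 0 → ¬ Cj P Q) ∨
     (Fintype.card K = Fintype.card F ∧ FormB P)) := by
  obtain ⟨φ, hφ, -, -, σ, τ, hne, h⟩ := H887.DS.nine p hC e (by simp)
  rcases h with h | h
  · have hA : TypA φ σ τ := h
    rcases card_A p hC hφ hne hA with h1 | h1
    · left
      rw [Nat.card_eq_fintype_card, Nat.card_eq_fintype_card] at h1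
      exact ⟨h1, fun Q hQ => not_cj_of_A hφ hA hQ⟩
    · right; left
      refine ⟨?_, form_A hC hφ hne hA h1, fun Q hQ => not_cj_of_A hφ hA hQ⟩
      rwa [Nat.card_eq_fintype_card, Nat.card_eq_fintype_card] at h1
  · have hB : TypB φ σ τ := h
    have h1 := card_B p hC hφ hB
    right; right
    refine ⟨?_, form_B hC hφ hne hB h1⟩
    rwa [Nat.card_eq_fintype_card, Nat.card_eq_fintype_card] at h1

include hFp hp in
theorem dc (hC : Core P) (hsd : ¬ SD P) (h : IsLieTypeChar p (Soc P)) : Dc9 p P := by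
  have hs := hC.simple
  have h9 : Fintype.card (Fin 9) = 9 := by simp
  haveI : Nonempty (Fin 9) := ⟨0⟩
  rcases H218.SdDC.sd_dc p hC (by simp) h with h1 | ⟨K, i1, i2, i3, l, hl, h4, ⟨e⟩⟩ |
    ⟨K, i1, i2, i3, N, q, hK, hN, hN9, h32, ⟨e⟩⟩ | ⟨-, h2, h3⟩
  · exact (hsd h1).elim
  · rcases (show l = 1 ∨ 2 ≤ l by omega) with rfl | hl2
    · exact (hsd fun g hg => H905.Md.psl_two p hC.absIrred hC.perfect (h4 rfl) e hg).elim
    · have h5 := H905.Md.psl_rank p hC.absIrred hC.perfect hl h4 e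
      rw [h9] at h5
      rcases (show l + 1 = 9 ∨ l + 1 < 9 by omega) with h6 | h6
      · exact Or.inl (H905.Md.psl_eq p hC.absIrred hC.perfect hl h4 e hC.no_subfield h6.symm).2
      · have h7 := H887.DS.dim_cases p hC (m := l + 1) (by omega) (by rw [h9]; exact h6) (by rw [h9]; norm_num) e
        rw [h9] at h7
        obtain rfl : l = 2 := by omega
        exact Or.inr (Or.inl ⟨K, i1, i2, ⟨e⟩, dc_three p hC e⟩)
  · rw [h9] at hN9
    refine Or.inr (Or.inr ⟨K, i1, i2, i3, N, q, hK, hN, by omega, h32, ⟨e⟩, fun g hg => ?_⟩)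
    exact ((H905.Md.psu_both p hC.absIrred hC.perfect hN hK h32 e hg).2).symm
  · have h4 := H927.LDTwF4.card_le_iso h2 hC.perfect h3
    rw [h9] at h4
    omega

end Cfsg.Agent.H920.Nine
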