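import Cfsg.Agent.H920.NineSU
import Cfsg.Agent.H887.DS.Nine
import Cfsg.Agent.H929.UThreeModel

/-!
# Dimension nine: `PSU_3(q)` in its own characteristic (helper920)

* `typU` : the traces are `σ(tr x) τ(tr x)`;
* `dc_u3` : explicit form.
-/

set_option autoImplicit false
set_option linter.unusedSectionVars false
set_option linter.style.haveILetI false

namespace Cfsg.Agent.H920.Nine

open Cfsg Cfsg.Geo Matrix
open H905.Md H911
open LieClassical.HermSiegel LieClassical.HermBasic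
open H915.LD (Core Soc tr SD Fr Cj)

universe u

variable {F : Type u} [Field F] [Fintype F] {P : Subgroup (GL (Fin 9) F)}

/-- `P = {x ⊗ α x : x ∈ SU_3}` -/
def FormU (P : Subgroup (GL (Fin 9) F)) (q : ℕ) : Prop :=
  ∃ (α : F ≃+* F) (g : GL (Fin 9) F), α ≠ RingEquiv.refl F ∧ (¬ ∀ x, α x = x ^ q) ∧ ∀ y, y ∈ P ↔
    ∃ x ∈ SU 3 F q, (y : Matrix (Fin 9) (Fin 9) F) =
      (g : Matrix (Fin 9) (Fin 9) F) * kron9 x.1 (x.1.map α) * ((g⁻¹ : GL (Fin 9) F) : Matrix (Fin 9) (Fin 9) F)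

theorem typU (p : ℕ) [hp : Fact p.Prime] [hFp : CharP F p] {E : Type} [Field E] [Fintype E] [hEp : CharP E p] {q : ℕ}
    (hC : Core P) (hsd : ¬ SD P) (hq3 : 3 ≤ q) (hE : Fintype.card E = q ^ 2) (e : Soc P ≃* PSU 3 E q) :
    ∃ φ : SU 3 E q →* GL (Fin 9) F, φ.range = P ∧ ∃ σ τ : E →+* AlgebraicClosure F, σ ≠ τ ∧
      (¬ ∀ a, τ a = σ a ^ q) ∧ TypU φ σ τ := by
  have hn : Fintype.card (Fin 9) ≤ 12 := by simp
  have h9 : Fintype.card (Fin 9) = 9 := by simp
  obtain ⟨D⟩ := H929.U3.core_model p hC hq3 hE e hn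
  haveI hchar : CharP (AlgebraicClosure F) p := charP_of_injective_algebraMap (algebraMap F _).injective p
  obtain ⟨i, hi0, hif, hb⟩ : ∃ i, 0 < i ∧ i < D.f ∧ D.b = 1 + p ^ i := by
    rcases D.good with h | h | h | ⟨i, h1, h2, h3, -⟩ | h
    · omega
    · omega
    · omega
    · exact ⟨i, h1, h2, h3⟩
    · exact (hsd ((D.sd_iff p hC hq3 hE hn).2 (by rw [h, ← D.hq]))).elim
  -- the embeddings
  have emb : ∀ k, ∃ σ : E →+* AlgebraicClosure F, ∀ x, σ x = D.j x ^ p ^ k := fun k =>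
    H887.DS.iterate_emb p D.j k
  obtain ⟨σ, hσ⟩ := emb D.f
  obtain ⟨τ, hτ⟩ := emb (D.f + i)
  have hcard : Nat.card E = p ^ (2 * D.f) := by
    rw [Nat.card_eq_fintype_card, hE]
    refine (congrArg (fun t => t ^ 2) D.hq).trans ?_
    rw [← pow_mul, mul_comm]
  have hqy : ∀ y : AlgebraicClosure F, y ^ q = y ^ p ^ D.f := fun y => congrArg (fun t => y ^ t) D.hq
  have hτσ : ∀ x, τ x = σ x ^ p ^ i := by
    intro x
    rw [hσ, hτ, ← pow_mul, ← pow_add]
  have hne : σ ≠ τ := by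
    rintro h
    have h1 : ∀ a : E, a ^ p ^ i = a := by
      intro a
      apply σ.injective
      rw [map_pow, ← hτσ, h]
    have h2 := dvd_of_pow_eq hp.out hcard h1
    have h3 := Nat.le_of_dvd hi0 h2
    omega
  have hne' : ¬ ∀ a, τ a = σ a ^ q := by
    intro h
    have h1 : ∀ a : E, a ^ p ^ (D.f - i) = a := by
      intro a
      have h2 : (a ^ p ^ (D.f - i)) ^ p ^ i = a ^ p ^ i := by
        rw [← pow_mul, ← pow_add, Nat.sub_add_cancel hif.le]
        apply σ.injective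
        rw [map_pow, map_pow, ← hτσ, h, hqy]
      have h3 : Function.Injective (iterateFrobenius E p i) := iterateFrobenius_inj E p i
      apply h3
      rw [iterateFrobenius_def, iterateFrobenius_def, h2]
    have h2 := dvd_of_pow_eq hp.out hcard h1
    have h3 := Nat.le_of_dvd (by omega) h2
    omega
  refine ⟨D.rep, D.range_rep, σ, τ, hne, hne', fun x => ?_⟩
  -- the coefficient function
  have hirr : ∀ L : Submodule (AlgebraicClosure F) (Fin 9 → AlgebraicClosure F),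
      (∀ g, ∀ w ∈ L, lin (acRep D.rep) g w ∈ L) → L = ⊥ ∨ L = ⊤ := by
    intro L hL
    exact acRep_irr D.range_rep (H920.span_eq_top hC.absIrred) (H := ⊤) rfl L (fun g _ w hw => hL g w hw)
  let ψ : Module.Dual (AlgebraicClosure F) (Fin 9 → AlgebraicClosure F) :=
    { toFun := fun w => D.ψ ⬝ᵥ w
      map_add' := fun a b => dotProduct_add _ _ _
      map_smul' := fun c a => dotProduct_smul _ _ _ }
  have hψ0 : ψ ≠ 0 := by
    intro h0
    have h1 := D.coef 1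
    have h2 : ψ (acRep D.rep 1⁻¹ *ᵥ D.v) = 0 := by rw [h0]; rfl
    -- `ψ` vanishes everywhere: contradiction with `wt`
    exact D.wt.1 (by
      have h3 : ∀ w, D.ψ ⬝ᵥ w = 0 := fun w => by
        have : ψ w = 0 := by rw [h0]; rfl
        exact this
      exact dotProduct_eq_zero _ h3)
  let ρ₂ : SU 3 E q →* Matrix (Fin 3 × Fin 3) (Fin 3 × Fin 3) (AlgebraicClosure F) :=
    (H887.DS.kr σ τ (MonoidHom.id _) (MonoidHom.id _)).comp (SU 3 E q).subtype
  let ψ₂ : Module.Dual (AlgebraicClosure F) (Fin 3 × Fin 3 → AlgebraicClosure F) :=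
    { toFun := fun w => (fun s : Fin 3 × Fin 3 => σ (D.e₀ s.1) ^ q * τ (D.e₀ s.2) ^ q) ⬝ᵥ w
      map_add' := fun a b => dotProduct_add _ _ _
      map_smul' := fun c a => dotProduct_smul _ _ _ }
  let v₂ : Fin 3 × Fin 3 → AlgebraicClosure F := fun s => σ (D.e₀ s.1) * τ (D.e₀ s.2)
  have hcoef : ∀ g, ψ (lin (acRep D.rep) g D.v) = ψ₂ (lin ρ₂ g v₂) := by
    intro g
    have h1 := D.coef g⁻¹
    rw [inv_inv] at h1
    have h2 : ψ (lin (acRep D.rep) g D.v) = D.j (hermForm 3 E q (act g⁻¹ D.e₀) D.e₀) ^ D.b := by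
      rw [lin_apply]
      exact h1
    have h3 : hermForm 3 E q (act g⁻¹ D.e₀) D.e₀ = hermForm 3 E q (act g D.e₀) D.e₀ ^ q := by
      rw [herm_act_left, inv_inv, herm_swap hE]
    have h4 : ψ (lin (acRep D.rep) g D.v) = σ (hermForm 3 E q (act g D.e₀) D.e₀) *
        τ (hermForm 3 E q (act g D.e₀) D.e₀) := by
      rw [h2, h3, hb, hσ, hτ, map_pow, hqy, pow_add p, ← pow_mul, mul_add, mul_one, pow_add]
    have h5 : ∀ χ : E →+* AlgebraicClosure F, χ (hermForm 3 E q (act g D.e₀) D.e₀) =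
        ∑ a, χ (D.e₀ a) ^ q * ((g.1.1.map χ) *ᵥ (fun b => χ (D.e₀ b))) a := by
      intro χ
      rw [hermForm, map_sum]
      refine Finset.sum_congr rfl fun a _ => ?_
      rw [map_mul, map_pow, mul_comm]
      congr 1
      change χ (∑ b, g.1.1 a b * D.e₀ b) = ∑ b, χ (g.1.1 a b) * χ (D.e₀ b)
      rw [map_sum]
      exact Finset.sum_congr rfl fun b _ => map_mul χ _ _
    rw [h4, h5 σ, h5 τ, lin_apply]
    change _ = ∑ s : Fin 3 × Fin 3, (σ (D.e₀ s.1) ^ q * τ (D.e₀ s.2) ^ q) *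
      ∑ t : Fin 3 × Fin 3, (σ (g.1.1 s.1 t.1) * τ (g.1.1 s.2 t.2)) * (σ (D.e₀ t.1) * τ (D.e₀ t.2))
    rw [Finset.sum_mul_sum, ← Finset.univ_product_univ, Finset.sum_product]
    refine Finset.sum_congr rfl fun a _ => Finset.sum_congr rfl fun b _ => ?_
    rw [Finset.sum_product]
    have h6 : (∑ c, ∑ d, (σ (g.1.1 a c) * τ (g.1.1 b d)) * (σ (D.e₀ c) * τ (D.e₀ d))) =
        ((g.1.1.map σ) *ᵥ (fun b => σ (D.e₀ b))) a * ((g.1.1.map τ) *ᵥ (fun b => τ (D.e₀ b))) b := by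
      change _ = (∑ c, σ (g.1.1 a c) * σ (D.e₀ c)) * (∑ d, τ (g.1.1 b d) * τ (D.e₀ d))
      rw [Finset.sum_mul_sum]
      exact Finset.sum_congr rfl fun c _ => Finset.sum_congr rfl fun d _ => by ring
    rw [h6]
    ring
  have h1 := H887.DS.trace_of_coef' hirr (ρ₂ := lin ρ₂) (φ₂ := ψ₂) (v₂ := v₂) hψ0 D.v_ne
    (by rw [Module.finrank_fintype_fun_eq_card, Module.finrank_fintype_fun_eq_card, h9]; rfl) hcoef x
  rw [trace_lin, trace_lin, trace_acRep] at h1
  rw [h1]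
  exact H887.DS.kr_trace σ τ _ _ _

/-- explicit form of `PSU_3(K)` in its own characteristic, when `P ≤ GU_9(q)` -/
theorem dc_u3 (p : ℕ) [hp : Fact p.Prime] [hFp : CharP F p] {E : Type} [Field E] [Fintype E] [hEp : CharP E p] {q q₀ : ℕ}
    (hF : Fintype.card F = q ^ 2) (hC : Core P) (hsd : ¬ SD P) (hq3 : 3 ≤ q₀) (hE : Fintype.card E = q₀ ^ 2)
    (e : Soc P ≃* PSU 3 E q₀) (hcj : Cj P q₀) : FormU P q := by
  obtain ⟨φ, hφ, σ, τ, hne, hne', h⟩ := typU p hC hsd hq3 hE e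
  have hcard := card_U p hE hC hsd hcj hφ hne h
  have hq : q₀ = q := by
    rw [Nat.card_eq_fintype_card, Nat.card_eq_fintype_card, hF, hE] at hcard
    exact Nat.pow_left_injective two_ne_zero hcard
  subst hq
  exact form_U hC hφ hne hne' h hcard

end Cfsg.Agent.H920.Nine
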