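import Cfsg.Agent.H920.NineCross2
import Cfsg.Agent.H920.NineDC
import Cfsg.Agent.H920.NineU3
import Cfsg.Agent.H48.NatSUEq
import Cfsg.Agent.H108.Nine.SL
import Cfsg.Agent.H108.Nine.SU
import Cfsg.Agent.H956.K1.Final

/-!
# Dimension nine: assembly (helper920)
-/

set_option autoImplicit false
set_option linter.unusedSectionVars false
set_option linter.style.haveILetI false

namespace Cfsg.Agent.H920.Nine

open Cfsg Cfsg.Geo Matrix
open H915.LD (Core Soc tr SD Fr Cj)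

universe u

variable {F : Type u} [Field F] [Fintype F] {H P : Subgroup (GL (Fin 9) F)}

theorem lin_concl (hH : IsMaximalIn (specialLinear (Fin 9) F) H) (hR : IsResidualCore H P) (hC : Core P)
    (hsd : ¬ SD P) (hcj : ∀ (p : ℕ) (_ : Fact p.Prime) (_ : CharP F p) (k : ℕ), ¬ Cj P (p ^ k))
    (hk : IsKnownSimple' (Soc P)) :
    (Nonempty (Soc P ≃* alternatingGroup (Fin 7)) ∧ Fintype.card F = 7) ∨
    (Nonempty (Soc P ≃* Matrix.ProjectiveSpecialLinearGroup (Fin 2) (ZMod 19)) ∧ (Fintype.card F).Prime ∧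
      (Fintype.card F % 19 = 1 ∨ Fintype.card F % 19 = 4 ∨ Fintype.card F % 19 = 5 ∨ Fintype.card F % 19 = 6 ∨
        Fintype.card F % 19 = 7 ∨ Fintype.card F % 19 = 9 ∨ Fintype.card F % 19 = 11 ∨ Fintype.card F % 19 = 16 ∨
        Fintype.card F % 19 = 17)) ∨
    (∃ (K : Type) (_ : Field K) (_ : Fintype K), Fintype.card K = Fintype.card F ^ 2 ∧
      Nonempty (Soc P ≃* Matrix.ProjectiveSpecialLinearGroup (Fin 3) K)) := by
  obtain ⟨p, hFp⟩ := CharP.exists F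
  have hpp := CharP.char_is_prime F p
  haveI hp : Fact p.Prime := ⟨hpp⟩
  have hcj1 : ¬ Cj P p := by
    have := hcj p hp hFp 1
    rwa [pow_one] at this
  by_cases hL : IsLieTypeChar p (Soc P)
  · rcases dc p hC hsd hL with h | ⟨K, i1, i2, ⟨e⟩, h⟩ | ⟨K, i1, i2, i3, N, q, hK, -, -, -, -, h⟩
    · exfalso
      have h1 := hH.1
      exact absurd (h ▸ hR.le) (not_le_of_gt h1)
    · rcases h with ⟨h1, -⟩ | ⟨-, h1, -⟩ | ⟨-, h1⟩
      · exact Or.inr (Or.inr ⟨K, i1, i2, h1, ⟨e⟩⟩)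
      · obtain ⟨α, g, hα, h1⟩ := h1
        exact (H108.Nine.k3a hR α g hH hα h1).elim
      · obtain ⟨α, g, hα, h1⟩ := h1
        exact (H108.Nine.k3b hR α g hH hα h1).elim
    · exfalso
      obtain ⟨k, rfl⟩ := exists_q_pow (F := K) p hK
      exact hcj p hp hFp k h
  · rcases cross' p hC hsd hk hL with ⟨K, i1, i2, h5, h9, hpK, ⟨e⟩⟩ | ⟨h3, ⟨e⟩⟩ | ⟨e, h7, hfr⟩ | ⟨-, h2, h⟩
    · exact Or.inr (Or.inl (l2_lin p hC hsd hcj1 h5 h9 hpK e))
    · exact (H956.K1.not_core_linear p h3 hH hR e hsd).elim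
    · left
      subst h7
      exact ⟨e, hC.card_eq 7 hfr⟩
    · subst h2
      exact (hcj1 h).elim

theorem uni_concl {q : ℕ} (hF : Fintype.card F = q ^ 2)
    (hH : IsMaximalIn (Cfsg.GU 9 F q ⊓ specialLinear (Fin 9) F) H) (hR : IsResidualCore H P) (hC : Core P)
    (hsd : ¬ SD P) (hk : IsKnownSimple' (Soc P)) :
    (Nonempty (Soc P ≃* Matrix.ProjectiveSpecialLinearGroup (Fin 2) (ZMod 19)) ∧ q.Prime ∧ q ≠ 2 ∧
      (q % 19 = 2 ∨ q % 19 = 3 ∨ q % 19 = 8 ∨ q % 19 = 10 ∨ q % 19 = 12 ∨ q % 19 = 13 ∨ q % 19 = 14 ∨ q % 19 = 15 ∨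
        q % 19 = 18)) ∨
    (Cfsg.Spor.IsoJ3 (Soc P) ∧ q = 2) ∨
    Nonempty (Soc P ≃* Matrix.ProjectiveSpecialLinearGroup (Fin 3) F) := by
  obtain ⟨p, hFp⟩ := CharP.exists F
  have hpp := CharP.char_is_prime F p
  haveI hp : Fact p.Prime := ⟨hpp⟩
  have hPU : P ≤ Cfsg.GU 9 F q := fun g hg => (hH.1.le (hR.le hg)).1
  have hcjq : Cj P q := cj_of_le_GU hF hPU
  have hq0 : q ≠ 0 := by
    rintro rfl
    have := Fintype.card_pos (α := F)
    omega
  by_cases hL : IsLieTypeChar p (Soc P)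
  · rcases dc p hC hsd hL with h | ⟨K, i1, i2, ⟨e⟩, h⟩ | ⟨K, i1, i2, i3, N, q₀, hK, hN3, hN9, h32, ⟨e⟩, h⟩
    · exfalso
      have h1 := hH.1
      exact absurd (le_trans inf_le_right (h ▸ hR.le)) (not_le_of_gt h1)
    · rcases h with ⟨-, h1⟩ | ⟨-, -, h1⟩ | ⟨h1, -⟩
      · exact (h1 q hq0 hcjq).elim
      · exact (h1 q hq0 hcjq).elim
      · right; right
        exact ⟨e.trans (LieClassical.SmallIso.pslCongr (Fin 3) (FiniteField.ringEquivOfCardEq h1))⟩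
    · exfalso
      have hN : N = 3 ∨ (4 ≤ N ∧ N ≤ 8) ∨ N = 9 := by omega
      rcases hN with rfl | hN | rfl
      · have hq3 : 3 ≤ q₀ := by
          have h2 := H48.NatSU.two_le_of_sq hK
          omega
        obtain ⟨α, g, h1, h2, h3⟩ := dc_u3 p hF hC hsd hq3 hK e h
        exact H108.Nine.k3c hR α g q hF hH h1 h2 h3
      · exact psu_row p hC K hK hN.1 hN.2 e
      · have h1 := H48.NatSU.psu_eq hC p hF hPU hK (by norm_num) (by norm_num) e rfl
        have h2 := hH.1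
        exact absurd (h1.2 ▸ hR.le) (not_le_of_gt h2)
  · rcases cross' p hC hsd hk hL with ⟨K, i1, i2, h5, h9, hpK, ⟨e⟩⟩ | ⟨h3, ⟨e⟩⟩ | ⟨e, h7, hfr⟩ | ⟨hJ, h2, h⟩
    · exact Or.inl (l2_uni p hF hH hR hC hsd h5 h9 hpK e)
    · exact (H956.K1.not_core_unitary p h3 hF hH hR e hsd).elim
    · exfalso
      subst h7
      exact H915.LD.not_fr_of_card hC 7 hF hfr
    · right; left
      subst h2
      refine ⟨hJ, ?_⟩
      have hfr : Fr P (2 ^ 2) := by
        have := h.fr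
        rwa [← pow_two] at this
      exact H915.LD.q_eq_of_fr hC 2 hF hfr

end Cfsg.Agent.H920.Nine
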