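import Cfsg.Agent.H920.NineForm
import Cfsg.Agent.ClassicalGeometry.GUBasic
import Cfsg.Agent.H912.FiveList
import Cfsg.Agent.H464.L2StageOne
import Cfsg.Agent.H571.JMain

/-!
# Dimension nine: base of the two rows, `L₂(q)` in cross characteristic (helper920)
-/

set_option autoImplicit false
set_option linter.unusedSectionVars false
set_option linter.style.haveILetI false

namespace Cfsg.Agent.H920.Nine

open Cfsg Cfsg.Geo Matrix
open H915.LD (Core Soc tr SD Fr Cj)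

universe u

variable {F : Type u} [Field F] [Fintype F]

theorem exists_q_pow (p : ℕ) [hp : Fact p.Prime] [CharP F p] {q : ℕ} (hF : Fintype.card F = q ^ 2) :
    ∃ k, q = p ^ k := by
  obtain ⟨n, -, hn⟩ := FiniteField.card F p
  have h1 : q ∣ p ^ (n : ℕ) := by rw [← hn, hF]; exact dvd_pow_self q two_ne_zero
  obtain ⟨b, -, rfl⟩ := (Nat.dvd_prime_pow hp.out).1 h1
  exact ⟨b, rfl⟩

/-- in `GU` : `tr g⁻¹ = (tr g) ^ q` -/
theorem cj_of_le_GU {n q : ℕ} (hF : Fintype.card F = q ^ 2) {P : Subgroup (GL (Fin n) F)} (hP : P ≤ Cfsg.GU n F q) :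
    Cj P q := by
  intro g hg
  obtain ⟨p, hpc⟩ := CharP.exists F
  haveI := Fact.mk (CharP.char_is_prime F p)
  obtain ⟨k, rfl⟩ := exists_q_pow p hF
  have hq0 : p ^ k ≠ 0 := pow_ne_zero _ (Fact.out (p := p.Prime)).ne_zero
  have h1 := ClassicalGeometry.GUBasic.transpose_mul_map hq0
    ((ClassicalGeometry.GUBasic.mem_GU_iff _).1 (hP hg))
  have h2 : ((g : Matrix (Fin n) (Fin n) F).map (fun x => x ^ p ^ k))ᵀ * (g : Matrix (Fin n) (Fin n) F) = 1 := by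
    have h3 := congrArg Matrix.transpose h1
    rw [Matrix.transpose_mul, Matrix.transpose_transpose, Matrix.transpose_one] at h3
    exact h3
  have h3 : ((g⁻¹ : GL (Fin n) F) : Matrix (Fin n) (Fin n) F) =
      ((g : Matrix (Fin n) (Fin n) F).map (fun x => x ^ p ^ k))ᵀ := by
    calc ((g⁻¹ : GL (Fin n) F) : Matrix (Fin n) (Fin n) F)
        = (((g : Matrix (Fin n) (Fin n) F).map (fun x => x ^ p ^ k))ᵀ * (g : Matrix (Fin n) (Fin n) F)) *
            ((g⁻¹ : GL (Fin n) F) : Matrix (Fin n) (Fin n) F) := by rw [h2, one_mul]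
      _ = _ := by
        rw [mul_assoc, ← Units.val_mul, mul_inv_cancel, Units.val_one, mul_one]
  unfold tr
  rw [h3, Matrix.trace_transpose, Matrix.trace, Matrix.trace, sum_pow_char_pow]
  rfl

theorem sq19 : ∀ x : ZMod 19, x ≠ 0 → (IsSquare x ↔ (x = 1 ∨ x = 4 ∨ x = 5 ∨ x = 6 ∨ x = 7 ∨ x = 9 ∨ x = 11 ∨ x = 16 ∨
    x = 17)) := by decide

theorem mod19 (p : ℕ) (j : ℕ) (hj : j < 19) : (p : ZMod 19) = (j : ZMod 19) ↔ p % 19 = j := by
  rw [ZMod.natCast_eq_natCast_iff, Nat.ModEq, Nat.mod_eq_of_lt hj]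

theorem isSquare_19 {p : ℕ} (hp : p.Prime) (h19 : ¬ p ∣ 19) : IsSquare (p : ZMod 19) ↔
    (p % 19 = 1 ∨ p % 19 = 4 ∨ p % 19 = 5 ∨ p % 19 = 6 ∨ p % 19 = 7 ∨ p % 19 = 9 ∨ p % 19 = 11 ∨ p % 19 = 16 ∨
      p % 19 = 17) := by
  have h0 : (p : ZMod 19) ≠ 0 := by
    intro h0
    rw [ZMod.natCast_eq_zero_iff] at h0
    exact h19 (((Nat.prime_dvd_prime_iff_eq (by norm_num) hp).1 h0) ▸ dvd_rfl)
  rw [sq19 _ h0]
  have key := fun j hj => mod19 p j hj
  rw [← key 1 (by norm_num), ← key 4 (by norm_num), ← key 5 (by norm_num), ← key 6 (by norm_num), ← key 7 (by norm_num),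
    ← key 9 (by norm_num), ← key 11 (by norm_num), ← key 16 (by norm_num), ← key 17 (by norm_num)]
  norm_num

theorem nonsq_mod {p : ℕ} (hp : p.Prime) (h19 : ¬ p ∣ 19) (h : ¬ IsSquare (p : ZMod 19)) :
    p % 19 = 2 ∨ p % 19 = 3 ∨ p % 19 = 8 ∨ p % 19 = 10 ∨ p % 19 = 12 ∨ p % 19 = 13 ∨ p % 19 = 14 ∨ p % 19 = 15 ∨
      p % 19 = 18 := by
  rw [isSquare_19 hp h19] at h
  have h0 : p % 19 ≠ 0 := by
    intro h0
    exact h19 (((Nat.prime_dvd_prime_iff_eq (by norm_num) hp).1 (Nat.dvd_of_mod_eq_zero h0)) ▸ dvd_rfl)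
  omega

/-- `L₂(K)`, cross characteristic, linear case -/
theorem l2_lin {P : Subgroup (GL (Fin 9) F)} (p : ℕ) [hp : Fact p.Prime] [CharP F p] (hC : Core P) (hsd : ¬ SD P)
    (hcj : ¬ Cj P p) {K : Type} [Field K] [Fintype K] (h5 : 5 ≤ Fintype.card K) (h9 : Fintype.card K ≠ 9)
    (hpK : ¬ p ∣ Fintype.card K) (e : Soc P ≃* ProjectiveSpecialLinearGroup (Fin 2) K) :
    Nonempty (Soc P ≃* ProjectiveSpecialLinearGroup (Fin 2) (ZMod 19)) ∧ (Fintype.card F).Prime ∧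
      (Fintype.card F % 19 = 1 ∨ Fintype.card F % 19 = 4 ∨ Fintype.card F % 19 = 5 ∨ Fintype.card F % 19 = 6 ∨
        Fintype.card F % 19 = 7 ∨ Fintype.card F % 19 = 9 ∨ Fintype.card F % 19 = 11 ∨ Fintype.card F % 19 = 16 ∨
        Fintype.card F % 19 = 17) := by
  rcases H464.Sl2.l2_stage1_le p hC h5 h9 hpK e (by simp) with h | ⟨h1, h2, h3⟩
  · exact (hsd h).elim
  · rw [Fintype.card_fin] at h1
    have hK : Fintype.card K = 19 := by omega
    rw [hK] at h2 h3 hpK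
    have hsq : IsSquare (p : ZMod 19) := by
      by_contra hcon
      exact hcj (h3 hcon)
    have hF := hC.card_eq p (h2 hsq)
    refine ⟨H912.Five.psl_zmod (by norm_num) ⟨K, inferInstance, inferInstance, hK, ⟨e⟩⟩, by rw [hF]; exact hp.out, ?_⟩
    rw [hF]
    exact (isSquare_19 hp.out hpK).1 hsq

/-- `L₂(K)`, cross characteristic, unitary case -/
theorem l2_uni {H P : Subgroup (GL (Fin 9) F)} (p : ℕ) [hp : Fact p.Prime] [CharP F p] {q : ℕ}
    (hF : Fintype.card F = q ^ 2) (hH : IsMaximalIn (Cfsg.GU 9 F q ⊓ specialLinear (Fin 9) F) H)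
    (hR : IsResidualCore H P) (hC : Core P) (hsd : ¬ SD P)
    {K : Type} [Field K] [Fintype K] (h5 : 5 ≤ Fintype.card K) (h9 : Fintype.card K ≠ 9)
    (hpK : ¬ p ∣ Fintype.card K) (e : Soc P ≃* ProjectiveSpecialLinearGroup (Fin 2) K) :
    Nonempty (Soc P ≃* ProjectiveSpecialLinearGroup (Fin 2) (ZMod 19)) ∧ q.Prime ∧ q ≠ 2 ∧
      (q % 19 = 2 ∨ q % 19 = 3 ∨ q % 19 = 8 ∨ q % 19 = 10 ∨ q % 19 = 12 ∨ q % 19 = 13 ∨ q % 19 = 14 ∨ q % 19 = 15 ∨
        q % 19 = 18) := by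
  rcases H464.Sl2.l2_stage1_le p hC h5 h9 hpK e (by simp) with h | ⟨h1, h2, h3⟩
  · exact (hsd h).elim
  · rw [Fintype.card_fin] at h1
    have hK : Fintype.card K = 19 := by omega
    rw [hK] at h2 h3 hpK
    have hnsq : ¬ IsSquare (p : ZMod 19) := fun hcon => H915.LD.not_fr_of_card hC p hF (h2 hcon)
    have hfr : Fr P (p ^ 2) := by
      have := (h3 hnsq).fr
      rwa [← pow_two] at this
    have hqp := H915.LD.q_eq_of_fr hC p hF hfr
    obtain ⟨e'⟩ := H912.Five.psl_zmod (q := 19) (by norm_num) ⟨K, inferInstance, inferInstance, hK, ⟨e⟩⟩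
    refine ⟨⟨e'⟩, by rw [hqp]; exact hp.out, ?_, ?_⟩
    · intro hq2
      subst hq2
      exact H571.JMain.not_core hF hH hR e'
    · rw [hqp]
      exact nonsq_mod hp.out hpK hnsq

end Cfsg.Agent.H920.Nine
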