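import Cfsg.Agent.H920.MinusA
import Cfsg.Agent.H926.Sub1
import Cfsg.Agent.H926.Sub2

/-!
# Irreducible subgroups of `O_8^-(q)`
-/

set_option autoImplicit false

namespace Cfsg.Agent.H920

open QuadraticMap Matrix Cfsg Cfsg.Geo
open Cfsg.Agent.H919 (HermForm WreathData)

section

variable {ι : Type} [Fintype ι] [DecidableEq ι] {F : Type*} [Field F]

omit [DecidableEq ι] in
theorem plus_of_halves {Q : (ι → F) → F} {m : ℕ} {D : Fin 2 → Submodule F (ι → F)} (hm : 2 * m = Fintype.card ι)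
    (hD : IsMDecomposition m D) (hs : ∀ i, IsTotallySingularQuad Q (D i)) : IsPlusTypeOn Q ⊤ :=
  ⟨D 0, le_top, hs 0, by rw [hD.finrank_eq, finrank_top, Module.finrank_fintype_fun_eq_card, hm]⟩

theorem parity_eight {t m : ℕ} (h2t : 2 ≤ t) (htm : t * m = 8) : (Even m ∧ Even t) ∨ 4 ∣ t := by
  have h3 : t ∣ 8 := ⟨m, htm.symm⟩
  have h4 : t ≤ 8 := Nat.le_of_dvd (by norm_num) h3
  have h5 : (t = 2 ∧ m = 4) ∨ t = 4 ∨ t = 8 := by
    interval_cases t <;> omega
  rcases h5 with ⟨rfl, rfl⟩ | rfl | rfl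
  · left; exact ⟨⟨2, rfl⟩, ⟨1, rfl⟩⟩
  · right; exact ⟨1, rfl⟩
  · right; exact ⟨2, rfl⟩

/-- The tensor case `2 × 4` for irreducible groups of isometries of a form of minus type. -/
theorem tensor_two_cases [Fintype F] (hcard : Fintype.card ι = 8) {Q : (ι → F) → F}
    (hQ : IsNondegenerateQuadraticForm Q) (hminus : ¬ IsPlusTypeOn Q ⊤) {H : Subgroup (GL ι F)}
    (hH : H ≤ Cfsg.isometryGroup F Q) (hirr : ActsIrreducibly (matrixSet H))
    {e : ι ≃ Fin 2 × Fin 4} {P : GL ι F} {ε : F} {f₁ : (Fin 2 → F) → (Fin 2 → F) → F}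
    {f₂ : (Fin 4 → F) → (Fin 4 → F) → F} (hε : ε = 1 ∨ ε = -1)
    (h1 : HermForm (RingEquiv.refl F) ε f₁) (h2 : HermForm (RingEquiv.refl F) ε f₂)
    (hT : IsTensorFormStructure id (polar Q) f₁ f₂ e P) (hHT : H ≤ tensorProductSubgroup 2 4 e P) :
    ∃ K : Subalgebra F (Matrix ι ι F), IsFieldSubalgebra 2 K ∧ H ≤ subalgebraNormalizer K := by
  have : Nonempty ι := Fintype.card_pos_iff.1 (by omega)
  have hiso : ∀ g ∈ H, ∀ u v, polar Q ((g : Matrix ι ι F) *ᵥ u) ((g : Matrix ι ι F) *ᵥ v) = polar Q u v :=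
    fun g hg => H925.polar_iso (hH hg)
  by_cases h20 : (2 : F) = 0
  · -- characteristic two
    exfalso
    apply hminus
    have ha2 := H912.second_alternating h20 (by norm_num) (by norm_num) h1 h2 hT hirr hHT hiso
    have ha1 := H912.second_alternating h20 (by norm_num) (by norm_num) h2 h1
      (H912.isTensorFormStructure_swap hT) hirr (by rwa [H912.tensorProductSubgroup_swap]) hiso
    exact plus_of_tensor_two hQ h1 h2 ha1 hT
      (H932.quad_pure_eq_zero hQ (by norm_num) (by norm_num) h1 h2 ha1 ha2 hT hirr hH hHT)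
  rcases hε with rfl | rfl
  · -- symmetric factors
    rcases H924.cases_of_tensor_two h20 (H925.hermForm_polar hQ) hirr hiso (by norm_num) h2 h1
      (H912.isTensorFormStructure_swap hT) (by rwa [H912.tensorProductSubgroup_swap]) with
      ⟨t, m, D, hD, hHD, htr⟩ | ⟨m, D, hD, hs, hHD⟩ | ⟨r, K, hr, hK, hadj, hHK⟩
    · exfalso
      apply hminus
      have hO := Cfsg.Agent.H922.isOrthogonalMDecomposition_of_irreducible hirr hH hD hHD
      have htm := Cfsg.Agent.H922.mul_eq_card hD.decomp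
      have h2t := hD.decomp.two_le
      exact plus_of_decomposition hQ hO (parity_eight h2t (by rw [htm, hcard]))
    · exfalso
      apply hminus
      exact plus_of_halves (Cfsg.Agent.H922.mul_eq_card hD) hD
        (H925.quad_pair hQ hH hirr (by omega) hD hs hHD)
    · have h3 := Cfsg.Agent.H912.finrank_dvd_of_fieldSub hK
      rw [hcard] at h3
      have h4 : r = 2 := (Nat.prime_dvd_prime_iff_eq hr Nat.prime_two).1
        (hr.dvd_of_dvd_pow (by simpa using h3 : r ∣ 2 ^ 3))
      subst h4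
      exact ⟨K, hK, hHK⟩
  · -- alternating factors
    exfalso
    apply hminus
    have ha1 : ∀ w, f₁ w w = 0 := by
      intro w
      have h3 := h1.herm w w
      rw [RingEquiv.refl_apply, neg_one_mul] at h3
      have h4 : (2 : F) * f₁ w w = 0 := by linear_combination h3
      exact (mul_eq_zero.1 h4).resolve_left h20
    refine plus_of_tensor_two hQ h1 h2 ha1 hT ?_
    intro v w
    obtain ⟨c, hc, hpt⟩ := H912.form_pt h1 h2 hT
    have h3 := hpt v v w w
    rw [ha1, zero_mul, mul_zero] at h3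
    have h4 : 2 * Q ((P : Matrix ι ι F) *ᵥ ((fun a : Fin 2 × Fin 4 => v a.1 * w a.2) ∘ e)) = 0 := by
      rw [← H925.polar_self hQ]
      exact h3
    exact (mul_eq_zero.1 h4).resolve_left h20

/-- Irreducible groups of isometries of a form of minus type on an eight-dimensional space. -/
theorem minus_eight_irreducible [Fintype F] (hcard : Fintype.card ι = 8) {Q : (ι → F) → F}
    (hQ : IsNondegenerateQuadraticForm Q) (hminus : ¬ IsPlusTypeOn Q ⊤) {H : Subgroup (GL ι F)}
    (hH : H ≤ Cfsg.isometryGroup F Q) (hirr : ActsIrreducibly (matrixSet H)) :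
    (∃ K : Subalgebra F (Matrix ι ι F), IsFieldSubalgebra 2 K ∧ H ≤ subalgebraNormalizer K) ∨
    (∃ (F₀ : Subfield F) (r : ℕ) (P : GL ι F) (ζ : F), F₀ ≠ ⊤ ∧ r.Prime ∧ Odd r ∧ Fintype.card F = Nat.card F₀ ^ r ∧
      ζ ≠ 0 ∧ IsQuadFormRationalStructure (fun v => ζ * Q v) F₀ P ∧ H ≤ subfieldSubgroup F₀ P) ∨
    InOrthogonalResidualClass H := by
  have : Nonempty ι := Fintype.card_pos_iff.1 (by omega)
  have hiso : ∀ g ∈ H, ∀ u v, polar Q ((g : Matrix ι ι F) *ᵥ u) ((g : Matrix ι ι F) *ᵥ v) = polar Q u v :=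
    fun g hg => H925.polar_iso (hH hg)
  rcases H925.orth_irreducible_fine (by omega) hQ hH hirr with
    ⟨t, m, D, htm, hD, hHD, htr⟩ | ⟨m, D, hm, hD, hs, hHD⟩ | ⟨r, K, hr, hdvd, hK, hadj, hHK⟩ |
    ⟨n₁, n₂, e, P, ε, f₁, f₂, h1, h2, h12, hε, hf1, hf2, hT, hHT⟩ |
    ⟨F₁, r, B, ζ, hF₁, hr, hc, hζ, hR, hHB⟩ |
    ⟨r, m, R, hRH, hnorm, hHR, habs, hS, hchar, hm, hcm, hcen, hcases, hreal⟩ | ⟨m, t, e, P, E, hmt, hw⟩ | h
  · exact absurd (plus_of_decomposition hQ hD (parity_eight hD.decomp.decomp.two_le (by rw [htm, hcard]))) hminus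
  · exact absurd (plus_of_halves hm hD hs) hminus
  · left
    rw [hcard] at hdvd
    have h4 : r = 2 := (Nat.prime_dvd_prime_iff_eq hr Nat.prime_two).1
      (hr.dvd_of_dvd_pow (by simpa using hdvd : r ∣ 2 ^ 3))
    subst h4
    exact ⟨K, hK, hHK⟩
  · left
    rw [hcard] at h12
    have h3 : n₁ ∣ 8 := ⟨n₂, h12.symm⟩
    have h4 : n₁ ≤ 8 := Nat.le_of_dvd (by norm_num) h3
    have h5 : (n₁ = 2 ∧ n₂ = 4) ∨ (n₁ = 4 ∧ n₂ = 2) := by
      interval_cases n₁ <;> omega
    rcases h5 with ⟨rfl, rfl⟩ | ⟨rfl, rfl⟩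
    · exact tensor_two_cases hcard hQ hminus hH hirr hε hf1 hf2 hT hHT
    · exact tensor_two_cases hcard hQ hminus hH hirr hε hf2 hf1 (H912.isTensorFormStructure_swap hT)
        (by rwa [H912.tensorProductSubgroup_swap])
  · right; left
    have hRat := H926.quadRational_of_formRational hQ (by omega) hH hirr hHB hζ hR
    rw [Nat.card_eq_fintype_card] at hc
    refine ⟨F₁, r, B, ζ, hF₁, hr, ?_, hc, hζ, hRat, hHB⟩
    rcases hr.eq_two_or_odd' with h | h
    · subst h
      exact absurd (H926.plusType_of_index_two hQ ⟨4, by rw [hcard]⟩ hc hζ hRat) hminus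
    · exact h
  · exfalso
    have h4 : r = 2 := by
      have h5 : r ∣ 8 := by rw [← hcard, hcm]; exact dvd_pow_self r (by omega)
      exact (Nat.prime_dvd_prime_iff_eq hS.prime Nat.prime_two).1
        (hS.prime.dvd_of_dvd_pow (by simpa using h5 : r ∣ 2 ^ 3))
    subst h4
    have h2 : (2 : F) ≠ 0 := by
      intro h20
      apply hchar
      have hd : ringChar F ∣ 2 := (ringChar.spec F 2).1 (by exact_mod_cast h20)
      exact ((Nat.dvd_prime Nat.prime_two).1 hd).resolve_left (CharP.ringChar_ne_one)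
    have hm3 : m = 3 := by
      rw [hcard] at hcm
      exact Nat.pow_right_injective le_rfl (show 2 ^ m = 2 ^ 3 by rw [← hcm])
    subst hm3
    apply hminus
    rcases hcases with ⟨ho, -⟩ | ⟨-, hz, hc⟩ | ⟨-, hz, hc⟩
    · exact absurd ho (by decide)
    · exact plus_of_symplecticType hQ h2 (by rw [hcard]; norm_num) (by omega) (hRH.trans hH) habs hS
        (by rw [hz]; decide) (by rw [hc]; norm_num)
    · exact plus_of_symplecticType hQ h2 (by rw [hcard]; norm_num) (by omega) (hRH.trans hH) habs hS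
        (by rw [hz]; decide) (by rw [hc]; norm_num)
  · exfalso
    have h2m := hw.two_le_m
    have h2t := hw.two_le_t
    have h5 : m = 2 ∧ t = 3 := by
      rw [hcard] at hmt
      have ht : t < 4 := by
        by_contra h
        have h6 := Nat.pow_le_pow_right (n := m) (by omega) (not_lt.1 h)
        have h7 : 2 ^ 4 ≤ m ^ 4 := Nat.pow_le_pow_left h2m 4
        omega
      have hm : m < 3 := by
        by_contra h
        have h6 := Nat.pow_le_pow_right (n := m) (by omega) h2t
        have h7 : 3 ^ 2 ≤ m ^ 2 := Nat.pow_le_pow_left (not_lt.1 h) 2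
        omega
      have hm2 : m = 2 := by omega
      subst hm2
      refine ⟨rfl, ?_⟩
      interval_cases t <;> simp_all
    obtain ⟨rfl, rfl⟩ := h5
    by_cases h20 : (2 : F) = 0
    · obtain ⟨P', f₁, hw', hsymp, hpow, hpure⟩ := H919.C7_quad_even hQ h20
        (fun g hg v => H925.mem_iso_iff.1 (hH hg) v) hw
      exact hminus (plus_of_power_two hQ hsymp.alternating hpow hpure)
    · have hsym : IsSymmetricForm (polar Q) :=
        ⟨hQ.polar_bilinear, fun u v => polar_comm Q u v, hQ.nondegenerate⟩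
      obtain ⟨P', f₁, hw', hf₁, hpow, -, hinv⟩ := H919.C7_orth_odd hsym h20 hiso hw
      rcases hf₁ with hf₁ | ⟨-, ht⟩
      · have halt := H919.WreathData.two_alternating hw' 0 hf₁.bilinear (hinv 0)
        have hzero : ∀ u v, f₁ u v = 0 := by
          intro u v
          have h3 := halt (u + v)
          rw [hf₁.bilinear.add_left, hf₁.bilinear.add_right, hf₁.bilinear.add_right, halt, halt,
            hf₁.symm v u] at h3
          have h4 : (2 : F) * f₁ u v = 0 := by linear_combination h3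
          exact (mul_eq_zero.1 h4).resolve_left h20
        obtain ⟨v, hv⟩ := exists_ne (0 : Fin 2 → F)
        obtain ⟨w, hw0⟩ := (hf₁.nondegenerate v hv).1
        exact hw0 (hzero _ _)
      · exact absurd ht (by decide)
  · exact Or.inr (Or.inr h)

end

end Cfsg.Agent.H920
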