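import Cfsg.Agent.H920.FiTwoData

/-!
# A configuration at the prime 2 in `Fi₂₄'` (helper920)

`t 0, …, t 6` : a quotient of the Weyl group of type `E₇`, `g` the affine node, commuting with the reflection in the
highest root. The conjugates of `T = g * s_θ` generate an elementary abelian 2-group, a quotient of the root lattice
modulo 2, on whose characters the Weyl group has non-trivial orbits of length at least 28.

* `orb_two` : the general statement;
* `fi24_two : Orb 2 28 Fi24'`.
-/

set_option autoImplicit false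
set_option linter.unusedSectionVars false

universe v

namespace Cfsg.Agent.H920.FiTwo

open Cfsg.Agent.H921.Spor Cfsg.Agent.H921.Spor.Cox Cfsg.Agent.ChevalleyStructure.WeylData

variable {G : Type v} [Group G]

/-- The situation. -/
structure Ctx (t : ℕ → G) (g : G) : Prop where
  pre : Pre certE7 t
  gg : g * g = 1
  gt : ∀ a, 1 ≤ a → a < 7 → g * t a = t a * g
  g0 : g * t 0 * g = t 0 * g * t 0
  gs : g * ev t ths = ev t ths * g

/-- the translation by the highest root -/
def T (t : ℕ → G) (g : G) : G := g * ev t ths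

/-- the conjugates of `T` -/
def u (t : ℕ → G) (g : G) (w : List ℕ) : G := ev t w * T t g * (ev t w)⁻¹

variable {t : ℕ → G} {g : G}

namespace Ctx

variable (h : Ctx t g)

include h

theorem ss : ev t ths * ev t ths = 1 := by
  have := h.pre.eq check4
  rwa [ev_append, ev_nil] at this

theorem TT : T t g * T t g = 1 := by
  unfold T
  calc g * ev t ths * (g * ev t ths) = g * (ev t ths * g) * ev t ths := by group
    _ = g * (g * ev t ths) * ev t ths := by rw [h.gs]
    _ = (g * g) * (ev t ths * ev t ths) := by group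
    _ = 1 := by rw [h.gg, h.ss, one_mul]

theorem s_comm_letter {a : ℕ} (h1 : 1 ≤ a) (h2 : a < 7) : ev t ths * t a = t a * ev t ths := by
  have h3 := List.all_eq_true.1 check3 a (by
    have : ∀ a < 7, 1 ≤ a → a ∈ (List.range 7).drop 1 := by decide
    exact this a h2 h1)
  have h4 := h.pre.eq h3
  rw [ev_cons, ev_append, ev_cons, ev_nil, mul_one] at h4
  exact h4.symm

theorem T_comm_letter {a : ℕ} (h1 : 1 ≤ a) (h2 : a < 7) : t a * T t g = T t g * t a := by
  unfold T
  rw [← mul_assoc, ← h.gt a h1 h2, mul_assoc, mul_assoc, h.s_comm_letter h1 h2]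

theorem T_comm_s : ev t ths * T t g = T t g * ev t ths := by
  unfold T
  rw [← mul_assoc, ← h.gs]

theorem comm_ex {l : List ℕ} (hl : ∀ a ∈ l, 1 ≤ a ∧ a ≤ 7) : ev t (ex l) * T t g = T t g * ev t (ex l) := by
  induction l with
  | nil => simp [ex]
  | cons a l ih =>
    have ih' := ih fun b hb => hl b (List.mem_cons_of_mem _ hb)
    obtain ⟨h1, h2⟩ := hl a List.mem_cons_self
    unfold ex
    split_ifs with h7
    · rw [ev_append, mul_assoc, ih', ← mul_assoc, h.T_comm_s, mul_assoc]
    · rw [ev_cons, mul_assoc, ih', ← mul_assoc, h.T_comm_letter h1 (by omega), mul_assoc]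

theorem u_same {w w' l : List ℕ} (hs : same w w' l = true) : u t g w' = u t g w := by
  unfold same at hs
  rw [Bool.and_eq_true, List.all_eq_true] at hs
  have h1 : ∀ a ∈ l, 1 ≤ a ∧ a ≤ 7 := by
    intro a ha
    have := hs.1 a ha
    rw [Bool.and_eq_true] at this
    exact ⟨Nat.le_of_ble_eq_true this.1, Nat.le_of_ble_eq_true this.2⟩
  have h2 := h.comm_ex h1
  unfold u
  rw [h.pre.eq hs.2, ev_append, mul_inv_rev]
  calc ev t w * ev t (ex l) * T t g * ((ev t (ex l))⁻¹ * (ev t w)⁻¹)
      = ev t w * (ev t (ex l) * T t g) * (ev t (ex l))⁻¹ * (ev t w)⁻¹ := by group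
    _ = ev t w * T t g * (ev t w)⁻¹ := by rw [h2]; group

theorem sq0 : t 0 * t 0 = 1 := h.pre.sq (by norm_num)

theorem braid : ev t ths * t 0 * ev t ths = t 0 * ev t ths * t 0 := by
  have := h.pre.eq check6
  simp only [ev_append, ev_cons, ev_nil, mul_one] at this
  exact this

theorem u_nil : u t g [] = T t g := by
  unfold u
  rw [ev_nil, one_mul, inv_one, mul_one]

theorem u_append (w w' : List ℕ) : u t g (w ++ w') = ev t w * u t g w' * (ev t w)⁻¹ := by
  unfold u
  rw [ev_append, mul_inv_rev]
  group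

theorem u_zero : u t g [0] = t 0 * T t g * t 0 := by
  unfold u
  rw [ev_cons, ev_nil, mul_one, inv_eq_of_mul_eq_one_left h.sq0]

theorem u_three : u t g (ths ++ [0]) = ev t ths * (t 0 * T t g * t 0) * ev t ths := by
  rw [h.u_append, h.u_zero, inv_eq_of_mul_eq_one_left h.ss]

theorem add0 : u t g [] * u t g [0] = u t g (ths ++ [0]) := by
  rw [h.u_nil, h.u_zero, h.u_three]
  unfold T
  set s := ev t ths with hs
  set r := t 0 with hr
  -- `g s r g s r = s r g s r s`
  have e1 : s * (r * (g * s) * r) * s = s * r * g * (s * r * s) := by group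
  have e2 : s * r * g * (r * s * r) = s * (r * g * r) * s * r := by group
  have e3 : s * (g * r * g) * s * r = (s * g) * r * (g * s) * r := by group
  rw [e1, h.braid, e2, ← h.g0, e3, ← h.gs, ← hs]
  group

theorem uu (w : List ℕ) : u t g w * u t g w = 1 := by
  unfold u
  calc ev t w * T t g * (ev t w)⁻¹ * (ev t w * T t g * (ev t w)⁻¹) = ev t w * (T t g * T t g) * (ev t w)⁻¹ := by group
    _ = 1 := by rw [h.TT]; group

theorem comm_of_prod {w w' w'' : List ℕ} (hp : u t g w * u t g w' = u t g w'') :
    u t g w * u t g w' = u t g w' * u t g w := by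
  have h1 := h.uu w''
  rw [← hp] at h1
  have h2 : u t g w * u t g w' = (u t g w * u t g w')⁻¹ := eq_inv_of_mul_eq_one_left h1
  rw [h2, mul_inv_rev, inv_eq_of_mul_eq_one_left (h.uu w'), inv_eq_of_mul_eq_one_left (h.uu w)]

theorem add (w : List ℕ) : u t g w * u t g (w ++ [0]) = u t g (w ++ (ths ++ [0])) := by
  rw [h.u_append w [0], h.u_append w (ths ++ [0]), ← h.add0, h.u_nil]
  unfold u
  group

theorem comm (w : List ℕ) : u t g w * u t g (w ++ [0]) = u t g (w ++ [0]) * u t g w := h.comm_of_prod (h.add w)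

/-- the orthogonal pair -/
theorem comm_base : u t g [] * u t g (W.getD 3 []) = u t g (W.getD 3 []) * u t g [] := by
  have c0 := h.u_same check0
  have c1 := h.u_same check1
  have c2 := h.u_same check2
  have b1 : u t g [3, 2] = u t g [] := by
    refine h.u_same (l := [3, 2]) ?_
    decide +kernel
  have b2 : u t g [2] = u t g [] := by
    refine h.u_same (l := [2]) ?_
    decide +kernel
  -- `T` commutes with the two factors
  have d1 := h.comm [3, 2]
  rw [b1, ← c1] at d1
  have d2 := h.comm [2]
  rw [b2, ← c2] at d2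
  rw [c0, ← h.add, ← mul_assoc, d1, mul_assoc, d2, mul_assoc]

theorem comm_orth (w : List ℕ) : u t g w * u t g (w ++ W.getD 3 []) = u t g (w ++ W.getD 3 []) * u t g w := by
  have h1 := h.comm_base
  have h2 : u t g w = ev t w * u t g [] * (ev t w)⁻¹ := by
    have := h.u_append w []
    rwa [List.append_nil] at this
  rw [h.u_append w (W.getD 3 []), h2]
  calc ev t w * u t g [] * (ev t w)⁻¹ * (ev t w * u t g (W.getD 3 []) * (ev t w)⁻¹)
      = ev t w * (u t g [] * u t g (W.getD 3 [])) * (ev t w)⁻¹ := by group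
    _ = ev t w * (u t g (W.getD 3 []) * u t g []) * (ev t w)⁻¹ := by rw [h1]
    _ = _ := by group

end Ctx

/-- adjacency -/
def adj (i j : ℕ) : Bool := (nb i).testBit j

/-- the generators of the elementary abelian group -/
def X (t : ℕ → G) (g : G) (i : ℕ) : G := u t g (W.getD i [])

namespace Ctx

variable (h : Ctx t g)

include h

theorem X_comm {i j : ℕ} (hi : i < 7) (hj : j < 7) : X t g i * X t g j = X t g j * X t g i := by
  have key : ∀ i < 7, ∀ j < 7, i < j → X t g i * X t g j = X t g j * X t g i := by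
    intro i hi j hj hij
    have hcov : (∃ e ∈ DA, e.1 = i ∧ e.2.1 = j) ∨ (∃ e ∈ DO, e.1 = i ∧ e.2.1 = j) := by
      have : ∀ i < 7, ∀ j < 7, i < j → (DA.any fun e => Nat.beq e.1 i && Nat.beq e.2.1 j) = true ∨
        (DO.any fun e => Nat.beq e.1 i && Nat.beq e.2.1 j) = true := by decide
      rcases this i hi j hj hij with h1 | h1
      · left
        rw [List.any_eq_true] at h1
        obtain ⟨e, he, h1⟩ := h1
        rw [Bool.and_eq_true] at h1
        exact ⟨e, he, Nat.eq_of_beq_eq_true h1.1, Nat.eq_of_beq_eq_true h1.2⟩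
      · right
        rw [List.any_eq_true] at h1
        obtain ⟨e, he, h1⟩ := h1
        rw [Bool.and_eq_true] at h1
        exact ⟨e, he, Nat.eq_of_beq_eq_true h1.1, Nat.eq_of_beq_eq_true h1.2⟩
    rcases hcov with ⟨e, he, rfl, rfl⟩ | ⟨e, he, rfl, rfl⟩
    · have h1 := List.all_eq_true.1 checkDA e he
      rw [Bool.and_eq_true, Bool.and_eq_true] at h1
      unfold X
      rw [h.u_same h1.1, h.u_same h1.2.1]
      exact h.comm _
    · have h1 := List.all_eq_true.1 checkDO e he
      rw [Bool.and_eq_true] at h1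
      unfold X
      rw [h.u_same h1.1, h.u_same h1.2]
      exact h.comm_orth _
  rcases lt_trichotomy i j with hij | rfl | hij
  · exact key i hi j hj hij
  · rfl
  · exact (key j hj i hi hij).symm

theorem X_sq (i : ℕ) : X t g i * X t g i = 1 := h.uu _

theorem u_cons (a : ℕ) (w : List ℕ) : u t g (a :: w) = t a * u t g w * (t a)⁻¹ := by
  have := h.u_append [a] w
  rwa [ev_cons, ev_nil, mul_one] at this

/-- the action -/
theorem X_conj {i a : ℕ} (hi : i < 7) (ha : a < 7) :
    t a * X t g i * (t a)⁻¹ = if adj i a then X t g i * X t g a else X t g i := by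
  have hcov : (adj i a = true ∧ ∃ e ∈ DA, e.1 = i ∧ e.2.1 = a) ∨ (adj i a = false ∧ ∃ e ∈ DC, e.1 = a ∧ e.2.1 = i) := by
    have : ∀ i < 7, ∀ a < 7, (adj i a = true ∧ (DA.any fun e => Nat.beq e.1 i && Nat.beq e.2.1 a) = true) ∨
      (adj i a = false ∧ (DC.any fun e => Nat.beq e.1 a && Nat.beq e.2.1 i) = true) := by decide +kernel
    rcases this i hi a ha with ⟨h0, h1⟩ | ⟨h0, h1⟩
    · left
      rw [List.any_eq_true] at h1
      obtain ⟨e, he, h1⟩ := h1
      rw [Bool.and_eq_true] at h1
      exact ⟨h0, e, he, Nat.eq_of_beq_eq_true h1.1, Nat.eq_of_beq_eq_true h1.2⟩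
    · right
      rw [List.any_eq_true] at h1
      obtain ⟨e, he, h1⟩ := h1
      rw [Bool.and_eq_true] at h1
      exact ⟨h0, e, he, Nat.eq_of_beq_eq_true h1.1, Nat.eq_of_beq_eq_true h1.2⟩
  rcases hcov with ⟨h0, e, he, rfl, rfl⟩ | ⟨h0, e, he, rfl, rfl⟩
  · rw [if_pos h0]
    have h1 := List.all_eq_true.1 checkDA e he
    rw [Bool.and_eq_true, Bool.and_eq_true] at h1
    unfold X
    rw [← h.u_cons, h.u_same h1.2.2, h.u_same h1.1, h.u_same h1.2.1]
    exact (h.add _).symm
  · rw [if_neg (by rw [h0]; decide)]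
    have h1 := List.all_eq_true.1 checkDC e he
    unfold X
    rw [← h.u_cons, h.u_same h1]

end Ctx

/-! ### Functionals as masks -/

/-- the mask `m` represents the functional `c` -/
def Rep (m : ℕ) (c : ℕ → ZMod 2) : Prop := m < 128 ∧ ∀ i < 7, (m.testBit i = true ↔ c i = 1)

theorem exists_rep (c : ℕ → ZMod 2) : ∃ m, Rep m c := by
  refine ⟨Nat.ofBits (n := 7) (fun i => decide (c i = 1)), ?_, ?_⟩
  · exact Nat.ofBits_lt_two_pow _
  · intro i hi
    rw [Nat.testBit_ofBits_lt _ _ hi]
    simp

theorem z2 (x : ZMod 2) : x = 0 ∨ x = 1 := by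
  revert x; decide

theorem Rep.step {m : ℕ} {c : ℕ → ZMod 2} (hm : Rep m c) {a : ℕ} (ha : a < 7) :
    Rep (step m a) (fun i => if adj i a then c i + c a else c i) := by
  have hadj : ∀ a < 7, nb a < 128 ∧ ∀ i < 7, (nb a).testBit i = adj i a := by decide +kernel
  obtain ⟨h1, h2⟩ := hm
  unfold FiTwo.step
  cases hb : m.testBit a with
  | false =>
    have hca : c a = 0 := by
      rcases z2 (c a) with h | h
      · exact h
      · rw [← h2 a ha, hb] at h; exact absurd h (by decide)
    refine ⟨h1, fun i hi => ?_⟩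
    change m.testBit i = true ↔ (if adj i a = true then c i + c a else c i) = 1
    rw [h2 i hi, hca, add_zero, ite_self]
  | true =>
    have hca : c a = 1 := (h2 a ha).1 hb
    refine ⟨?_, fun i hi => ?_⟩
    · change m ^^^ nb a < 2 ^ 7
      exact Nat.xor_lt_two_pow h1 (hadj a ha).1
    · change (m ^^^ nb a).testBit i = true ↔ (if adj i a = true then c i + c a else c i) = 1
      rw [Nat.testBit_xor, (hadj a ha).2 i hi, hca]
      have h3 := h2 i hi
      cases adj i a with
      | false =>
        rw [Bool.xor_false, if_neg (by decide)]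
        exact h3
      | true =>
        rw [Bool.xor_true, if_pos rfl]
        rcases z2 (c i) with h | h
        · have h4 : m.testBit i = false := by
            rw [Bool.eq_false_iff]
            intro h5
            rw [h3, h] at h5
            exact absurd h5 (by decide)
          rw [h4, h]; decide
        · rw [h3.2 h, h]; decide

theorem Rep.ext {m m' : ℕ} {c c' : ℕ → ZMod 2} (h : Rep m c) (h' : Rep m' c') (hcc : ∀ i < 7, c i = c' i) : m = m' := by
  apply Nat.eq_of_testBit_eq
  intro i
  rcases Nat.lt_or_ge i 7 with hi | hi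
  · have h1 := h.2 i hi
    have h2 := h'.2 i hi
    rw [hcc i hi] at h1
    exact Bool.eq_iff_iff.2 (h1.trans h2.symm)
  · have h7 : (2 : ℕ) ^ 7 ≤ 2 ^ i := Nat.pow_le_pow_right (by norm_num) hi
    rw [Nat.testBit_lt_two_pow (lt_of_lt_of_le h.1 h7), Nat.testBit_lt_two_pow (lt_of_lt_of_le h'.1 h7)]

theorem Rep.foldl {m : ℕ} (w : List ℕ) (hw : ∀ a ∈ w, a < 7) {c : ℕ → ZMod 2} (hm : Rep m c) :
    Rep (w.foldl FiTwo.step m) (w.foldl (fun c a => fun i => if adj i a then c i + c a else c i) c) := by
  induction w generalizing m c with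
  | nil => exact hm
  | cons a w ih =>
    exact ih (fun b hb => hw b (List.mem_cons_of_mem _ hb)) (hm.step (hw a List.mem_cons_self))

/-! ### The configuration -/

theorem orb_two {K : Subgroup G} (h : Ctx t g) (hT : T t g ≠ 1) (hXK : ∀ i, X t g i ∈ K)
    (hSK : ∀ w ∈ SW, ev t w ∈ K) : Orb 2 28 K := by
  classical
  let x : ℕ → G := fun i => if i < 7 then X t g i else 1
  have hx : ∀ i < 7, x i = X t g i := fun i hi => if_pos hi
  have hx' : ∀ i, 7 ≤ i → x i = 1 := fun i hi => if_neg (by omega)
  have hxK : ∀ i, x i ∈ K := by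
    intro i
    by_cases hi : i < 7
    · rw [hx i hi]; exact hXK i
    · rw [hx' i (by omega)]; exact K.one_mem
  set E : Subgroup G := Subgroup.closure (Set.range x) with hEdef
  have hxE : ∀ i, x i ∈ E := fun i => Subgroup.subset_closure ⟨i, rfl⟩
  have hEK : E ≤ K := by
    rw [hEdef, Subgroup.closure_le]
    rintro _ ⟨i, rfl⟩
    exact hxK i
  have hE : ∀ a ∈ E, ∀ b ∈ E, a * b = b * a := by
    have hcomm : ∀ a ∈ Set.range x, ∀ b ∈ Set.range x, a * b = b * a := by
      rintro _ ⟨i, rfl⟩ _ ⟨j, rfl⟩
      by_cases hi : i < 7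
      · by_cases hj : j < 7
        · rw [hx i hi, hx j hj]; exact h.X_comm hi hj
        · rw [hx' j (by omega), mul_one, one_mul]
      · rw [hx' i (by omega), mul_one, one_mul]
    intro a ha b hb
    have h1 : IsMulCommutative E := Subgroup.isMulCommutative_closure hcomm
    exact congrArg Subtype.val (h1.is_comm.comm (⟨a, ha⟩ : E) ⟨b, hb⟩)
  have hpow : ∀ a ∈ E, a ^ 2 = 1 := by
    intro a ha
    induction ha using Subgroup.closure_induction with
    | mem y hy =>
      obtain ⟨i, rfl⟩ := hy
      by_cases hi : i < 7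
      · rw [hx i hi, pow_two]; exact h.X_sq i
      · rw [hx' i (by omega), one_pow]
    | one => simp
    | mul y z hy hz h1 h2 =>
      have : Commute y z := hE y hy z hz
      rw [this.mul_pow, h1, h2, one_mul]
    | inv y hy h1 => rw [inv_pow, h1, inv_one]
  have hfinr : (Set.range x).Finite := by
    apply ((Set.finite_range (fun k : Fin 7 => x k)).union (Set.finite_singleton (1 : G))).subset
    rintro _ ⟨i, rfl⟩
    by_cases hi : i < 7
    · exact Or.inl ⟨⟨i, hi⟩, rfl⟩
    · exact Or.inr (hx' i (by omega))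
  have hfin : Finite E := by
    have h2 : Group.FG E := by
      rw [Group.fg_iff_subgroup_fg]
      exact ⟨hfinr.toFinset, by rw [hEdef, Set.Finite.coe_toFinset]⟩
    let _ : CommGroup E := { (inferInstance : Group E) with mul_comm := fun a b => Subtype.ext (hE a a.2 b b.2) }
    have h3 : IsMulTorsion E := by
      intro a
      rw [isOfFinOrder_iff_pow_eq_one]
      exact ⟨2, by norm_num, Subtype.ext (hpow a a.2)⟩
    exact CommGroup.finite_of_fg_isMulTorsion E h3
  -- the letters normalise `E`
  have hnorm1 : ∀ a < 7, ∀ e ∈ E, t a * e * (t a)⁻¹ ∈ E := by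
    intro a ha e he
    induction he using Subgroup.closure_induction with
    | mem y hy =>
      obtain ⟨i, rfl⟩ := hy
      by_cases hi : i < 7
      · rw [hx i hi, h.X_conj hi ha]
        split_ifs
        · rw [← hx i hi, ← hx a ha]; exact E.mul_mem (hxE i) (hxE a)
        · rw [← hx i hi]; exact hxE i
      · rw [hx' i (by omega)]; simp
    | one => simp
    | mul y z hy hz h1 h2 =>
      have := E.mul_mem h1 h2
      convert this using 1
      group
    | inv y hy h1 =>
      have := E.inv_mem h1
      convert this using 1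
      group
  have hnorm : ∀ w : List ℕ, (∀ a ∈ w, a < 7) → ∀ e ∈ E, ev t w * e * (ev t w)⁻¹ ∈ E := by
    intro w hw
    induction w with
    | nil => intro e he; simpa using he
    | cons a w ih =>
      intro e he
      have h1 := hnorm1 a (hw a List.mem_cons_self) _ (ih (fun b hb => hw b (List.mem_cons_of_mem _ hb)) e he)
      rw [ev_cons]
      convert h1 using 1
      group
  have hSW : ∀ w ∈ SW, ∀ a ∈ w, a < 7 := by
    intro w hw
    have h1 := List.all_eq_true.1 checkSW w hw
    rw [Bool.and_eq_true] at h1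
    exact mem_lt h1.1
  -- the functionals
  have hfun : ∀ (f : G → ZMod 2), (∀ a ∈ E, ∀ b ∈ E, f (a * b) = f a + f b) → ∀ w : List ℕ, (∀ a ∈ w, a < 7) →
      ∀ v : G, (∀ e ∈ E, v * e * v⁻¹ ∈ E) → ∀ c : ℕ → ZMod 2, (∀ i < 7, c i = f (v * X t g i * v⁻¹)) →
      ∀ i < 7, (w.foldl (fun c a => fun i => if adj i a then c i + c a else c i) c) i =
        f (v * ev t w * X t g i * (v * ev t w)⁻¹) := by
    intro f hf w
    induction w with
    | nil =>
      intro _ v _ c hc i hi
      rw [ev_nil, mul_one]
      exact hc i hi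
    | cons a w ih =>
      intro hw v hv c hc i hi
      have ha := hw a List.mem_cons_self
      have h1 := ih (fun b hb => hw b (List.mem_cons_of_mem _ hb)) (v * t a) (by
        intro e he
        have := hv _ (hnorm1 a ha e he)
        convert this using 1
        group) (fun i => if adj i a then c i + c a else c i) (by
        intro i hi
        have h2 := h.X_conj hi ha
        have h3 : v * t a * X t g i * (v * t a)⁻¹ = v * (t a * X t g i * (t a)⁻¹) * v⁻¹ := by group
        rw [h3, h2]
        change (if adj i a = true then c i + c a else c i) = _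
        by_cases hadj : adj i a = true
        · rw [if_pos hadj, if_pos hadj, hc i hi, hc a ha, ← hf]
          · congr 1
            group
          · rw [← hx i hi]; exact hv _ (hxE i)
          · rw [← hx a ha]; exact hv _ (hxE a)
        · rw [if_neg hadj, if_neg hadj, hc i hi]) i hi
      have h8 : v * t a * ev t w = v * ev t (a :: w) := by rw [ev_cons, mul_assoc]
      rw [List.foldl_cons, h1, h8]
  -- the configuration in `K`
  refine ⟨E.subgroupOf K, ⟨X t g 2, hXK 2⟩, 1, ?_, ?_, ?_, ?_, ?_, ?_⟩
  · exact Finite.of_injective (fun e : E.subgroupOf K => (⟨(e : K), e.2⟩ : E)) (by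
      intro a b hab
      apply Subtype.ext
      apply Subtype.ext
      exact congrArg (fun z : E => (z : G)) hab)
  · intro a ha b hb
    exact Subtype.ext (hE a ha b hb)
  · intro e he
    rw [pow_one]
    exact Subtype.ext (hpow e he)
  · change X t g 2 ∈ E
    rw [← hx 2 (by norm_num)]; exact hxE 2
  · intro h1
    apply hT
    have h2 : X t g 2 = 1 := congrArg Subtype.val h1
    unfold X u at h2
    calc T t g = (ev t (W.getD 2 []))⁻¹ * (ev t (W.getD 2 []) * T t g * (ev t (W.getD 2 []))⁻¹) * ev t (W.getD 2 []) := by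
          group
      _ = 1 := by rw [h2]; group
  · rw [pow_one]
    intro f hf hf0
    let F : G → ZMod 2 := fun y => if hy : y ∈ K then f ⟨y, hy⟩ else 0
    have hF : ∀ y (hy : y ∈ K), F y = f ⟨y, hy⟩ := fun y hy => dif_pos hy
    have hFadd : ∀ a ∈ E, ∀ b ∈ E, F (a * b) = F a + F b := by
      intro a ha b hb
      rw [hF a (hEK ha), hF b (hEK hb), hF (a * b) (K.mul_mem (hEK ha) (hEK hb))]
      exact hf ⟨a, hEK ha⟩ ha ⟨b, hEK hb⟩ hb
    obtain ⟨m, hm⟩ := exists_rep (fun i => F (X t g i))
    have hm2 : m.testBit 2 = true := by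
      rw [hm.2 2 (by norm_num)]
      rcases z2 (F (X t g 2)) with h0 | h0
      · exfalso
        rw [hF _ (hXK 2)] at h0
        exact hf0 h0
      · exact h0
    have hcnt : Nat.ble 28 (cnt (SW.map fun w => w.foldl step m)) = true := by
      have h1 := List.all_eq_true.1 checkS m (List.mem_range.2 hm.1)
      rw [hm2, Bool.not_true, Bool.false_or] at h1
      exact h1
    have h3 : 28 ≤ (SW.map fun w => w.foldl FiTwo.step m).toFinset.card :=
      le_trans (Nat.le_of_ble_eq_true hcnt) (cnt_le _)
    obtain ⟨I, hI1, hI2⟩ := Finset.exists_subset_card_eq h3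
    have h4 : ∀ y ∈ I, ∃ w ∈ SW, w.foldl step m = y := by
      intro y hy
      have := List.mem_toFinset.1 (hI1 hy)
      obtain ⟨w, hw, hwy⟩ := List.mem_map.1 this
      exact ⟨w, hw, hwy⟩
    choose! τ hτ1 hτ2 using h4
    have hτK : ∀ y ∈ I, ev t (τ y) ∈ K := fun y hy => hSK _ (hτ1 y hy)
    let σ : ℕ → K := fun y => if hy : ev t (τ y) ∈ K then ⟨ev t (τ y), hy⟩ else 1
    have hσ : ∀ y ∈ I, (σ y : G) = ev t (τ y) := by
      intro y hy
      have : σ y = ⟨ev t (τ y), hτK y hy⟩ := dif_pos _
      rw [this]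
    -- different masks give different functionals
    have key : ∀ y ∈ I, ∀ z ∈ I, y ≠ z → ∃ i < 7,
        F (ev t (τ y) * X t g i * (ev t (τ y))⁻¹) ≠ F (ev t (τ z) * X t g i * (ev t (τ z))⁻¹) := by
      intro y hy z hz hyz
      by_contra hcon
      push Not at hcon
      apply hyz
      rw [← hτ2 y hy, ← hτ2 z hz]
      refine Rep.ext (Rep.foldl (τ y) (hSW _ (hτ1 y hy)) hm) (Rep.foldl (τ z) (hSW _ (hτ1 z hz)) hm) ?_
      intro i hi
      have h5 : ∀ y ∈ I, ((τ y).foldl (fun c a => fun i => if adj i a then c i + c a else c i)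
          (fun i => F (X t g i))) i = F (ev t (τ y) * X t g i * (ev t (τ y))⁻¹) := by
        intro y hy
        have := hfun F hFadd (τ y) (hSW _ (hτ1 y hy)) 1 (by simp) (fun i => F (X t g i)) (by simp) i hi
        rw [one_mul] at this
        exact this
      rw [h5 y hy, h5 z hz]
      exact hcon i hi
    refine ⟨I.image σ, ?_, ?_, ?_⟩
    · rw [Finset.card_image_of_injOn, hI2]
      intro y hy z hz hyz
      by_contra hne
      obtain ⟨i, -, h5⟩ := key y hy z hz hne
      apply h5
      have h6 : ev t (τ y) = ev t (τ z) := by rw [← hσ y hy, ← hσ z hz]; exact congrArg Subtype.val hyz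
      rw [h6]
    · intro s hs e he
      obtain ⟨y, hy, rfl⟩ := Finset.mem_image.1 hs
      change (σ y : G) * (e : G) * (σ y : G)⁻¹ ∈ E
      rw [hσ y hy]
      exact hnorm _ (hSW _ (hτ1 y hy)) _ he
    · intro s hs s' hs' hss
      obtain ⟨y, hy, rfl⟩ := Finset.mem_image.1 hs
      obtain ⟨z, hz, rfl⟩ := Finset.mem_image.1 hs'
      obtain ⟨i, hi, h5⟩ := key y hy z hz (fun h0 => hss (by rw [h0]))
      refine ⟨⟨X t g i, hXK i⟩, ?_, ?_⟩
      · change X t g i ∈ E
        rw [← hx i hi]; exact hxE i
      · intro h6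
        apply h5
        have h7 : ∀ y ∈ I, F (ev t (τ y) * X t g i * (ev t (τ y))⁻¹) = f (σ y * ⟨X t g i, hXK i⟩ * (σ y)⁻¹) := by
          intro y hy
          have hmem : ev t (τ y) * X t g i * (ev t (τ y))⁻¹ ∈ K :=
            K.mul_mem (K.mul_mem (hτK y hy) (hXK i)) (K.inv_mem (hτK y hy))
          rw [hF _ hmem]
          congr 1
          apply Subtype.ext
          change _ = (σ y : G) * X t g i * (σ y : G)⁻¹
          rw [hσ y hy]
        rw [h7 y hy, h7 z hz]
        exact h6

end Cfsg.Agent.H920.FiTwo
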