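import Cfsg.Agent.H920.CsFace

/-!
# `R ≤ Y` (helper920)

* `Coord.Core.le_core` : `R ≤ Y` for the types in the statements;
* `Coord.Core.exists_scalar_mem` : the scalar `χ a` is in `Y`.
-/

set_option autoImplicit false

namespace Cfsg.Agent.H920

open Cfsg Cfsg.Geo Matrix Cfsg.Agent.ClassicalGeometry.SympBasic
open scoped commutatorElement

variable {ι : Type} [Fintype ι] [DecidableEq ι] {F : Type*} [Field F] {R : Subgroup (GL ι F)} {r k : ℕ}
variable {C : Coord R r k} {Y : Subgroup (GL ι F)}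

theorem Coord.exists_pair (C : Coord R r k) [Fact r.Prime] (hY : C.Core Y) (hk : 1 ≤ k) (a : ZMod r) :
    ∃ x y : R, (x : GL ι F) ∈ Y ∧ (y : GL ι F) ∈ Y ∧ sympForm k (ZMod r) (C.φ x) (C.φ y) = a := by
  let i : Fin k := ⟨0, hk⟩
  obtain ⟨x, hx, hxY⟩ := hY.exists_mem_inf (Pi.single (Sum.inr i) 1)
  obtain ⟨y, hy, hyY⟩ := hY.exists_mem_inf (Pi.single (Sum.inl i) a)
  refine ⟨x, y, hxY, hyY, ?_⟩
  rw [hx, hy, sympForm_single_inr_left]
  simp

theorem Coord.commutator_eq (C : Coord R r k) (x y : R) :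
    (((x * y * x⁻¹ * y⁻¹ : R) : GL ι F) : Matrix ι ι F) =
      C.χ (sympForm k (ZMod r) (C.φ x) (C.φ y)) • (1 : Matrix ι ι F) := by
  have h2 := C.conj_eq x y
  simp only [Subgroup.coe_mul, Subgroup.coe_inv]
  rw [Units.val_mul, h2, Matrix.smul_mul, Units.mul_inv]

theorem Coord.Core.exists_scalar_mem [Fact r.Prime] (hY : C.Core Y) (hk : 1 ≤ k) (a : ZMod r) :
    ∃ z : R, (z : GL ι F) ∈ Y ∧ ((z : GL ι F) : Matrix ι ι F) = C.χ a • (1 : Matrix ι ι F) := by
  obtain ⟨x, y, hx, hy, h⟩ := C.exists_pair hY hk a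
  refine ⟨x * y * x⁻¹ * y⁻¹, ?_, ?_⟩
  · exact Y.mul_mem (Y.mul_mem (Y.mul_mem hx hy) (Y.inv_mem hx)) (Y.inv_mem hy)
  · rw [C.commutator_eq, h]

/-- If all scalars of `R` are in `Y` then `R ≤ Y`. -/
theorem Coord.Core.le_of_scalars [Fact r.Prime] (hY : C.Core Y)
    (h : ∀ z : R, (z : GL ι F) ∈ scalars ι F → (z : GL ι F) ∈ Y) : R ≤ Y := by
  intro x hx
  obtain ⟨x', h1, h2⟩ := hY.exists_mem_inf (C.φ ⟨x, hx⟩)
  rw [C.φ_eq_iff] at h1
  have h3 := h _ h1
  rw [Subgroup.coe_mul, Subgroup.coe_inv] at h3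
  have h4 := Y.mul_mem h2 h3
  rw [mul_inv_cancel_left] at h4
  exact h4

theorem pow_eq_one_of_smul {z : GL ι F} {c : F} (hz : (z : Matrix ι ι F) = c • (1 : Matrix ι ι F)) (n : ℕ) :
    ((z ^ n : GL ι F) : Matrix ι ι F) = c ^ n • (1 : Matrix ι ι F) := by
  rw [Units.val_pow_eq_pow_val, hz, smul_pow, one_pow]

theorem smul_one_injective [Nonempty ι] {c d : F} (h : c • (1 : Matrix ι ι F) = d • (1 : Matrix ι ι F)) : c = d :=
  smul_gl_injective (g := (1 : GL ι F)) h

/-- Odd type. -/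
theorem Coord.Core.le_of_odd [Finite R] [Nonempty ι] [Fact r.Prime] (hY : C.Core Y) (hk : 1 ≤ k)
    (habs : ActsAbsolutelyIrreducibly (matrixSet R)) (hZ : Nat.card (Subgroup.center R) = r) : R ≤ Y := by
  apply hY.le_of_scalars
  intro z hz
  obtain ⟨c, hc⟩ := (mem_scalars_iff _).1 hz
  have hzc := mem_center_of_mem_scalars habs hz
  have h1 : (⟨z, hzc⟩ : Subgroup.center R) ^ r = 1 := by
    rw [← hZ]; exact pow_card_eq_one'
  have h2 : ((z : GL ι F)) ^ r = 1 := by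
    have := congrArg (fun a : Subgroup.center R => ((a : R) : GL ι F)) h1
    simpa using this
  have h3 : (c : F) ^ r = 1 := by
    apply smul_one_injective (ι := ι)
    rw [← pow_eq_one_of_smul hc, h2, one_smul]; rfl
  obtain ⟨a, ha⟩ := C.exists_χ_eq h3
  obtain ⟨z', hz', hz''⟩ := hY.exists_scalar_mem hk a
  have h4 : z = z' := by
    apply Subtype.ext
    apply Units.ext
    rw [hc, hz'', ha]
  rw [h4]; exact hz'

/-- The square of an element of `R` for `r = 2` is a scalar. -/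
theorem Coord.sq_mem_scalars {C : Coord R 2 k} (x : R) : (((x * x : R)) : GL ι F) ∈ scalars ι F := by
  rw [← C.ker_iff, C.map_mul]
  ext i
  rw [Pi.add_apply]
  exact CharTwo.add_self_eq_zero _

/-- Type `4 ∘ 2^{1+2k}`. -/
theorem Coord.Core.le_of_four {C : Coord R 2 k} [Finite R] [Nonempty ι] (hR : IsSymplecticTypeGroup 2 R)
    (hY : C.Core Y) (hk : 2 ≤ k)
    (habs : ActsAbsolutelyIrreducibly (matrixSet R)) (hZ : Nat.card (Subgroup.center R) = 4) : R ≤ Y := by
  classical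
  have h2p : Fact (Nat.Prime 2) := ⟨Nat.prime_two⟩
  -- the scalars of `R`
  obtain ⟨z₀, i, hi, hz₀, -, hz₀c⟩ := exists_i_of_type hR habs hZ
  have hχ : C.χ 1 = -1 := by
    have h2 : C.χ 1 ^ 2 = 1 := by
      rw [← AddChar.map_nsmul_eq_pow, zmod2_a, AddChar.map_zero_eq_one]
    rcases (mul_self_eq_one_iff.1 ((pow_two _).symm.trans h2)) with h3 | h3
    · exfalso
      have : (1 : ZMod 2) = 0 := C.inj (by rw [h3, AddChar.map_zero_eq_one])
      exact zmod2_d this
    · exact h3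
  have hneg : (1 : F) ≠ -1 := by
    intro h
    have : (1 : ZMod 2) = 0 := C.inj (by rw [hχ, AddChar.map_zero_eq_one, ← h])
    exact zmod2_d this
  -- scalars `c` of `R` satisfy `c ^ 4 = 1`
  have hsc : ∀ z : R, (z : GL ι F) ∈ scalars ι F → ∃ c : F, ((z : GL ι F) : Matrix ι ι F) = c • (1 : Matrix ι ι F) ∧
      (c = 1 ∨ c = -1 ∨ c = i ∨ c = -i) := by
    intro z hz
    obtain ⟨c, hc⟩ := (mem_scalars_iff _).1 hz
    refine ⟨c, hc, ?_⟩
    have hzc := mem_center_of_mem_scalars habs hz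
    have h1 : (⟨z, hzc⟩ : Subgroup.center R) ^ 4 = 1 := by
      rw [← hZ]; exact pow_card_eq_one'
    have h2 : ((z : GL ι F)) ^ 4 = 1 := by
      have := congrArg (fun a : Subgroup.center R => ((a : R) : GL ι F)) h1
      simpa using this
    have h3 : (c : F) ^ 4 = 1 := by
      apply smul_one_injective (ι := ι)
      rw [← pow_eq_one_of_smul hc, h2, one_smul]; rfl
    have h4 : ((c : F) - 1) * (((c : F) + 1) * (((c : F) - i) * ((c : F) + i))) = 0 := by
      linear_combination h3 - ((c : F) ^ 2 - 1) * hi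
    rcases mul_eq_zero.1 h4 with h | h
    · exact Or.inl (sub_eq_zero.1 h)
    rcases mul_eq_zero.1 h with h | h
    · exact Or.inr (Or.inl (eq_neg_of_add_eq_zero_left h))
    rcases mul_eq_zero.1 h with h | h
    · exact Or.inr (Or.inr (Or.inl (sub_eq_zero.1 h)))
    · exact Or.inr (Or.inr (Or.inr (eq_neg_of_add_eq_zero_left h)))
  obtain ⟨zm, hzmY, hzm⟩ := hY.exists_scalar_mem (by omega) 1
  rw [hχ] at hzm
  -- it suffices to have one of `± i` in `Y`
  suffices hmain : ∃ z : R, (z : GL ι F) ∈ Y ∧ (((z : GL ι F) : Matrix ι ι F) = i • (1 : Matrix ι ι F) ∨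
      ((z : GL ι F) : Matrix ι ι F) = (-i) • (1 : Matrix ι ι F)) by
    apply hY.le_of_scalars
    intro z hz
    obtain ⟨c, hc, hc'⟩ := hsc z hz
    have hall : ∀ c' : F, (c' = 1 ∨ c' = -1 ∨ c' = i ∨ c' = -i) → ∃ w : GL ι F, w ∈ Y ∧
        (w : Matrix ι ι F) = c' • (1 : Matrix ι ι F) := by
      obtain ⟨w, hwY, hw⟩ := hmain
      rintro c' (rfl | rfl | rfl | rfl)
      · exact ⟨1, Y.one_mem, by rw [one_smul]; rfl⟩
      · exact ⟨zm, hzmY, hzm⟩
      · rcases hw with hw | hw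
        · exact ⟨w, hwY, hw⟩
        · refine ⟨w * zm, Y.mul_mem hwY hzmY, ?_⟩
          rw [Units.val_mul, hw, hzm, smul_mul_smul_comm, one_mul]; congr 1; ring
      · rcases hw with hw | hw
        · refine ⟨w * zm, Y.mul_mem hwY hzmY, ?_⟩
          rw [Units.val_mul, hw, hzm, smul_mul_smul_comm, one_mul]; congr 1; ring
        · exact ⟨w, hwY, hw⟩
    obtain ⟨w, hwY, hw⟩ := hall c hc'
    have : (z : GL ι F) = w := Units.ext (by rw [hc, hw])
    rw [this]; exact hwY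
  by_contra hcon
  push Not at hcon
  -- scalars of `R ∩ Y` are `± 1`
  have hpm : ∀ z : R, (z : GL ι F) ∈ scalars ι F → (z : GL ι F) ∈ Y → (z : GL ι F) * z = 1 := by
    intro z hz hzY
    obtain ⟨c, hc, hc'⟩ := hsc z hz
    have := hcon z hzY
    apply Units.ext
    rw [Units.val_mul, hc, smul_mul_smul_comm, one_mul, Units.val_one]
    rcases hc' with h | h | h | h
    · rw [h, one_mul, one_smul]
    · rw [h]; simp
    · rw [h] at hc; exact absurd hc this.1
    · rw [h] at hc; exact absurd hc this.2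
  -- the square is constant
  have hconst : ∀ x y : R, (x : GL ι F) ∈ Y → (y : GL ι F) ∈ Y → C.φ x ≠ 0 → C.φ y ≠ 0 →
      (x : GL ι F) * x = (y : GL ι F) * y := by
    intro x y hxY hyY hx hy
    obtain ⟨g, hg, y', h1, h2⟩ := hY.trans hx hy
    rw [C.φ_eq_iff] at h2
    have hy'Y : (y' : GL ι F) ∈ Y := by
      rw [← h1]; exact Y.mul_mem (Y.mul_mem hg hxY) (Y.inv_mem hg)
    have h3 := hpm _ h2 (Y.mul_mem (Y.inv_mem hy'Y) hyY)
    rw [Subgroup.coe_mul, Subgroup.coe_inv] at h2 h3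
    have h4 : (y : GL ι F) = y' * ((y' : GL ι F)⁻¹ * y) := by group
    have h5 : (y : GL ι F) * y = y' * y' := by
      have h6 := scalars_comm h2 (y' : GL ι F)
      calc (y : GL ι F) * y = y' * ((y' : GL ι F)⁻¹ * y) * (y' * ((y' : GL ι F)⁻¹ * y)) := by rw [← h4]
        _ = y' * (((y' : GL ι F)⁻¹ * y) * y') * ((y' : GL ι F)⁻¹ * y) := by group
        _ = y' * y' * (((y' : GL ι F)⁻¹ * y) * ((y' : GL ι F)⁻¹ * y)) := by rw [h6]; group
        _ = y' * y' := by rw [h3, mul_one]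
    have h6 : (y' : GL ι F) * y' = g * (x * x) * g⁻¹ := by rw [← h1]; group
    have h7 := C.sq_mem_scalars x
    rw [Subgroup.coe_mul] at h7
    rw [h5, h6, ← scalars_comm h7 g, mul_inv_cancel_right]
  have h0k : 0 < k := by omega
  let i₀ : Fin k := ⟨0, by omega⟩
  let i₁ : Fin k := ⟨1, by omega⟩
  have hi01 : i₀ ≠ i₁ := by
    intro h
    have := congrArg Fin.val h
    simp [i₀, i₁] at this
  obtain ⟨x, hx, hxY⟩ := hY.exists_mem_inf (Pi.single (Sum.inr i₀) 1)
  obtain ⟨y, hy, hyY⟩ := hY.exists_mem_inf (Pi.single (Sum.inl i₀) 1)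
  obtain ⟨y', hy', hy'Y⟩ := hY.exists_mem_inf (Pi.single (Sum.inl i₁) 1)
  have hne : ∀ (a : Fin k ⊕ Fin k) (v : Vec 2 k), v a = 1 → v ≠ 0 := by
    intro a v hv h0
    rw [h0] at hv
    exact zmod2_d hv.symm
  have hx0 : C.φ x ≠ 0 := hne (Sum.inr i₀) _ (by rw [hx]; simp)
  have hy0 : C.φ y ≠ 0 := hne (Sum.inl i₀) _ (by rw [hy]; simp)
  have hy'0 : C.φ y' ≠ 0 := hne (Sum.inl i₁) _ (by rw [hy']; simp)
  have hxy0 : C.φ (x * y) ≠ 0 := hne (Sum.inl i₀) _ (by rw [C.map_mul, hx, hy]; simp)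
  have hxy'0 : C.φ (x * y') ≠ 0 := hne (Sum.inl i₁) _ (by rw [C.map_mul, hx, hy']; simp)
  have hf1 : sympForm k (ZMod 2) (C.φ x) (C.φ y) = 1 := by
    rw [hx, hy, sympForm_single_inr_left]; simp
  have hf2 : sympForm k (ZMod 2) (C.φ x) (C.φ y') = 0 := by
    rw [hx, hy', sympForm_single_inr_left]; simp [hi01]
  -- matrices
  obtain ⟨c, hc⟩ := (mem_scalars_iff _).1 (C.sq_mem_scalars x)
  have hc' : ∀ w : R, (w : GL ι F) ∈ Y → C.φ w ≠ 0 →
      ((w : GL ι F) : Matrix ι ι F) * ((w : GL ι F) : Matrix ι ι F) = (c : F) • (1 : Matrix ι ι F) := by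
    intro w hw hw0
    rw [← Units.val_mul, ← hconst x w hxY hw hx0 hw0, ← Subgroup.coe_mul, hc]
  have e1 := hc' _ hxY hx0
  have e2 := hc' _ hyY hy0
  have e3 := hc' _ hy'Y hy'0
  have e4 := hc' (x * y) (Y.mul_mem hxY hyY) hxy0
  have e5 := hc' (x * y') (Y.mul_mem hxY hy'Y) hxy'0
  have c1 := C.comm x y
  have c2 := C.comm x y'
  rw [hf1, hχ] at c1
  rw [hf2, AddChar.map_zero_eq_one, one_smul] at c2
  rw [Subgroup.coe_mul, Units.val_mul] at e4 e5
  set X := ((x : GL ι F) : Matrix ι ι F)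
  set V := ((y : GL ι F) : Matrix ι ι F)
  set V' := ((y' : GL ι F) : Matrix ι ι F)
  have e6 : (X * V) * (X * V) = (-(c * c : F)) • (1 : Matrix ι ι F) := by
    have : V * X = (-1 : F) • (X * V) := by rw [c1, smul_smul]; simp
    calc (X * V) * (X * V) = X * (V * X) * V := by simp only [Matrix.mul_assoc]
      _ = (-1 : F) • ((X * X) * (V * V)) := by
          rw [this]; simp only [Matrix.mul_assoc, Matrix.mul_smul, Matrix.smul_mul]
      _ = (-(c * c : F)) • (1 : Matrix ι ι F) := by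
          rw [e1, e2, smul_mul_smul_comm, one_mul, smul_smul]; congr 1; ring
  have e7 : (X * V') * (X * V') = ((c * c : F)) • (1 : Matrix ι ι F) := by
    calc (X * V') * (X * V') = X * (V' * X) * V' := by simp only [Matrix.mul_assoc]
      _ = ((X * X) * (V' * V')) := by
          rw [← c2]; simp only [Matrix.mul_assoc]
      _ = ((c * c : F)) • (1 : Matrix ι ι F) := by
          rw [e1, e3, smul_mul_smul_comm, one_mul]
  rw [e4] at e6
  rw [e5] at e7
  have f1 := smul_one_injective (ι := ι) e6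
  have f2 := smul_one_injective (ι := ι) e7
  have hc0 : (c : F) ≠ 0 := c.ne_zero
  have f3 : (c : F) = 1 := by
    have := mul_left_cancel₀ hc0 (show (c : F) * c = (c : F) * 1 by rw [mul_one]; exact f2.symm)
    exact this
  rw [f3] at f1
  exact hneg (f1.trans (by ring))

/-- **`R ≤ Y`.** -/
theorem Coord.Core.le_core [Finite F] [Nonempty ι] (hY : C.Core Y) (hR : IsSymplecticTypeGroup r R)
    (habs : ActsAbsolutelyIrreducibly (matrixSet R)) (ht : IsType r k R) (h5 : 5 ≤ r ^ k) : R ≤ Y := by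
  have hfin : Finite (GL ι F) := inferInstance
  have hp : Fact r.Prime := ⟨hR.prime⟩
  have hk : 1 ≤ k := by
    rcases Nat.eq_zero_or_pos k with rfl | h
    · rw [pow_zero] at h5; omega
    · exact h
  rcases ht with ⟨-, hZ, -⟩ | ⟨rfl, hZ, -⟩
  · exact hY.le_of_odd hk habs hZ
  · refine hY.le_of_four hR ?_ habs hZ
    by_contra hk2
    have : k = 1 := by omega
    subst this
    norm_num at h5

end Cfsg.Agent.H920
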