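import Cfsg.Agent.H920.CsExtra
import Cfsg.Agent.ClassicalGeometry.UnitTransv
import Cfsg.Agent.LieClassical.HermBasic

/-!
# Maximality of class-6 subgroups of `SL` and `SU`, given the almost simple overgroups (helper920)

`DSL R`, `DSU R` : the statements (D) to be proved about almost simple overgroups.
* `maximal_SL`, `maximal_SU`.
-/

set_option autoImplicit false

namespace Cfsg.Agent.H920

open Cfsg Cfsg.Geo Matrix Cfsg.Agent.LieClassical.HermBasic

section Tv

variable {ι : Type} [Fintype ι] [DecidableEq ι] {F : Type*} [Field F]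

theorem exists_tv_SL {i j : ι} (hij : i ≠ j) : ∃ t ∈ specialLinear ι F, IsTv t := by
  refine ⟨Matrix.GeneralLinearGroup.mkOfDetNeZero (Matrix.transvection i j (1 : F))
    (by rw [Matrix.det_transvection_of_ne i j hij]; exact one_ne_zero), ?_, Pi.single i 1, Pi.single j 1, ?_, ?_, ?_⟩
  · rw [specialLinear, MonoidHom.mem_ker]
    apply Units.ext
    exact Matrix.det_transvection_of_ne i j hij 1
  · intro h
    have := congrFun h i
    simp at this
  · intro h
    have := congrFun h j
    simp at this
  · show Matrix.transvection i j (1 : F) = _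
    rw [Matrix.transvection]
    congr 1
    ext a b
    by_cases ha : a = i
    · subst ha
      by_cases hb : b = j
      · subst hb; simp [Matrix.vecMulVec_apply]
      · simp [Matrix.vecMulVec_apply, hb, Ne.symm hb]
    · simp [Matrix.vecMulVec_apply, ha, Ne.symm ha]

variable {n q : ℕ}

theorem exists_isotropic [Fintype F] (hF : Fintype.card F = q ^ 2) {i j : Fin n} (hij : i ≠ j) :
    ∃ v : Fin n → F, v ≠ 0 ∧ hermForm n F q v v = 0 := by
  obtain ⟨a, ha⟩ := exists_norm_eq hF (c := (-1 : F)) (by
    have h1 := sub_pow_q hF (0 : F) 1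
    rw [zero_sub, one_pow, zero_pow_q hF, zero_sub] at h1
    exact h1)
  refine ⟨Pi.single i 1 + Pi.single j a, ?_, ?_⟩
  · intro h
    have := congrFun h i
    simp [hij] at this
  · rw [herm_add_left, herm_single_left, herm_single_left]
    simp [hij, hij.symm]
    linear_combination ha

theorem exists_tv_SU [Fintype F] (hF : Fintype.card F = q ^ 2) {i j : Fin n} (hij : i ≠ j) :
    ∃ t ∈ GU n F q ⊓ specialLinear (Fin n) F, IsTv t := by
  obtain ⟨v, hv, hvv⟩ := exists_isotropic hF hij
  obtain ⟨c, hc0, hc⟩ := exists_trace_zero_ne hF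
  have hdet : (unitaryTransvection n q v c).det = 1 := ClassicalGeometry.UnitTransv.det_unitaryTransvection hvv c
  refine ⟨Matrix.GeneralLinearGroup.mkOfDetNeZero (unitaryTransvection n q v c) (by rw [hdet]; exact one_ne_zero),
    ⟨?_, ?_⟩, c • v, fun j => (v j) ^ q, ?_, ?_, ?_⟩
  · intro u w
    change hermForm n F q (unitaryTransvection n q v c *ᵥ u) (unitaryTransvection n q v c *ᵥ w) = _
    rw [ClassicalGeometry.UnitTransv.herm_utv hF hvv, hc, zero_mul, add_zero]
  · show _ ∈ specialLinear (Fin n) F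
    rw [specialLinear, MonoidHom.mem_ker]
    apply Units.ext
    exact hdet
  · intro h
    rcases smul_eq_zero.1 h with h | h
    · exact hc0 h
    · exact hv h
  · intro h
    apply hv
    funext i
    have h1 : (v i) ^ q = 0 := congrFun h i
    exact pow_eq_zero_iff (n := q) (by
      rintro rfl
      rw [zero_pow two_ne_zero] at hF
      exact absurd hF Fintype.card_ne_zero) |>.1 h1
  · show unitaryTransvection n q v c = _
    rw [unitaryTransvection, Matrix.smul_vecMulVec]

end Tv

section Main

variable {ι : Type} [Fintype ι] [DecidableEq ι] {F : Type*} [Field F] {R : Subgroup (GL ι F)} {r k : ℕ}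

/-- The almost simple overgroups of the perfect part `Y`: `P` is the residual core of `X`, `Y ≤ P`, and `P` fixes no
symplectic and no quadratic form. -/
structure IsOver {R : Subgroup (GL ι F)} (C : Coord R r k) (Y X P : Subgroup (GL ι F)) : Prop where
  hR : IsSymplecticTypeGroup r R
  habs : ActsAbsolutelyIrreducibly (matrixSet R)
  type : IsType r k R
  five : 5 ≤ r ^ k
  core : C.Core Y
  card_eq : Fintype.card ι = r ^ k
  isCore : IsResidualCore X P
  le : Y ≤ P
  R_le : R ≤ P
  no_symplectic : ¬ ∃ f : (ι → F) → (ι → F) → F, IsSymplecticForm f ∧ FixesForm (matrixSet P) f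
  no_quadratic : ¬ ∃ Q : (ι → F) → F, IsNondegenerateQuadraticForm Q ∧ FixesQuadForm (matrixSet P) Q

/-- The Schreier property for the simple quotients. -/
def SchAll (ι : Type) [Fintype ι] [DecidableEq ι] (F : Type*) [Field F] : Prop :=
  ∀ P : Subgroup (GL ι F), IsSimpleGroup (H878.SQ P) → ¬ IsMulCommutative (H878.SQ P) →
      Schreier.Basic.Sch (H878.SQ P)

theorem isMaximalIn_of_over [Fintype F] [Nonempty ι] (hR : IsSymplecticTypeGroup r R)
    (habs : ActsAbsolutelyIrreducibly (matrixSet R)) (ht : IsType r k R) (h5 : 5 ≤ r ^ k) {p e : ℕ}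
    (hmin : IsMinimalFieldFor (Nat.card (Subgroup.center R)) p e F) {K : Subgroup (GL ι F)}
    (hsch : SchAll ι F) {C : Coord R r k} {Y : Subgroup (GL ι F)} (hY : C.Core Y) (hYK : Y ≤ K)
    (htv : ∃ t ∈ K, IsTv t) (hD : ∀ X P : Subgroup (GL ι F), X ≤ K → IsOver C Y X P → K ≤ P) :
    IsMaximalIn K (subgroupNormalizer R ⊓ K) := by
  have hRY := hY.le_core hR habs ht h5
  have h3 : 3 ≤ Nat.card (Subgroup.center R) := by
    rcases ht with ⟨hodd, hZ, -⟩ | ⟨-, hZ, -⟩
    · rw [hZ]
      have h2 := hR.prime.two_le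
      rcases Nat.lt_or_ge r 3 with h | h
      · have : r = 2 := by omega
        rw [this] at hodd
        exact absurd hodd (by decide)
      · exact h
    · rw [hZ]; norm_num
  refine isMaximalIn_of hR habs ht h5 hY hYK htv hsch ?_
  intro X P hX hP hYP
  exact hD X P hX
    { hR := hR, habs := habs, type := ht, five := h5, core := hY, card_eq := card_of_type hR habs ht
      isCore := hP.isResidualCore (not_realisable_of_minimal hR habs hmin (hRY.trans hYP))
      le := hYP, R_le := hRY.trans hYP
      no_symplectic := not_fixes_symplectic hR habs h3 (hRY.trans hYP)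
      no_quadratic := not_fixes_quadratic hR habs h3 (hRY.trans hYP) }

/-- **Class 6 in `SL`, given (D).** -/
theorem maximal_SL [Fintype F] (hR : IsLinearSymplecticTypeData r R) (h5 : 5 ≤ Fintype.card ι)
    (hsch : SchAll ι F)
    (hD : ∀ (k : ℕ) (C : Coord R r k) (Y X P : Subgroup (GL ι F)), X ≤ specialLinear ι F → IsOver C Y X P →
      (¬ ∃ (σ : F ≃+* F) (f : (ι → F) → (ι → F) → F), IsUnitaryForm σ f ∧ FixesForm (matrixSet P) f) →
      specialLinear ι F ≤ P) :
    IsMaximalIn (specialLinear ι F) (subgroupNormalizer R ⊓ specialLinear ι F) := by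
  have hne : Nonempty ι := Fintype.card_pos_iff.1 (by omega)
  obtain ⟨p, e, hrp, hmin, h⟩ := hR.field
  obtain ⟨i, j, hij⟩ : ∃ i j : ι, i ≠ j := by
    have h1 : 1 < Fintype.card ι := by omega
    obtain ⟨i, j, hij⟩ := Fintype.exists_pair_of_one_lt_card h1
    exact ⟨i, j, hij⟩
  have key : ∀ k : ℕ, IsType r k R → Odd e → IsMaximalIn (specialLinear ι F) (subgroupNormalizer R ⊓ specialLinear ι F) := by
    intro k ht he
    have hcard := card_of_type hR.symplecticType hR.absIrred ht
    rw [hcard] at h5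
    obtain ⟨C, Y, hY⟩ := exists_coord_core hR.symplecticType hR.absIrred ht h5
    refine isMaximalIn_of_over hR.symplecticType hR.absIrred ht h5 hmin hsch hY (perfect_le_specialLinear hY.perfect)
      (exists_tv_SL hij) ?_
    intro X P hX hP
    have := hmin.2.1
    exact hD k C Y X P hX hP (not_fixes_unitary hmin.1 hmin.2.2.1 he)
  rcases h with ⟨hodd, he, hZ, m, hm, hcR⟩ | ⟨h2, he, hZ, h4, m, hcR⟩ | ⟨-, -, h2, -⟩
  · exact key m (Or.inl ⟨hodd, hZ, hcR⟩) he
  · exact key m (Or.inr ⟨h2, hZ, hcR⟩) (by rw [he]; exact odd_one)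
  · omega

end Main

section SU

variable {n q : ℕ} {F : Type*} [Field F] {R : Subgroup (GL (Fin n) F)} {r k : ℕ}

/-- **Class 6 in `SU`, given (D).** -/
theorem maximal_SU [Fintype F] (hF : Fintype.card F = q ^ 2) (h5 : 5 ≤ n) (hR : IsSymplecticTypeGroup r R)
    (hirr : ActsAbsolutelyIrreducibly (matrixSet R)) (hRD : R ≤ GU n F q) {p e : ℕ}
    (hmin : IsMinimalFieldFor (Nat.card (Subgroup.center R)) p e F)
    (htype : IsType r k R) (hsch : SchAll (Fin n) F)
    (hD : ∀ (C : Coord R r k) (Y X P : Subgroup (GL (Fin n) F)), X ≤ GU n F q ⊓ specialLinear (Fin n) F →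
      IsOver C Y X P → GU n F q ⊓ specialLinear (Fin n) F ≤ P) :
    IsMaximalIn (GU n F q ⊓ specialLinear (Fin n) F)
      (subgroupNormalizer R ⊓ (GU n F q ⊓ specialLinear (Fin n) F)) := by
  have hne : Nonempty (Fin n) := ⟨⟨0, by omega⟩⟩
  have hij : (⟨0, by omega⟩ : Fin n) ≠ ⟨1, by omega⟩ := by
    intro h
    have := congrArg Fin.val h
    simp at this
  have hcard := card_of_type hR hirr htype
  rw [Fintype.card_fin] at hcard
  rw [hcard] at h5
  obtain ⟨C, Y, hY⟩ := exists_coord_core hR hirr htype h5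
  exact isMaximalIn_of_over hR hirr htype h5 hmin hsch hY (hY.le_SU hF (by omega) hirr hRD)
    (exists_tv_SU hF hij) (hD C Y)

end SU

end Cfsg.Agent.H920
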