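import Cfsg.Agent.H920.CsAff

/-!
# Lemma Min, commuting lifts (helper920)

Projective representations `τ` of `Γ` (`D : Aff r k Γ`) in which the lifts of `x(V)` commute.
* `Aff.sq_sub_one_le` : `r` odd: `r ^ (2 k) - 1 ≤ card κ`;
* `Aff.two_mul_le` : `r = 2`: `2 (2 ^ (2 k) - 1) ≤ card κ (card κ - 1)`.
-/

set_option autoImplicit false

namespace Cfsg.Agent.H920

open Cfsg Cfsg.Geo Matrix Cfsg.Agent.ClassicalGeometry.SympBasic

section Char

variable {K : Type*} [Field K] {r k : ℕ}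

theorem exists_addChar [IsAlgClosed K] (hr : r.Prime) (hrK : (r : K) ≠ 0) :
    ∃ χ : AddChar (ZMod r) K, Function.Injective χ := by
  have : NeZero r := ⟨hr.ne_zero⟩
  have : NeZero (r : K) := ⟨hrK⟩
  obtain ⟨ζ, hζ⟩ := HasEnoughRootsOfUnity.exists_primitiveRoot K r
  refine ⟨AddChar.zmodChar r hζ.pow_eq_one, ?_⟩
  intro a b hab
  rw [AddChar.zmodChar_apply, AddChar.zmodChar_apply] at hab
  exact ZMod.val_injective r (hζ.pow_inj (ZMod.val_lt a) (ZMod.val_lt b) hab)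

theorem exists_addChar_eq [Fact r.Prime] {χ : AddChar (ZMod r) K} (hχ : Function.Injective χ) {c : K}
    (hc : c ^ r = 1) : ∃ a, χ a = c := by
  have hrp : r.Prime := Fact.out
  have h1 : χ 1 ^ r = 1 := by
    rw [← AddChar.map_nsmul_eq_pow, nsmul_eq_mul, ZMod.natCast_self, zero_mul, AddChar.map_zero_eq_one]
  have h2 : χ 1 ≠ 1 := by
    intro h
    have : (1 : ZMod r) = 0 := hχ (by rw [h, AddChar.map_zero_eq_one])
    exact one_ne_zero this
  have hprim : IsPrimitiveRoot (χ 1) r := by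
    have h3 := IsPrimitiveRoot.orderOf (χ 1)
    rwa [orderOf_eq_prime h1 h2] at h3
  have hne : NeZero r := ⟨hrp.ne_zero⟩
  obtain ⟨i, -, hi⟩ := hprim.eq_pow_of_pow_eq_one hc
  exact ⟨i, by rw [← hi, ← AddChar.map_nsmul_eq_pow, nsmul_eq_mul, mul_one]⟩

theorem mul_map_zero {c : Vec r k → K} (h0 : ∀ v, c v ≠ 0) (hc : ∀ v w, c (v + w) = c v * c w) : c 0 = 1 := by
  have := hc 0 0
  rw [add_zero] at this
  exact (mul_eq_left₀ (h0 0)).1 this.symm

theorem mul_map_nsmul {c : Vec r k → K} (h0 : ∀ v, c v ≠ 0) (hc : ∀ v w, c (v + w) = c v * c w) (n : ℕ)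
    (v : Vec r k) : c (n • v) = c v ^ n := by
  induction n with
  | zero => rw [zero_smul, pow_zero, mul_map_zero h0 hc]
  | succ n ih => rw [succ_nsmul, hc, ih, pow_succ]

theorem nsmul_vec (v : Vec r k) : r • v = 0 := by
  ext i; simp

theorem mul_map_pow {c : Vec r k → K} (h0 : ∀ v, c v ≠ 0) (hc : ∀ v w, c (v + w) = c v * c w)
    (v : Vec r k) : c v ^ r = 1 := by
  rw [← mul_map_nsmul h0 hc, nsmul_vec, mul_map_zero h0 hc]

theorem mul_map_neg {c : Vec r k → K} (h0 : ∀ v, c v ≠ 0) (hc : ∀ v w, c (v + w) = c v * c w)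
    (v : Vec r k) : c (-v) * c v = 1 := by
  rw [← hc, neg_add_cancel, mul_map_zero h0 hc]

/-- Characters of `V` and the symplectic form. -/
theorem exists_form_of_char [Fact r.Prime] {χ : AddChar (ZMod r) K} (hχ : Function.Injective χ)
    {c : Vec r k → K} (h0 : ∀ v, c v ≠ 0) (hc : ∀ v w, c (v + w) = c v * c w) :
    ∃ w, ∀ v, c v = χ (sympForm k (ZMod r) w v) := by
  choose a ha using fun v => exists_addChar_eq hχ (mul_map_pow h0 hc v)
  have hamul : ∀ x y, a (x + y) = a x + a y := by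
    intro x y
    apply hχ
    rw [AddChar.map_add_eq_mul, ha, ha, ha, hc]
  let L : (Vec r k) →+ ZMod r := AddMonoidHom.mk' a hamul
  let L' := AddMonoidHom.toZModLinearMap r L
  refine ⟨(LinearMap.BilinForm.toDual (sympBilin k (ZMod r)) sympBilin_nondegenerate).symm L', fun v => ?_⟩
  have h3 := LinearMap.BilinForm.apply_toDual_symm_apply (hB := sympBilin_nondegenerate (m := k) (F := ZMod r)) L' v
  rw [sympBilin_apply] at h3
  rw [h3]
  exact (ha v).symm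

end Char

variable {κ : Type} [Fintype κ] [DecidableEq κ] [Nonempty κ] {K : Type*} [Field K] {Γ : Type*} [Group Γ]
  {r k : ℕ} (D : Aff r k Γ) {τ : Γ → GL κ K}

/-- The weights of a family of matrices. -/
def IsWt (M : Vec r k → Matrix κ κ K) (χ : Vec r k → K) : Prop := ∃ u : κ → K, u ≠ 0 ∧ ∀ v, M v *ᵥ u = χ v • u

omit [Nonempty κ] in
/-- If the only weight is `χ`, the family is scalar. -/
theorem eq_smul_of_unique [IsAlgClosed K] (hrK : (r : K) ≠ 0) {M : Vec r k → Matrix κ κ K}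
    (hadd : ∀ v w, M (v + w) = M v * M w) (hone : M 0 = 1) {χ : Vec r k → K}
    (hu : ∀ χ', IsWt M χ' → χ' = χ) (v : Vec r k) : M v = χ v • (1 : Matrix κ κ K) := by
  let L : Matrix κ κ K ≃ₐ[K] Module.End K (κ → K) := Matrix.toLinAlgEquiv'
  have hpow : ∀ (n : ℕ) (v : Vec r k), M (n • v) = M v ^ n := by
    intro n v
    induction n with
    | zero => rw [zero_smul, pow_zero, hone]
    | succ n ih => rw [succ_nsmul, hadd, ih, pow_succ]
  have hLr : ∀ v, L (M v) ^ r = 1 := by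
    intro v
    rw [← map_pow, ← hpow, nsmul_vec, hone, map_one]
  have htop := Module.End.iSup_iInf_maxGenEigenspace_eq_top_of_iSup_maxGenEigenspace_eq_top_of_commute
    (fun v : Vec r k => L (M v)) (by
      intro i j _
      show L _ * L _ = L _ * L _
      rw [← map_mul, ← map_mul, ← hadd, ← hadd, add_comm])
    (fun i => Module.End.iSup_maxGenEigenspace_eq_top _)
  have hle : ∀ χ' : Vec r k → K, ⨅ v, (L (M v)).maxGenEigenspace (χ' v) ≤ (L (M v)).eigenspace (χ v) := by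
    intro χ'
    by_cases hb : ⨅ v, (L (M v)).maxGenEigenspace (χ' v) = ⊥
    · rw [hb]; exact bot_le
    · obtain ⟨u, hu1, hu0⟩ := Submodule.exists_mem_ne_zero_of_ne_bot hb
      have h1 : ∀ v, M v *ᵥ u = χ' v • u := by
        intro v
        have h2 := (Submodule.mem_iInf _).1 hu1 v
        rw [H912.Bd.maxGen_eq hrK (hLr v), Module.End.mem_eigenspace_iff] at h2
        rw [← h2]
        exact (Matrix.toLinAlgEquiv'_apply _ _).symm
      have h3 := hu χ' ⟨u, hu0, h1⟩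
      subst h3
      refine (iInf_le _ v).trans ?_
      rw [H912.Bd.maxGen_eq hrK (hLr v)]
  have h1 : (⊤ : Submodule K (κ → K)) ≤ (L (M v)).eigenspace (χ v) := by
    rw [← htop]
    exact iSup_le hle
  apply L.injective
  rw [map_smul, map_one]
  apply LinearMap.ext
  intro u
  have := h1 (Submodule.mem_top (x := u))
  rw [Module.End.mem_eigenspace_iff] at this
  rw [this]
  rfl

/-- Existence of a weight. -/
theorem exists_wt [IsAlgClosed K] (hrK : (r : K) ≠ 0) {M : Vec r k → Matrix κ κ K}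
    (hcomm : ∀ v w, M v * M w = M w * M v) (hpow : ∀ v, M v ^ r = 1) : ∃ χ, IsWt M χ := by
  let L : Matrix κ κ K ≃ₐ[K] Module.End K (κ → K) := Matrix.toLinAlgEquiv'
  have hLr : ∀ v, L (M v) ^ r = 1 := by
    intro v
    rw [← map_pow, hpow, map_one]
  have htop := Module.End.iSup_iInf_maxGenEigenspace_eq_top_of_iSup_maxGenEigenspace_eq_top_of_commute
    (fun v : Vec r k => L (M v)) (by
      intro i j _
      show L _ * L _ = L _ * L _
      rw [← map_mul, ← map_mul, hcomm])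
    (fun i => Module.End.iSup_maxGenEigenspace_eq_top _)
  by_contra hcon
  push Not at hcon
  have hbot : ∀ χ' : Vec r k → K, ⨅ v, (L (M v)).maxGenEigenspace (χ' v) = ⊥ := by
    intro χ'
    by_contra hb
    obtain ⟨u, hu1, hu0⟩ := Submodule.exists_mem_ne_zero_of_ne_bot hb
    refine hcon χ' ⟨u, hu0, fun v => ?_⟩
    have h2 := (Submodule.mem_iInf _).1 hu1 v
    rw [H912.Bd.maxGen_eq hrK (hLr v), Module.End.mem_eigenspace_iff] at h2
    rw [← h2]
    exact (Matrix.toLinAlgEquiv'_apply _ _).symm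
  simp only [hbot, iSup_bot] at htop
  exact bot_ne_top htop

/-- Honest lifts. -/
theorem Aff.exists_lift [IsAlgClosed K] (hr : r.Prime) (hrK : (r : K) ≠ 0) (hτ : IsProj τ)
    (hcomm : ∀ v w, (τ (D.x v) : Matrix κ κ K) * (τ (D.x w) : Matrix κ κ K) =
      (τ (D.x w) : Matrix κ κ K) * (τ (D.x v) : Matrix κ κ K)) :
    ∃ M : Vec r k → Matrix κ κ K, (∀ v, ∃ c : K, c ≠ 0 ∧ M v = c • (τ (D.x v) : Matrix κ κ K)) ∧
      (∀ v w, M (v + w) = M v * M w) ∧ M 0 = 1 := by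
  choose s hs0 hs using fun v => D.exists_scaled hr hτ v
  obtain ⟨χ, u, hu0, hu⟩ := exists_wt hrK (M := fun v => s v • (τ (D.x v) : Matrix κ κ K)) (by
    intro v w
    simp only [Matrix.smul_mul, Matrix.mul_smul, hcomm v w, smul_smul, mul_comm]) hs
  have hχ0 : ∀ v, χ v ≠ 0 := by
    intro v h0
    have h1 := hu v
    rw [h0, zero_smul] at h1
    have h2 : ((s v • (τ (D.x v) : Matrix κ κ K)) ^ r) *ᵥ u = 0 := by
      obtain ⟨r', hr'⟩ := Nat.exists_eq_succ_of_ne_zero hr.ne_zero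
      have : ∀ n : ℕ, ((s v • (τ (D.x v) : Matrix κ κ K)) ^ (n + 1)) *ᵥ u = 0 := by
        intro n
        rw [pow_succ, ← Matrix.mulVec_mulVec, h1, Matrix.mulVec_zero]
      have h3 := this (r - 1)
      rwa [Nat.sub_add_cancel hr.one_le] at h3
    rw [hs, Matrix.one_mulVec] at h2
    exact hu0 h2
  have hM : ∀ v, ((χ v)⁻¹ • s v • (τ (D.x v) : Matrix κ κ K)) *ᵥ u = u := by
    intro v
    rw [Matrix.smul_mulVec, hu, smul_smul, inv_mul_cancel₀ (hχ0 v), one_smul]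
  have hadd : ∀ v w, (χ (v + w))⁻¹ • s (v + w) • (τ (D.x (v + w)) : Matrix κ κ K) =
      ((χ v)⁻¹ • s v • (τ (D.x v) : Matrix κ κ K)) * ((χ w)⁻¹ • s w • (τ (D.x w) : Matrix κ κ K)) := by
    intro v w
    obtain ⟨c, hc, h1⟩ := hτ (D.x v) (D.x w)
    rw [← D.add] at h1
    obtain ⟨d, hd⟩ : ∃ d : K, (χ (v + w))⁻¹ • s (v + w) • (τ (D.x (v + w)) : Matrix κ κ K) =
        d • (((χ v)⁻¹ • s v • (τ (D.x v) : Matrix κ κ K)) * ((χ w)⁻¹ • s w • (τ (D.x w) : Matrix κ κ K))) := by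
      refine ⟨(χ (v + w))⁻¹ * s (v + w) * c * ((χ v) * (s v)⁻¹ * (χ w) * (s w)⁻¹), ?_⟩
      rw [h1]
      simp only [Matrix.smul_mul, Matrix.mul_smul, smul_smul]
      congr 1
      have h2 := hχ0 v
      have h3 := hχ0 w
      have h4 := hs0 v
      have h5 := hs0 w
      field_simp
    have h2 := hM (v + w)
    rw [hd, Matrix.smul_mulVec, ← Matrix.mulVec_mulVec, hM, hM] at h2
    have h3 : d = 1 := by
      have h4 : (d - 1) • u = 0 := by rw [sub_smul, one_smul, h2, sub_self]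
      exact sub_eq_zero.1 ((smul_eq_zero.1 h4).resolve_right hu0)
    rw [hd, h3, one_smul]
  refine ⟨fun v => (χ v)⁻¹ • s v • (τ (D.x v) : Matrix κ κ K), ?_, hadd, ?_⟩
  · intro v
    exact ⟨(χ v)⁻¹ * s v, mul_ne_zero (inv_ne_zero (hχ0 v)) (hs0 v), by simp only [smul_smul]⟩
  · have h1 := hadd 0 0
    rw [add_zero] at h1
    have h3 : (χ 0)⁻¹ * s 0 ≠ 0 := mul_ne_zero (inv_ne_zero (hχ0 0)) (hs0 0)
    simp only [smul_smul] at h1 ⊢
    set A := ((χ 0)⁻¹ * s 0) • (τ (D.x 0) : Matrix κ κ K) with hA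
    have h2 : A * (((χ 0)⁻¹ * s 0)⁻¹ • (((τ (D.x 0))⁻¹ : GL κ K) : Matrix κ κ K)) = 1 := by
      rw [hA, Matrix.smul_mul, Matrix.mul_smul, smul_smul, mul_inv_cancel₀ h3, one_smul, Units.mul_inv]
    calc A = A * (A * (((χ 0)⁻¹ * s 0)⁻¹ • (((τ (D.x 0))⁻¹ : GL κ K) : Matrix κ κ K))) := by rw [h2, Matrix.mul_one]
      _ = A * A * (((χ 0)⁻¹ * s 0)⁻¹ • (((τ (D.x 0))⁻¹ : GL κ K) : Matrix κ κ K)) := by rw [Matrix.mul_assoc]
      _ = 1 := by rw [← h1, h2]

omit [Nonempty κ] in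
/-- Matrices of lifts do not vanish. -/
theorem smul_M_injective [Nonempty κ] {M : Vec r k → Matrix κ κ K} {v : Vec r k}
    (hM : ∃ c : K, c ≠ 0 ∧ M v = c • (τ (D.x v) : Matrix κ κ K)) {g : GL κ K} {a b : K}
    (h : a • (M v * (g : Matrix κ κ K)) = b • (M v * (g : Matrix κ κ K))) : a = b := by
  obtain ⟨c, hc, hM⟩ := hM
  rw [hM, Matrix.smul_mul, smul_smul, smul_smul] at h
  have := smul_mul_injective h
  exact mul_right_cancel₀ hc this

/-- Conjugation of the honest lifts. -/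
theorem Aff.exists_conj (hτ : IsProj τ) {M : Vec r k → Matrix κ κ K}
    (hM : ∀ v, ∃ c : K, c ≠ 0 ∧ M v = c • (τ (D.x v) : Matrix κ κ K)) (hadd : ∀ v w, M (v + w) = M v * M w)
    {g : Γ} {A : Matrix (Fin k ⊕ Fin k) (Fin k ⊕ Fin k) (ZMod r)} (hg : ∀ v, g * D.x v * g⁻¹ = D.x (A *ᵥ v)) :
    ∃ d : Vec r k → K, (∀ v, d v ≠ 0) ∧ (∀ v w, d (v + w) = d v * d w) ∧
      ∀ v, (τ g : Matrix κ κ K) * M v = d v • (M (A *ᵥ v) * (τ g : Matrix κ κ K)) := by
  have hex : ∀ v, ∃ d : K, d ≠ 0 ∧ (τ g : Matrix κ κ K) * M v = d • (M (A *ᵥ v) * (τ g : Matrix κ κ K)) := by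
    intro v
    obtain ⟨c, hc, h1⟩ := hM v
    obtain ⟨c', hc', h2⟩ := hM (A *ᵥ v)
    obtain ⟨e, he, h3⟩ := hτ.conj g (D.x v)
    rw [hg] at h3
    refine ⟨c * e * c'⁻¹, mul_ne_zero (mul_ne_zero hc he) (inv_ne_zero hc'), ?_⟩
    rw [h1, h2, Matrix.mul_smul, h3, Matrix.smul_mul, smul_smul, smul_smul]
    congr 1
    field_simp
  choose d hd0 hd using hex
  refine ⟨d, hd0, ?_, hd⟩
  intro v w
  apply smul_M_injective D (hM (A *ᵥ (v + w))) (g := τ g)
  rw [← hd, hadd, ← Matrix.mul_assoc, hd, Matrix.smul_mul, Matrix.mul_assoc, hd, Matrix.mul_smul, smul_smul,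
    ← Matrix.mul_assoc, ← hadd, ← Matrix.mulVec_add]

theorem neg_one_mem : (-1 : Matrix (Fin k ⊕ Fin k) (Fin k ⊕ Fin k) (ZMod r)) ∈
    Matrix.symplecticGroup (Fin k) (ZMod r) := by
  rw [mem_symplecticGroup_iff]
  intro u v
  rw [Matrix.neg_mulVec, Matrix.one_mulVec, Matrix.neg_mulVec, Matrix.one_mulVec, sympForm_neg_left,
    sympForm_neg_right, neg_neg]

/-- **Equivariant lifts for odd `r`.** -/
theorem Aff.exists_equivariant [IsAlgClosed K] [hp : Fact r.Prime] (hodd : Odd r) (hrK : (r : K) ≠ 0)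
    (hτ : IsProj τ)
    (hcomm : ∀ v w, (τ (D.x v) : Matrix κ κ K) * (τ (D.x w) : Matrix κ κ K) =
      (τ (D.x w) : Matrix κ κ K) * (τ (D.x v) : Matrix κ κ K)) :
    ∃ M : Vec r k → Matrix κ κ K, (∀ v, ∃ c : K, c ≠ 0 ∧ M v = c • (τ (D.x v) : Matrix κ κ K)) ∧
      (∀ v w, M (v + w) = M v * M w) ∧ M 0 = 1 ∧
      ∀ (g : Γ) (A : Matrix (Fin k ⊕ Fin k) (Fin k ⊕ Fin k) (ZMod r)), (∀ v, g * D.x v * g⁻¹ = D.x (A *ᵥ v)) →
        ∀ v, (τ g : Matrix κ κ K) * M v = M (A *ᵥ v) * (τ g : Matrix κ κ K) := by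
  obtain ⟨M₀, hM₀, hadd₀, hone₀⟩ := D.exists_lift hp.out hrK hτ hcomm
  obtain ⟨z, hz⟩ := D.act _ neg_one_mem
  obtain ⟨c, hc0, hcadd, hc⟩ := D.exists_conj hτ hM₀ hadd₀ hz
  obtain ⟨s, hs⟩ := hodd
  have hcr := mul_map_pow hc0 hcadd
  have hcneg := mul_map_neg hc0 hcadd
  let M : Vec r k → Matrix κ κ K := fun v => (c v) ^ s • M₀ v
  have hM : ∀ v, ∃ c : K, c ≠ 0 ∧ M v = c • (τ (D.x v) : Matrix κ κ K) := by
    intro v
    obtain ⟨e, he, h1⟩ := hM₀ v
    exact ⟨(c v) ^ s * e, mul_ne_zero (pow_ne_zero _ (hc0 v)) he, by simp only [M, h1, smul_smul]⟩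
  have hadd : ∀ v w, M (v + w) = M v * M w := by
    intro v w
    simp only [M, hadd₀, hcadd, mul_pow, Matrix.smul_mul, Matrix.mul_smul, smul_smul, mul_comm]
  have hone : M 0 = 1 := by
    simp only [M, hone₀, mul_map_zero hc0 hcadd, one_pow, one_smul]
  have hzM : ∀ v, (τ z : Matrix κ κ K) * M v = M (-v) * (τ z : Matrix κ κ K) := by
    intro v
    simp only [M]
    rw [Matrix.mul_smul, hc, Matrix.neg_mulVec, Matrix.one_mulVec, smul_smul, Matrix.smul_mul]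
    congr 1
    have h1 : c v ^ s * (c v ^ s * c v) = 1 := by
      rw [← hcr v, hs]; ring
    have h2 : c v ^ s * c (-v) ^ s = 1 := by
      rw [← mul_pow, mul_comm, hcneg, one_pow]
    exact mul_left_cancel₀ (pow_ne_zero s (hc0 v)) (h1.trans h2.symm)
  have hcommM : ∀ w v, (τ (D.x w) : Matrix κ κ K) * M v = M v * (τ (D.x w) : Matrix κ κ K) := by
    intro w v
    obtain ⟨e, he, h1⟩ := hM v
    rw [h1, Matrix.mul_smul, Matrix.smul_mul, hcomm]
  refine ⟨M, hM, hadd, hone, ?_⟩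
  intro g A hg v
  obtain ⟨d, hd0, hdadd, hd⟩ := D.exists_conj hτ hM hadd hg
  have hdr := mul_map_pow hd0 hdadd
  have hdneg := mul_map_neg hd0 hdadd
  -- the commutator
  have hz' : ∀ v, z * D.x v * z⁻¹ = D.x (-v) := by
    intro v; rw [hz, Matrix.neg_mulVec, Matrix.one_mulVec]
  have hzi : ∀ v, z⁻¹ * D.x v * z = D.x (-v) := by
    intro v
    have h1 := hz' (-v)
    rw [neg_neg] at h1
    rw [← h1]; group
  obtain ⟨B, hB, hgB⟩ := D.norm g⁻¹
  have hBA : ∀ v, A *ᵥ (B *ᵥ v) = v := by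
    intro v
    apply D.inj
    rw [← hg, ← hgB]; group
  have hcent : ∀ v, (z * g * z⁻¹ * g⁻¹) * D.x v * (z * g * z⁻¹ * g⁻¹)⁻¹ = D.x v := by
    intro v
    have e1 : (z * g * z⁻¹ * g⁻¹) * D.x v * (z * g * z⁻¹ * g⁻¹)⁻¹ =
        z * (g * (z⁻¹ * (g⁻¹ * D.x v * g⁻¹⁻¹) * z) * g⁻¹) * z⁻¹ := by group
    rw [e1, hgB, hzi, hg, hz', Matrix.mulVec_neg, neg_neg, hBA]
  obtain ⟨w, hw⟩ := D.cent _ hcent
  have hzg : z * g = D.x w * (g * z) := by rw [← hw]; group
  obtain ⟨e₁, he₁, h1⟩ := hτ z g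
  obtain ⟨e₂, he₂, h2⟩ := hτ (D.x w) (g * z)
  obtain ⟨e₃, he₃, h3⟩ := hτ g z
  rw [hzg, h2, h3] at h1
  -- `e₂ e₃ τ(x w) τ g τ z = e₁ τ z τ g`
  have e4 : (τ z : Matrix κ κ K) * (τ g : Matrix κ κ K) =
      (e₁⁻¹ * (e₂ * e₃)) • ((τ (D.x w) : Matrix κ κ K) * ((τ g : Matrix κ κ K) * (τ z : Matrix κ κ K))) := by
    rw [Matrix.mul_smul, smul_smul] at h1
    rw [← smul_smul, h1, smul_smul, inv_mul_cancel₀ he₁, one_smul]
  have e5 : (τ z : Matrix κ κ K) * (τ g : Matrix κ κ K) * M v =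
      d v • (M (-(A *ᵥ v)) * ((τ z : Matrix κ κ K) * (τ g : Matrix κ κ K))) := by
    rw [Matrix.mul_assoc, hd, Matrix.mul_smul, ← Matrix.mul_assoc, hzM, Matrix.mul_assoc]
  have e6 : (τ z : Matrix κ κ K) * (τ g : Matrix κ κ K) * M v =
      d (-v) • (M (-(A *ᵥ v)) * ((τ z : Matrix κ κ K) * (τ g : Matrix κ κ K))) := by
    rw [e4, Matrix.smul_mul, Matrix.mul_assoc, Matrix.mul_assoc, hzM, ← Matrix.mul_assoc (τ g : Matrix κ κ K), hd,
      Matrix.smul_mul, Matrix.mul_smul, Matrix.mulVec_neg, Matrix.mul_assoc, ← Matrix.mul_assoc _ (M _), hcommM,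
      Matrix.mul_assoc, Matrix.mul_smul, smul_smul, smul_smul, mul_comm]
  rw [e5, ← Units.val_mul] at e6
  have e7 : d v = d (-v) := smul_M_injective D (hM _) e6
  have e8 : d v * d v = 1 := by
    have := hdneg v
    rwa [← e7] at this
  have e9 : d v = 1 := by
    have h5 := hdr v
    rw [hs, pow_succ, pow_mul, pow_two, e8, one_pow, one_mul] at h5
    exact h5
  rw [hd, e9, one_smul]

omit [Nonempty κ] in
/-- The weights of the shape `v ↦ χ (w, v)`. -/
theorem exists_form_of_wt [hp : Fact r.Prime] {χ₀ : AddChar (ZMod r) K} (hχ₀ : Function.Injective χ₀)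
    {M : Vec r k → Matrix κ κ K} (hadd : ∀ v w, M (v + w) = M v * M w) (hone : M 0 = 1) {χ : Vec r k → K}
    (h : IsWt M χ) : ∃ w, ∀ v, χ v = χ₀ (sympForm k (ZMod r) w v) := by
  obtain ⟨u, hu0, hu⟩ := h
  have hmul : ∀ v w, χ (v + w) = χ v * χ w := by
    intro v w
    have h1 := hu (v + w)
    rw [hadd, ← Matrix.mulVec_mulVec, hu, Matrix.mulVec_smul, hu, smul_smul] at h1
    have h2 : (χ (v + w) - χ w * χ v) • u = 0 := by rw [sub_smul, ← h1, sub_self]
    rw [sub_eq_zero.1 ((smul_eq_zero.1 h2).resolve_right hu0), mul_comm]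
  have h00 : χ 0 = 1 := by
    have h1 := hu 0
    rw [hone, Matrix.one_mulVec] at h1
    have h2 : (χ 0 - 1) • u = 0 := by rw [sub_smul, ← h1, one_smul, sub_self]
    exact sub_eq_zero.1 ((smul_eq_zero.1 h2).resolve_right hu0)
  refine exists_form_of_char hχ₀ (fun v hv => ?_) hmul
  have h1 := hmul v (-v)
  rw [add_neg_cancel, h00, hv, zero_mul] at h1
  exact one_ne_zero h1

omit [Nonempty κ] in
/-- Joint eigenvectors: the number of vectors `w` for which `v ↦ χ (w, v)` is a weight. -/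
theorem card_le_of_wt [hp : Fact r.Prime] {χ₀ : AddChar (ZMod r) K} (hχ₀ : Function.Injective χ₀)
    {M : Vec r k → Matrix κ κ K} (B : Finset (Vec r k))
    (h : ∀ w ∈ B, IsWt M (fun v => χ₀ (sympForm k (ZMod r) w v))) : B.card ≤ Fintype.card κ := by
  classical
  choose u hu0 hu using h
  have hlin : LinearIndependent K (fun w : B => u w w.2) := by
    refine linearIndependent_of_joint (fun v : Vec r k => Matrix.toLin' (M v)) _ (fun w => hu0 w w.2)
      (fun w v => χ₀ (sympForm k (ZMod r) w v)) ?_ ?_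
    · intro w v
      rw [Matrix.toLin'_apply]
      exact hu w w.2 v
    · intro w w' hne
      by_contra hcon
      push Not at hcon
      apply hne
      apply Subtype.ext
      exact eq_of_forall_sympForm_right (fun v => hχ₀ (hcon v))
  have := hlin.fintype_card_le_finrank
  rwa [Module.finrank_fintype_fun_eq_card, Fintype.card_coe] at this

theorem card_vec [hp : Fact r.Prime] : Fintype.card (Vec r k) = r ^ (2 * k) := by
  rw [Fintype.card_fun, ZMod.card, Fintype.card_sum, Fintype.card_fin, two_mul]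

/-- **Lemma Min, commuting lifts, `r` odd.** -/
theorem Aff.sq_sub_one_le [IsAlgClosed K] [hp : Fact r.Prime] (hodd : Odd r) (hrK : (r : K) ≠ 0)
    (hτ : IsProj τ)
    (hcomm : ∀ v w, (τ (D.x v) : Matrix κ κ K) * (τ (D.x w) : Matrix κ κ K) =
      (τ (D.x w) : Matrix κ κ K) * (τ (D.x v) : Matrix κ κ K))
    {v₀ : Vec r k} (hne : ∀ c : K, (τ (D.x v₀) : Matrix κ κ K) ≠ c • (1 : Matrix κ κ K)) :
    r ^ (2 * k) - 1 ≤ Fintype.card κ := by
  classical
  obtain ⟨M, hM, hadd, hone, hequi⟩ := D.exists_equivariant hodd hrK hτ hcomm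
  obtain ⟨χ₀, hχ₀⟩ := exists_addChar (K := K) hp.out hrK
  obtain ⟨χ, hχ, hχ1⟩ : ∃ χ, IsWt M χ ∧ χ ≠ fun _ => 1 := by
    by_contra hcon
    push Not at hcon
    obtain ⟨c, hc, h1⟩ := hM v₀
    have h2 := eq_smul_of_unique hrK hadd hone hcon v₀
    apply hne c⁻¹
    rw [one_smul] at h2
    rw [h2] at h1
    rw [h1, smul_smul, inv_mul_cancel₀ hc, one_smul]
  obtain ⟨w₀, hw₀⟩ := exists_form_of_wt hχ₀ hadd hone hχ
  have hw₀0 : w₀ ≠ 0 := by
    rintro rfl
    apply hχ1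
    funext v
    rw [hw₀, sympForm_zero_left, AddChar.map_zero_eq_one]
  obtain ⟨u, hu0, hu⟩ := hχ
  have hall : ∀ w : Vec r k, w ≠ 0 → IsWt M (fun v => χ₀ (sympForm k (ZMod r) w v)) := by
    intro w hw
    obtain ⟨A, -, hA⟩ := exists_transvGroup_mulVec_eq hw₀0 hw
    obtain ⟨g, hg⟩ := D.act _ A.2
    refine ⟨(τ g : Matrix κ κ K) *ᵥ u, ?_, ?_⟩
    · intro h0
      apply hu0
      have h1 : (((τ g)⁻¹ : GL κ K) : Matrix κ κ K) *ᵥ ((τ g : Matrix κ κ K) *ᵥ u) = 0 := by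
        rw [h0, Matrix.mulVec_zero]
      rwa [Matrix.mulVec_mulVec, Units.inv_mul, Matrix.one_mulVec] at h1
    · intro v
      have h1 : (A : Matrix (Fin k ⊕ Fin k) (Fin k ⊕ Fin k) (ZMod r)) *ᵥ
          (((A⁻¹ : Matrix.symplecticGroup (Fin k) (ZMod r)) : Matrix (Fin k ⊕ Fin k) (Fin k ⊕ Fin k) (ZMod r)) *ᵥ v) =
          v := by
        rw [Matrix.mulVec_mulVec, ← Submonoid.coe_mul, mul_inv_cancel, Submonoid.coe_one, Matrix.one_mulVec]
      have h2 := hequi g _ hg (((A⁻¹ : Matrix.symplecticGroup (Fin k) (ZMod r)) :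
        Matrix (Fin k ⊕ Fin k) (Fin k ⊕ Fin k) (ZMod r)) *ᵥ v)
      rw [h1] at h2
      rw [Matrix.mulVec_mulVec, ← h2, ← Matrix.mulVec_mulVec, hu, Matrix.mulVec_smul, hw₀]
      congr 2
      rw [← sympForm_mulVec A.2 w₀, hA, h1]
  have h1 := card_le_of_wt hχ₀ (Finset.univ.erase (0 : Vec r k)) (fun w hw => hall w (Finset.ne_of_mem_erase hw))
  rwa [Finset.card_erase_of_mem (Finset.mem_univ _), Finset.card_univ, card_vec] at h1

/-- **Lemma Min, commuting lifts, `r = 2`.** -/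
theorem Aff.two_mul_le {D : Aff 2 k Γ} [IsAlgClosed K] (hrK : (2 : K) ≠ 0) (hτ : IsProj τ)
    (hcomm : ∀ v w, (τ (D.x v) : Matrix κ κ K) * (τ (D.x w) : Matrix κ κ K) =
      (τ (D.x w) : Matrix κ κ K) * (τ (D.x v) : Matrix κ κ K))
    {v₀ : Vec 2 k} (hne : ∀ c : K, (τ (D.x v₀) : Matrix κ κ K) ≠ c • (1 : Matrix κ κ K)) :
    2 * (2 ^ (2 * k) - 1) ≤ Fintype.card κ * (Fintype.card κ - 1) := by
  classical
  have hp : Fact (Nat.Prime 2) := ⟨Nat.prime_two⟩
  have hrK' : ((2 : ℕ) : K) ≠ 0 := by exact_mod_cast hrK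
  obtain ⟨M, hM, hadd, hone⟩ := D.exists_lift hp.out hrK' hτ hcomm
  obtain ⟨χ₀, hχ₀⟩ := exists_addChar (K := K) hp.out hrK'
  set B : Finset (Vec 2 k) := Finset.univ.filter (fun w => IsWt M (fun v => χ₀ (sympForm k (ZMod 2) w v))) with hB
  have hBcard : B.card ≤ Fintype.card κ := card_le_of_wt hχ₀ B (fun w hw => (Finset.mem_filter.1 hw).2)
  -- two weights
  obtain ⟨w₁, h₁, w₂, h₂, hne12⟩ : ∃ w₁ ∈ B, ∃ w₂ ∈ B, w₁ ≠ w₂ := by
    by_contra hcon
    push Not at hcon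
    have hall : ∀ χ χ', IsWt M χ → IsWt M χ' → χ = χ' := by
      intro χ χ' h h'
      obtain ⟨w, hw⟩ := exists_form_of_wt hχ₀ hadd hone h
      obtain ⟨w', hw'⟩ := exists_form_of_wt hχ₀ hadd hone h'
      have e1 : χ = fun v => χ₀ (sympForm k (ZMod 2) w v) := funext hw
      have e2 : χ' = fun v => χ₀ (sympForm k (ZMod 2) w' v) := funext hw'
      have e3 : w = w' := hcon w (Finset.mem_filter.2 ⟨Finset.mem_univ _, by rw [← e1]; exact h⟩) w'
        (Finset.mem_filter.2 ⟨Finset.mem_univ _, by rw [← e2]; exact h'⟩)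
      rw [e1, e2, e3]
    obtain ⟨χ, hχ⟩ := exists_wt hrK' (M := M) (fun v w => by rw [← hadd, ← hadd, add_comm]) (by
      intro v
      rw [pow_two, ← hadd, ← two_nsmul, nsmul_vec, hone])
    obtain ⟨c, hc, h1⟩ := hM v₀
    have h2 := eq_smul_of_unique hrK' hadd hone (fun χ' h => hall χ' χ h hχ) v₀
    apply hne (c⁻¹ * χ v₀)
    rw [h2] at h1
    rw [← smul_smul, h1, smul_smul, inv_mul_cancel₀ hc, one_smul]
  -- the affine action
  have haff : ∀ A ∈ Matrix.symplecticGroup (Fin k) (ZMod 2), ∃ t, ∀ w ∈ B, A *ᵥ w + t ∈ B := by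
    intro A hA
    obtain ⟨g, hg⟩ := D.act A hA
    obtain ⟨d, hd0, hdadd, hd⟩ := D.exists_conj hτ hM hadd hg
    obtain ⟨t₀, ht₀⟩ := exists_form_of_char hχ₀ hd0 hdadd
    refine ⟨-(A *ᵥ t₀), fun w hw => ?_⟩
    obtain ⟨u, hu0, hu⟩ := (Finset.mem_filter.1 hw).2
    refine Finset.mem_filter.2 ⟨Finset.mem_univ _, (τ g : Matrix κ κ K) *ᵥ u, ?_, ?_⟩
    · intro h0
      apply hu0
      have h1 : (((τ g)⁻¹ : GL κ K) : Matrix κ κ K) *ᵥ ((τ g : Matrix κ κ K) *ᵥ u) = 0 := by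
        rw [h0, Matrix.mulVec_zero]
      rwa [Matrix.mulVec_mulVec, Units.inv_mul, Matrix.one_mulVec] at h1
    · intro v
      let A' : Matrix.symplecticGroup (Fin k) (ZMod 2) := ⟨A, hA⟩
      have h1 : A *ᵥ (((A'⁻¹ : Matrix.symplecticGroup (Fin k) (ZMod 2)) :
          Matrix (Fin k ⊕ Fin k) (Fin k ⊕ Fin k) (ZMod 2)) *ᵥ v) = v := by
        rw [Matrix.mulVec_mulVec, show A = (A' : Matrix (Fin k ⊕ Fin k) (Fin k ⊕ Fin k) (ZMod 2)) from rfl,
          ← Submonoid.coe_mul, mul_inv_cancel, Submonoid.coe_one, Matrix.one_mulVec]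
      set v' := (((A'⁻¹ : Matrix.symplecticGroup (Fin k) (ZMod 2)) :
          Matrix (Fin k ⊕ Fin k) (Fin k ⊕ Fin k) (ZMod 2)) *ᵥ v) with hv'
      have h2 := hd v'
      rw [h1] at h2
      have h3 : M v *ᵥ ((τ g : Matrix κ κ K) *ᵥ u) =
          ((d v')⁻¹ * χ₀ (sympForm k (ZMod 2) w v')) • ((τ g : Matrix κ κ K) *ᵥ u) := by
        have h4 : M v * (τ g : Matrix κ κ K) = (d v')⁻¹ • ((τ g : Matrix κ κ K) * M v') := by
          rw [h2, smul_smul, inv_mul_cancel₀ (hd0 v'), one_smul]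
        rw [Matrix.mulVec_mulVec, h4, Matrix.smul_mulVec, ← Matrix.mulVec_mulVec, hu, Matrix.mulVec_smul, smul_smul]
      rw [h3]
      congr 1
      change _ = χ₀ (sympForm k (ZMod 2) (A *ᵥ w + -(A *ᵥ t₀)) v)
      rw [sympForm_add_left, sympForm_neg_left, AddChar.map_add_eq_mul, AddChar.map_neg_eq_inv, ht₀]
      have h5 : sympForm k (ZMod 2) (A *ᵥ w) v = sympForm k (ZMod 2) w v' := by
        rw [← h1, sympForm_mulVec hA]
      have h6 : sympForm k (ZMod 2) (A *ᵥ t₀) v = sympForm k (ZMod 2) t₀ v' := by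
        rw [← h1, sympForm_mulVec hA]
      rw [h5, h6, mul_comm]
  -- pairs
  have hpair : ∀ w : Vec 2 k, w ≠ 0 → ∃ p ∈ B, ∃ q ∈ B, p - q = w := by
    intro w hw
    obtain ⟨A, -, hA⟩ := exists_transvGroup_mulVec_eq (sub_ne_zero.2 hne12) hw
    obtain ⟨t, ht⟩ := haff _ A.2
    refine ⟨_, ht w₁ h₁, _, ht w₂ h₂, ?_⟩
    rw [add_sub_add_right_eq_sub, ← Matrix.mulVec_sub, hA]
  choose p hp' q hq hpq using hpair
  let f : {w : Vec 2 k // w ≠ 0} × Bool → Vec 2 k × Vec 2 k := fun x =>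
    if x.2 then (p x.1 x.1.2, q x.1 x.1.2) else (q x.1 x.1.2, p x.1 x.1.2)
  have hneg : ∀ v : Vec 2 k, -v = v := by
    intro v; ext i; exact ZMod.neg_eq_self_mod_two _
  have hf1 : ∀ x, (f x).1 - (f x).2 = x.1 := by
    rintro ⟨w, b⟩
    cases b
    · simp only [f, Bool.false_eq_true, if_false]
      rw [← neg_sub, hpq, hneg]
    · simp only [f, if_true]
      exact hpq _ _
  have hinj : Function.Injective f := by
    rintro ⟨w, b⟩ ⟨w', b'⟩ h
    have h1 : w = w' := by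
      apply Subtype.ext
      have e1 := hf1 (w, b)
      have e2 := hf1 (w', b')
      rw [h] at e1
      exact e1.symm.trans e2
    subst h1
    have hneq : p w w.2 ≠ q w w.2 := by
      intro h0
      have := hpq w w.2
      rw [h0, sub_self] at this
      exact w.2 this.symm
    cases b <;> cases b'
    · rfl
    · simp only [f, Bool.false_eq_true, if_false, if_true, Prod.mk.injEq] at h
      exact absurd h.2 hneq
    · simp only [f, Bool.false_eq_true, if_false, if_true, Prod.mk.injEq] at h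
      exact absurd h.1 hneq
    · rfl
  have hmem : ∀ x, f x ∈ B.offDiag := by
    intro x
    rw [Finset.mem_offDiag]
    refine ⟨?_, ?_, ?_⟩
    · rcases x with ⟨w, b⟩
      cases b
      · exact hq _ _
      · exact hp' _ _
    · rcases x with ⟨w, b⟩
      cases b
      · exact hp' _ _
      · exact hq _ _
    · intro h0
      have := hf1 x
      rw [h0, sub_self] at this
      exact x.1.2 this.symm
  have hsub : Finset.univ.image f ⊆ B.offDiag := by
    intro x hx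
    obtain ⟨y, -, rfl⟩ := Finset.mem_image.1 hx
    exact hmem y
  have hcard := Finset.card_le_card hsub
  rw [Finset.card_image_of_injective _ hinj, Finset.card_univ, Fintype.card_prod, Fintype.card_bool,
    Fintype.card_subtype_compl, Fintype.card_subtype_eq, card_vec, Finset.offDiag_card] at hcard
  calc 2 * (2 ^ (2 * k) - 1) = (2 ^ (2 * k) - 1) * 2 := mul_comm _ _
    _ ≤ B.card * B.card - B.card := hcard
    _ = B.card * (B.card - 1) := by rw [Nat.mul_sub_one]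
    _ ≤ Fintype.card κ * (Fintype.card κ - 1) := Nat.mul_le_mul hBcard (Nat.sub_le_sub_right hBcard 1)

end Cfsg.Agent.H920
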