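import Cfsg.Agent.H920.CsData
import Cfsg.Agent.H920.CsComm

/-!
# The interface of the structure part (helper920)

`C : Coord R r k`, `hY : C.Core Y`.
* `Coord.Core.aff` : `Y` modulo scalars is an extension of `Sp_{2k}(r)` by its natural module;
* `Coord.Core.card_quotient`, `Aff.card_eq` : the order;
* `Coord.Core.exists_mul` : `N(R) = Y (scalars)`;
* `Coord.Core.le_core` : `R ≤ Y`.
-/

set_option autoImplicit false

namespace Cfsg.Agent.H920

open Cfsg Cfsg.Geo Matrix Cfsg.Agent.ClassicalGeometry.SympBasic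
open scoped commutatorElement

variable {ι : Type} [Fintype ι] [DecidableEq ι] {F : Type*} [Field F] {R : Subgroup (GL ι F)} {r k : ℕ}
variable {C : Coord R r k} {Y : Subgroup (GL ι F)}

theorem conj_fixed {A B : Matrix (Fin k ⊕ Fin k) (Fin k ⊕ Fin k) (ZMod r)} (h : ∀ v, A *ᵥ v = B *ᵥ v) : A = B :=
  Matrix.mulVec_injective.eq_iff.1 (funext h)

/-- `N(R) = Y (scalars)`. -/
theorem Coord.Core.exists_mul [Finite F] [Nonempty ι] [Fact r.Prime] (hY : C.Core Y)
    (habs : ActsAbsolutelyIrreducibly (matrixSet R)) {g : GL ι F} (hg : g ∈ subgroupNormalizer R) :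
    ∃ y ∈ Y, y⁻¹ * g ∈ scalars ι F := by
  have : Finite (GL ι F) := inferInstance
  obtain ⟨A, hA, hgA⟩ := C.exists_ind_of_mem hg
  obtain ⟨y, hy, hyA⟩ := hY.ind A hA
  have h1 : C.Ind (y⁻¹ * g) 1 := by
    have h2 := (Coord.Ind.invS (A := ⟨A, hA⟩) hyA).mul hgA
    have h3 : ((⟨A, hA⟩⁻¹ : Matrix.symplecticGroup (Fin k) (ZMod r)) :
        Matrix (Fin k ⊕ Fin k) (Fin k ⊕ Fin k) (ZMod r)) * A = 1 :=
      congrArg Subtype.val (inv_mul_cancel (⟨A, hA⟩ : Matrix.symplecticGroup (Fin k) (ZMod r)))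
    rw [h3] at h2
    exact h2
  obtain ⟨x, hx⟩ := C.mem_of_ind_one habs h1
  obtain ⟨x', h2, h3⟩ := hY.exists_mem_inf (C.φ x)
  rw [C.φ_eq_iff] at h2
  refine ⟨y * x', Y.mul_mem hy h3, ?_⟩
  have h4 := Subgroup.mul_mem _ h2 hx
  rw [Subgroup.coe_mul, Subgroup.coe_inv] at h4
  rw [show (y * (x' : GL ι F))⁻¹ * g = (x' : GL ι F)⁻¹ * x * ((x : GL ι F)⁻¹ * (y⁻¹ * g)) by group]
  exact h4

/-- `Y` modulo scalars. -/
theorem Coord.Core.exists_aff [Finite F] [Nonempty ι] [Fact r.Prime] (hY : C.Core Y)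
    (habs : ActsAbsolutelyIrreducibly (matrixSet R)) : ∃ D : Aff r k (Y ⧸ (scalars ι F).subgroupOf Y),
      ∀ (x : R) (hx : (x : GL ι F) ∈ Y), D.x (C.φ x) = QuotientGroup.mk ⟨x, hx⟩ := by
  have hfin : Finite (GL ι F) := inferInstance
  have hmk : ∀ a b : Y, (QuotientGroup.mk a : Y ⧸ (scalars ι F).subgroupOf Y) = QuotientGroup.mk b ↔
      (a : GL ι F)⁻¹ * b ∈ scalars ι F := by
    intro a b
    rw [QuotientGroup.eq, Subgroup.mem_subgroupOf]
    rfl
  choose s hs hsY using hY.exists_mem_inf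
  have hmk' : ∀ (v : Vec r k) (x : R) (hx : (x : GL ι F) ∈ Y), C.φ x = v →
      (QuotientGroup.mk ⟨x, hx⟩ : Y ⧸ (scalars ι F).subgroupOf Y) = QuotientGroup.mk ⟨s v, hsY v⟩ := by
    intro v x hx hv
    rw [hmk]
    have h1 : C.φ x = C.φ (s v) := by rw [hs, hv]
    rw [C.φ_eq_iff] at h1
    exact h1
  refine ⟨
    { x := fun v => QuotientGroup.mk ⟨s v, hsY v⟩
      add := ?_
      inj := ?_
      act := ?_
      norm := ?_
      cent := ?_ }, fun x hx => (hmk' _ x hx rfl).symm⟩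
  · intro v w
    rw [← QuotientGroup.mk_mul]
    exact (hmk' (v + w) (s v * s w) (Y.mul_mem (hsY v) (hsY w)) (by rw [C.map_mul, hs, hs])).symm
  · intro v w h
    have h1 : C.φ (s v) = C.φ (s w) := by
      rw [C.φ_eq_iff]
      exact (hmk _ _).1 h
    rwa [hs, hs] at h1
  · intro A hA
    obtain ⟨g, hg, hg'⟩ := hY.ind A hA
    refine ⟨QuotientGroup.mk ⟨g, hg⟩, fun v => ?_⟩
    obtain ⟨y', h1, h2⟩ := hg' (s v)
    rw [← QuotientGroup.mk_mul, ← QuotientGroup.mk_inv, ← QuotientGroup.mk_mul]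
    have h3 : (y' : GL ι F) ∈ Y := by
      rw [← h1]; exact Y.mul_mem (Y.mul_mem hg (hsY v)) (Y.inv_mem hg)
    have h4 := hmk' (A *ᵥ v) y' h3 (by rw [h2, hs])
    rw [← h4]
    congr 1
    exact Subtype.ext h1
  · intro g
    induction g using QuotientGroup.induction_on with | _ g
    obtain ⟨A, hA, hg'⟩ := C.exists_ind_of_mem (hY.le g.2)
    refine ⟨A, hA, fun v => ?_⟩
    obtain ⟨y', h1, h2⟩ := hg' (s v)
    rw [← QuotientGroup.mk_mul, ← QuotientGroup.mk_inv, ← QuotientGroup.mk_mul]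
    have h3 : (y' : GL ι F) ∈ Y := by
      rw [← h1]; exact Y.mul_mem (Y.mul_mem g.2 (hsY v)) (Y.inv_mem g.2)
    have h4 := hmk' (A *ᵥ v) y' h3 (by rw [h2, hs])
    rw [← h4]
    congr 1
    exact Subtype.ext h1
  · intro g
    induction g using QuotientGroup.induction_on with | _ g
    intro hg
    obtain ⟨A, hA, hg'⟩ := C.exists_ind_of_mem (hY.le g.2)
    have hA1 : A = 1 := by
      apply conj_fixed
      intro v
      rw [Matrix.one_mulVec]
      obtain ⟨y', h1, h2⟩ := hg' (s v)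
      have h3 : (y' : GL ι F) ∈ Y := by
        rw [← h1]; exact Y.mul_mem (Y.mul_mem g.2 (hsY v)) (Y.inv_mem g.2)
      have h5 := hg v
      rw [← QuotientGroup.mk_mul, ← QuotientGroup.mk_inv, ← QuotientGroup.mk_mul] at h5
      have h6 : (g * ⟨s v, hsY v⟩ * g⁻¹ : Y) = ⟨y', h3⟩ := Subtype.ext h1
      rw [h6, hmk] at h5
      have h7 : C.φ y' = C.φ (s v) := by
        rw [C.φ_eq_iff]; exact h5
      rw [h2, hs] at h7
      exact h7
    rw [hA1] at hg'
    obtain ⟨x, hx⟩ := C.mem_of_ind_one habs hg'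
    refine ⟨C.φ x, ?_⟩
    rw [hmk]
    have h1 : C.φ x = C.φ (s (C.φ x)) := by rw [hs]
    rw [C.φ_eq_iff, Subgroup.coe_mul, Subgroup.coe_inv] at h1
    have h2 := Subgroup.mul_mem _ (Subgroup.inv_mem _ hx) h1
    rw [show ((x : GL ι F)⁻¹ * (g : GL ι F))⁻¹ * ((x : GL ι F)⁻¹ * (s (C.φ x) : GL ι F)) =
      (g : GL ι F)⁻¹ * (s (C.φ x) : GL ι F) by group] at h2
    exact h2

/-- `Y` modulo scalars. -/
noncomputable def Coord.Core.aff [Finite F] [Nonempty ι] [Fact r.Prime] (hY : C.Core Y)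
    (habs : ActsAbsolutelyIrreducibly (matrixSet R)) : Aff r k (Y ⧸ (scalars ι F).subgroupOf Y) :=
  (hY.exists_aff habs).choose

theorem Coord.Core.aff_x [Finite F] [Nonempty ι] [Fact r.Prime] (hY : C.Core Y)
    (habs : ActsAbsolutelyIrreducibly (matrixSet R)) (x : R) (hx : (x : GL ι F) ∈ Y) :
    (hY.aff habs).x (C.φ x) = QuotientGroup.mk ⟨x, hx⟩ :=
  (hY.exists_aff habs).choose_spec x hx

/-- The order of an extension of the symplectic group by its natural module. -/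
theorem Aff.card_eq [hp : Fact r.Prime] {Γ : Type*} [Group Γ] (D : Aff r k Γ) :
    Nat.card Γ = r ^ (2 * k) * Nat.card (Matrix.symplecticGroup (Fin k) (ZMod r)) := by
  classical
  choose A hA hgA using D.norm
  have huniq : ∀ (g : Γ) (B : Matrix (Fin k ⊕ Fin k) (Fin k ⊕ Fin k) (ZMod r)),
      (∀ v, g * D.x v * g⁻¹ = D.x (B *ᵥ v)) → A g = B := by
    intro g B hB
    apply conj_fixed
    intro v
    apply D.inj
    rw [← hgA, hB]
  let f : Γ →* Matrix.symplecticGroup (Fin k) (ZMod r) := MonoidHom.mk' (fun g => ⟨A g, hA g⟩) (by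
    intro a b
    apply Subtype.ext
    apply huniq
    intro v
    change a * b * D.x v * (a * b)⁻¹ = D.x ((A a * A b) *ᵥ v)
    rw [← Matrix.mulVec_mulVec, ← hgA a, ← hgA b]
    group)
  have hf : Function.Surjective f := by
    rintro ⟨B, hB⟩
    obtain ⟨g, hg⟩ := D.act B hB
    exact ⟨g, Subtype.ext (huniq g B hg)⟩
  have hker : Nat.card f.ker = r ^ (2 * k) := by
    have e : Vec r k ≃ f.ker := Equiv.ofBijective (fun v => ⟨D.x v, by
      rw [MonoidHom.mem_ker]
      apply Subtype.ext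
      apply huniq
      intro w
      rw [OneMemClass.coe_one, Matrix.one_mulVec, D.comm, mul_inv_cancel_right]⟩) (by
        constructor
        · intro v w h
          exact D.inj (congrArg Subtype.val h)
        · rintro ⟨g, hg⟩
          rw [MonoidHom.mem_ker] at hg
          have h1 : A g = 1 := congrArg Subtype.val hg
          obtain ⟨w, hw⟩ := D.cent g (fun v => by rw [hgA, h1, Matrix.one_mulVec])
          exact ⟨w, Subtype.ext hw.symm⟩)
    rw [← Nat.card_congr e, Nat.card_eq_fintype_card, card_vec]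
  have h1 := Subgroup.card_eq_card_quotient_mul_card_subgroup f.ker
  rw [h1, hker, Nat.card_congr (QuotientGroup.quotientKerEquivOfSurjective f hf).toEquiv, mul_comm]

theorem Coord.Core.card_quotient [Finite F] [Nonempty ι] [Fact r.Prime] (hY : C.Core Y)
    (habs : ActsAbsolutelyIrreducibly (matrixSet R)) : Nat.card (Y ⧸ (scalars ι F).subgroupOf Y) =
      r ^ (2 * k) * Nat.card (Matrix.symplecticGroup (Fin k) (ZMod r)) :=
  (hY.aff habs).card_eq

end Cfsg.Agent.H920
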