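import Cfsg.Agent.H920.CsOver

/-!
# Normal subgroups with scalar commutators of an overgroup of the perfect part (helper920)

* `Coord.Core.le_normalizer_of_comm` : if `Y ≤ X` and `X` has a non-scalar normal subgroup with scalar commutators then
  `X ≤ N(R)`;
* `Coord.Core.overgroup` : `X ≤ N(R)` or `H919.CoreNS X P` for some `P`.
-/

set_option autoImplicit false

namespace Cfsg.Agent.H920

open Cfsg Cfsg.Geo Matrix Cfsg.Agent.ClassicalGeometry.SympBasic

variable {ι : Type} [Fintype ι] [DecidableEq ι] {F : Type*} [Field F] {R : Subgroup (GL ι F)} {r k : ℕ}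

/-- One-sided normalisation suffices for finite subgroups. -/
theorem mem_subgroupNormalizer_of [Finite R] {g : GL ι F} (hg : ∀ x ∈ R, g * x * g⁻¹ ∈ R) :
    g ∈ subgroupNormalizer R := by
  let f : R → R := fun x => ⟨g * x * g⁻¹, hg x x.2⟩
  have hinj : Function.Injective f := by
    intro x y hxy
    have h1 : g * (x : GL ι F) * g⁻¹ = g * y * g⁻¹ := congrArg Subtype.val hxy
    exact Subtype.ext (mul_left_cancel (mul_right_cancel h1))
  rw [subgroupNormalizer, Subgroup.mem_normalizer_iff]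
  intro x
  constructor
  · intro hx
    exact hg x hx
  · intro hx
    obtain ⟨y, hy⟩ := Finite.surjective_of_injective hinj ⟨_, hx⟩
    have h1 : g * (y : GL ι F) * g⁻¹ = g * x * g⁻¹ := congrArg Subtype.val hy
    rw [← mul_left_cancel (mul_right_cancel h1)]
    exact y.2

theorem comm_mem_of_normalizer {N : Subgroup (GL ι F)} {g x : GL ι F} (hg : g * x * g⁻¹ ∈ N) (hx : x ∈ N) :
    g * x * g⁻¹ * x⁻¹ ∈ N := N.mul_mem hg (N.inv_mem hx)

/-- The power of an element of `R`. -/
theorem Coord.pow_mem_scalars (C : Coord R r k) (x : R) : ((x : GL ι F)) ^ r ∈ scalars ι F := by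
  have hφpow : ∀ n : ℕ, C.φ (x ^ n) = n • C.φ x := by
    intro n
    induction n with
    | zero => rw [pow_zero, zero_smul, C.φ_one]
    | succ n ih => rw [pow_succ, C.map_mul, ih, succ_nsmul]
  have h1 : C.φ (x ^ r) = 0 := by
    rw [hφpow]
    ext i
    simp
  have h2 := (C.ker_iff _).1 h1
  rwa [Subgroup.coe_pow] at h2

/-- An element centralising `R` modulo scalars is in `R` modulo scalars. -/
theorem Coord.mem_of_centralizes [Nonempty ι] [Fact r.Prime] (C : Coord R r k) (hk : 1 ≤ k)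
    (habs : ActsAbsolutelyIrreducibly (matrixSet R)) {g : GL ι F}
    (hg : ∀ x ∈ R, g * x * g⁻¹ * x⁻¹ ∈ scalars ι F) : ∃ x : R, (x : GL ι F)⁻¹ * g ∈ scalars ι F := by
  apply C.mem_of_ind_one habs
  intro y
  have hc := hg y y.2
  obtain ⟨c, hc'⟩ := (mem_scalars_iff _).1 hc
  set z := g * y * g⁻¹ * (y : GL ι F)⁻¹ with hz
  have h1 : g * y * g⁻¹ = z * y := by rw [hz]; group
  have h2 : z ^ r = 1 := by
    have h3 : (g * y * g⁻¹) ^ r = z ^ r * (y : GL ι F) ^ r := by
      rw [h1]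
      exact (show Commute z (y : GL ι F) from scalars_comm hc y).mul_pow r
    have h4 : (g * y * g⁻¹) ^ r = (y : GL ι F) ^ r := by
      rw [conj_pow, ← scalars_comm (C.pow_mem_scalars y) g, mul_inv_cancel_right]
    rw [h4] at h3
    exact (mul_eq_right.1 h3.symm)
  have h3 : (c : F) ^ r = 1 := by
    apply smul_one_injective (ι := ι)
    rw [← pow_eq_one_of_smul hc', h2, one_smul]; rfl
  obtain ⟨a, ha⟩ := C.exists_χ_eq h3
  obtain ⟨z', hz'⟩ := C.exists_scalar hk a
  have h4 : (z' : GL ι F) = z := by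
    apply Units.ext
    rw [hz', ha, hc']
  refine ⟨z' * y, ?_, ?_⟩
  · rw [Subgroup.coe_mul, h4, h1]
  · rw [C.map_mul, (C.ker_iff z').2 (mem_scalars_of_val hz'), zero_add, Matrix.one_mulVec]

/-- The image of a subgroup in `GL` modulo scalars. -/
noncomputable def pimage (N : Subgroup (GL ι F)) : Subgroup (GL ι F ⧸ scalars ι F) :=
  N.map (QuotientGroup.mk' (scalars ι F))

theorem mk_mem_pimage {N : Subgroup (GL ι F)} {g : GL ι F} :
    (QuotientGroup.mk g : GL ι F ⧸ scalars ι F) ∈ pimage N ↔ ∃ x ∈ N, x⁻¹ * g ∈ scalars ι F := by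
  rw [pimage, Subgroup.mem_map]
  constructor
  · rintro ⟨x, hx, h⟩
    exact ⟨x, hx, QuotientGroup.eq.1 h⟩
  · rintro ⟨x, hx, h⟩
    exact ⟨x, hx, QuotientGroup.eq.2 h⟩

theorem card_pimage (N : Subgroup (GL ι F)) :
    Nat.card (pimage N) = Nat.card (N ⧸ (scalars ι F).subgroupOf N) := by
  let f : N →* GL ι F ⧸ scalars ι F := (QuotientGroup.mk' (scalars ι F)).comp N.subtype
  have h1 : f.range = pimage N := by
    rw [pimage, MonoidHom.range_comp, Subgroup.range_subtype]
  have h2 : f.ker = (scalars ι F).subgroupOf N := by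
    ext x
    rw [MonoidHom.mem_ker, Subgroup.mem_subgroupOf]
    exact QuotientGroup.eq_one_iff _
  rw [← h1, ← h2]
  exact (Nat.card_congr (QuotientGroup.quotientKerEquivRange f).toEquiv).symm

variable {C : Coord R r k} {Y : Subgroup (GL ι F)}

/-- Scalars of order dividing `|Z(R)|` are in `R`. -/
theorem mem_of_pow_card_center [Finite F] (habs : ActsAbsolutelyIrreducibly (matrixSet R)) {z : GL ι F}
    (hz : z ∈ scalars ι F) (h : z ^ Nat.card (Subgroup.center R) = 1) : z ∈ R := by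
  classical
  have hfin : Finite (GL ι F) := inferInstance
  have : Fintype (scalars ι F) := Fintype.ofFinite _
  have : Fintype (Subgroup.center R) := Fintype.ofFinite _
  have hcyc : IsCyclic (scalars ι F) := isCyclic_scalars
  set e := Nat.card (Subgroup.center R) with he
  have hpos : 0 < e := Nat.card_pos
  let S : Finset (scalars ι F) := Finset.univ.filter (fun a => a ^ e = 1)
  have hS : S.card ≤ e := IsCyclic.card_pow_eq_one_le hpos
  let f : Subgroup.center R → scalars ι F := fun a => ⟨(a : R), mem_scalars_of_mem_center habs a.2⟩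
  have hf : Function.Injective f := by
    intro a b hab
    have h1 : (((a : R)) : GL ι F) = ((b : R) : GL ι F) := congrArg (fun s : scalars ι F => (s : GL ι F)) hab
    exact Subtype.ext (Subtype.ext h1)
  let T : Finset (scalars ι F) := Finset.univ.image f
  have hT : T.card = e := by
    rw [Finset.card_image_of_injective _ hf, Finset.card_univ, he, Nat.card_eq_fintype_card]
  have hTS : T ⊆ S := by
    intro a ha
    obtain ⟨b, -, rfl⟩ := Finset.mem_image.1 ha
    rw [Finset.mem_filter]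
    refine ⟨Finset.mem_univ _, ?_⟩
    have h1 : b ^ e = 1 := pow_card_eq_one'
    apply Subtype.ext
    have h2 := congrArg (fun a : Subgroup.center R => ((a : R) : GL ι F)) h1
    simpa [f] using h2
  have hTS' : T = S := Finset.eq_of_subset_of_card_le hTS (by rw [hT]; exact hS)
  have hzS : (⟨z, hz⟩ : scalars ι F) ∈ S := by
    rw [Finset.mem_filter]
    exact ⟨Finset.mem_univ _, Subtype.ext h⟩
  rw [← hTS'] at hzS
  obtain ⟨b, -, hb⟩ := Finset.mem_image.1 hzS
  have h1 : ((b : R) : GL ι F) = z := congrArg Subtype.val hb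
  rw [← h1]
  exact (b : R).2

/-- If the image of `R` modulo scalars is normalised then `R` is normalised. -/
theorem mem_normalizer_of_pimage [Finite F] (habs : ActsAbsolutelyIrreducibly (matrixSet R))
    (hexp : ∀ x ∈ R, x ^ Nat.card (Subgroup.center R) = 1) {g : GL ι F}
    (hg : ∀ x ∈ R, (QuotientGroup.mk (g * x * g⁻¹) : GL ι F ⧸ scalars ι F) ∈ pimage R) :
    g ∈ subgroupNormalizer R := by
  have hfin : Finite (GL ι F) := inferInstance
  apply mem_subgroupNormalizer_of
  intro x hx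
  obtain ⟨y, hy, hz⟩ := mk_mem_pimage.1 (hg x hx)
  have h1 : g * x * g⁻¹ = y * (y⁻¹ * (g * x * g⁻¹)) := by group
  set z := y⁻¹ * (g * x * g⁻¹) with hzdef
  rw [h1]
  apply R.mul_mem hy
  apply mem_of_pow_card_center habs hz
  have h2 : (g * x * g⁻¹) ^ Nat.card (Subgroup.center R) = 1 := by
    rw [conj_pow, hexp x hx, mul_one, mul_inv_cancel]
  rw [h1, (show Commute y z from (scalars_comm hz y).symm).mul_pow, hexp y hy, one_mul] at h2
  exact h2

theorem exponent_of_type [Finite F] (hR : IsSymplecticTypeGroup r R) (ht : IsType r k R) :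
    ∀ x ∈ R, x ^ Nat.card (Subgroup.center R) = 1 := by
  intro x hx
  have h1 : (⟨x, hx⟩ : R) ^ Monoid.exponent R = 1 := Monoid.pow_exponent_eq_one _
  have h2 : Monoid.exponent R = Nat.card (Subgroup.center R) := by
    rw [hR.exponent_eq]
    rcases ht with ⟨hodd, hZ, -⟩ | ⟨rfl, hZ, -⟩
    · rw [(Nat.coprime_two_left.mpr hodd).gcd_eq_one, mul_one, hZ]
    · rw [hZ]; norm_num
  rw [h2] at h1
  exact congrArg Subtype.val h1

/-- The images of two absolutely irreducible subgroups with scalar commutators have the same order. -/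
theorem card_pimage_eq [Finite F] [Nonempty ι] {N : Subgroup (GL ι F)}
    (h : ActsAbsolutelyIrreducibly (matrixSet N)) (hcomm : ∀ x ∈ N, ∀ y ∈ N, x * y * x⁻¹ * y⁻¹ ∈ scalars ι F) :
    Nat.card (pimage N) = Fintype.card ι ^ 2 := by
  rw [card_pimage]
  exact card_quotient_scalars h hcomm

theorem Coord.comm_mem (C : Coord R r k) : ∀ x ∈ R, ∀ y ∈ R, x * y * x⁻¹ * y⁻¹ ∈ scalars ι F := by
  intro x hx y hy
  exact mem_scalars_of_val (C.commutator_eq ⟨x, hx⟩ ⟨y, hy⟩)

/-- A non-scalar normal subgroup with scalar commutators. -/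
theorem Coord.Core.pimage_eq [Finite F] [Nonempty ι] [hp : Fact r.Prime] (hY : C.Core Y) (hRY : R ≤ Y) (hk : 1 ≤ k)
    (habs : ActsAbsolutelyIrreducibly (matrixSet R)) (hcard : Fintype.card ι = r ^ k) (hRr : IsPGroup r R)
    {N : Subgroup (GL ι F)}
    (hN : ∀ h ∈ Y, ∀ x ∈ N, h * x * h⁻¹ ∈ N) (hns : ¬ N ≤ scalars ι F)
    (hcomm : ∀ x ∈ N, ∀ y ∈ N, x * y * x⁻¹ * y⁻¹ ∈ scalars ι F) : pimage N = pimage R := by
  classical
  have hfin : Finite (GL ι F) := inferInstance
  have hNabs := hY.absIrred_of_normalized hRY habs hN hns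
  have hcN := card_pimage_eq hNabs hcomm
  have hcR := card_pimage_eq habs C.comm_mem
  -- the action of `R` on the image of `N`
  have hmem : ∀ (x : R) (b : pimage N), (QuotientGroup.mk (x : GL ι F) : GL ι F ⧸ scalars ι F) * (b : GL ι F ⧸ scalars ι F) *
      (QuotientGroup.mk (x : GL ι F))⁻¹ ∈ pimage N := by
    rintro x ⟨b, hb⟩
    obtain ⟨g, rfl⟩ := QuotientGroup.mk_surjective b
    obtain ⟨y, hy, hz⟩ := mk_mem_pimage.1 hb
    have h1 : (QuotientGroup.mk g : GL ι F ⧸ scalars ι F) = QuotientGroup.mk y := (QuotientGroup.eq.2 hz).symm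
    show (QuotientGroup.mk (x : GL ι F) : GL ι F ⧸ scalars ι F) * QuotientGroup.mk g *
      (QuotientGroup.mk (x : GL ι F))⁻¹ ∈ pimage N
    rw [h1, ← QuotientGroup.mk_mul, ← QuotientGroup.mk_inv, ← QuotientGroup.mk_mul]
    exact mk_mem_pimage.2 ⟨_, hN x (hRY x.2) y hy, by rw [inv_mul_cancel]; exact Subgroup.one_mem _⟩
  let act : MulAction R (pimage N) :=
    { smul := fun x b => ⟨_, hmem x b⟩
      one_smul := by
        intro b
        apply Subtype.ext
        show (QuotientGroup.mk ((1 : R) : GL ι F) : GL ι F ⧸ scalars ι F) * (b : GL ι F ⧸ scalars ι F) *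
          (QuotientGroup.mk ((1 : R) : GL ι F) : GL ι F ⧸ scalars ι F)⁻¹ = (b : GL ι F ⧸ scalars ι F)
        rw [OneMemClass.coe_one, QuotientGroup.mk_one]
        group
      mul_smul := by
        intro x y b
        apply Subtype.ext
        show (QuotientGroup.mk ((x * y : R) : GL ι F) : GL ι F ⧸ scalars ι F) * (b : GL ι F ⧸ scalars ι F) *
          (QuotientGroup.mk ((x * y : R) : GL ι F) : GL ι F ⧸ scalars ι F)⁻¹ =
            (QuotientGroup.mk (x : GL ι F) : GL ι F ⧸ scalars ι F) *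
            ((QuotientGroup.mk (y : GL ι F) : GL ι F ⧸ scalars ι F) * (b : GL ι F ⧸ scalars ι F) *
              (QuotientGroup.mk (y : GL ι F) : GL ι F ⧸ scalars ι F)⁻¹) *
            (QuotientGroup.mk (x : GL ι F) : GL ι F ⧸ scalars ι F)⁻¹
        rw [Subgroup.coe_mul, QuotientGroup.mk_mul]
        group }
  have hdvd : r ∣ Nat.card (pimage N) := by
    rw [hcN, hcard, ← pow_mul]
    exact dvd_pow_self r (by omega)
  have hone : (1 : pimage N) ∈ MulAction.fixedPoints R (pimage N) := by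
    intro x
    apply Subtype.ext
    show (QuotientGroup.mk (x : GL ι F) : GL ι F ⧸ scalars ι F) * 1 * (QuotientGroup.mk (x : GL ι F))⁻¹ = 1
    group
  obtain ⟨⟨b, hb⟩, hfix, hb1⟩ :=
    hRr.exists_fixed_point_of_prime_dvd_card_of_fixed_point (pimage N) hdvd hone
  obtain ⟨g, rfl⟩ := QuotientGroup.mk_surjective b
  obtain ⟨y, hy, hz⟩ := mk_mem_pimage.1 hb
  have hgy : (QuotientGroup.mk g : GL ι F ⧸ scalars ι F) = QuotientGroup.mk y := (QuotientGroup.eq.2 hz).symm
  have hy1 : y ∉ scalars ι F := by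
    intro h
    apply hb1
    apply Subtype.ext
    show (1 : GL ι F ⧸ scalars ι F) = QuotientGroup.mk g
    rw [hgy, eq_comm]
    exact (QuotientGroup.eq_one_iff y).2 h
  have hcent : ∀ x ∈ R, y * x * y⁻¹ * x⁻¹ ∈ scalars ι F := by
    intro x hx
    have h1 := congrArg Subtype.val (hfix ⟨x, hx⟩)
    have h2 : (QuotientGroup.mk x : GL ι F ⧸ scalars ι F) * QuotientGroup.mk g * (QuotientGroup.mk x)⁻¹ =
      QuotientGroup.mk g := h1
    rw [hgy, ← QuotientGroup.mk_mul, ← QuotientGroup.mk_inv, ← QuotientGroup.mk_mul, QuotientGroup.eq] at h2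
    rw [show (x * y * x⁻¹)⁻¹ * y = x * (y⁻¹ * (x⁻¹ * y)) by group] at h2
    have h3 := (scalars_normal (ι := ι) (F := F)).conj_mem _ h2 (y * x⁻¹)
    rw [show y * x⁻¹ * (x * (y⁻¹ * (x⁻¹ * y))) * (y * x⁻¹)⁻¹ = x⁻¹ * (y * (x * y⁻¹)) by group] at h3
    have h4 := (scalars_normal (ι := ι) (F := F)).conj_mem _ h3 x
    rw [show x * (x⁻¹ * (y * (x * y⁻¹))) * x⁻¹ = y * x * y⁻¹ * x⁻¹ by group] at h4
    exact h4
  obtain ⟨x, hx⟩ := C.mem_of_centralizes hk habs hcent
  have hx0 : C.φ x ≠ 0 := by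
    intro h0
    apply hy1
    have h1 := (C.ker_iff x).1 h0
    have h2 := Subgroup.mul_mem _ h1 hx
    rwa [mul_inv_cancel_left] at h2
  -- the image of `R` is in the image of `N`
  have hle : pimage R ≤ pimage N := by
    intro a ha
    obtain ⟨w, rfl⟩ := QuotientGroup.mk_surjective a
    obtain ⟨w', hw', hww'⟩ := mk_mem_pimage.1 ha
    have h1 : (QuotientGroup.mk w : GL ι F ⧸ scalars ι F) = QuotientGroup.mk w' := (QuotientGroup.eq.2 hww').symm
    rw [h1]
    by_cases hw0 : C.φ ⟨w', hw'⟩ = 0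
    · have h2 : (QuotientGroup.mk w' : GL ι F ⧸ scalars ι F) = 1 :=
        (QuotientGroup.eq_one_iff _).2 ((C.ker_iff ⟨w', hw'⟩).1 hw0)
      rw [h2]
      exact Subgroup.one_mem _
    · obtain ⟨h, hh, x', h2, h3⟩ := hY.trans hx0 hw0
      rw [C.φ_eq_iff] at h3
      have h4 : (QuotientGroup.mk w' : GL ι F ⧸ scalars ι F) = QuotientGroup.mk (x' : GL ι F) :=
        (QuotientGroup.eq.2 h3).symm
      rw [h4, ← h2]
      refine mk_mem_pimage.2 ⟨h * y * h⁻¹, hN h hh y hy, ?_⟩
      rw [show (h * y * h⁻¹)⁻¹ * (h * (x : GL ι F) * h⁻¹) = h * ((x : GL ι F)⁻¹ * y)⁻¹ * h⁻¹ by group]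
      exact (scalars_normal (ι := ι) (F := F)).conj_mem _ (Subgroup.inv_mem _ hx) h
  exact (Subgroup.eq_of_le_of_card_ge hle (by rw [hcN, hcR])).symm

theorem Coord.Core.le_normalizer_of_comm [Finite F] [Nonempty ι] (hR : IsSymplecticTypeGroup r R)
    (hY : C.Core Y) (hRY : R ≤ Y)
    (habs : ActsAbsolutelyIrreducibly (matrixSet R)) (ht : IsType r k R) (hk : 1 ≤ k) {X : Subgroup (GL ι F)}
    (hYX : Y ≤ X) {N : Subgroup (GL ι F)}
    (hN : ∀ h ∈ X, ∀ x ∈ N, h * x * h⁻¹ ∈ N) (hns : ¬ N ≤ scalars ι F)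
    (hcomm : ∀ x ∈ N, ∀ y ∈ N, x * y * x⁻¹ * y⁻¹ ∈ scalars ι F) : X ≤ subgroupNormalizer R := by
  have hfin : Finite (GL ι F) := inferInstance
  have hp : Fact r.Prime := ⟨hR.prime⟩
  have h1 := hY.pimage_eq hRY hk habs (card_of_type hR habs ht) hR.pGroup
    (fun h hh => hN h (hYX hh)) hns hcomm
  intro g hg
  apply mem_normalizer_of_pimage habs (exponent_of_type hR ht)
  intro x hx
  have h2 : (QuotientGroup.mk x : GL ι F ⧸ scalars ι F) ∈ pimage R :=
    mk_mem_pimage.2 ⟨x, hx, by rw [inv_mul_cancel]; exact Subgroup.one_mem _⟩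
  rw [← h1] at h2 ⊢
  obtain ⟨y, hy, hz⟩ := mk_mem_pimage.1 h2
  refine mk_mem_pimage.2 ⟨g * y * g⁻¹, hN g hg y hy, ?_⟩
  rw [show (g * y * g⁻¹)⁻¹ * (g * x * g⁻¹) = g * (y⁻¹ * x) * g⁻¹ by group]
  exact (scalars_normal (ι := ι) (F := F)).conj_mem _ hz g

/-- **Overgroups of `Y`.** -/
theorem Coord.Core.overgroup [Finite F] [Nonempty ι] (hR : IsSymplecticTypeGroup r R)
    (hY : C.Core Y) (hRY : R ≤ Y)
    (habs : ActsAbsolutelyIrreducibly (matrixSet R)) (ht : IsType r k R) (h5 : 5 ≤ r ^ k) {X : Subgroup (GL ι F)}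
    (hYX : Y ≤ X) : X ≤ subgroupNormalizer R ∨ ∃ P, H919.CoreNS X P := by
  have hfin : Finite (GL ι F) := inferInstance
  have hp : Fact r.Prime := ⟨hR.prime⟩
  have hk : 1 ≤ k := by
    rcases Nat.eq_zero_or_pos k with rfl | h
    · rw [pow_zero] at h5; omega
    · exact h
  have hcard := card_of_type hR habs ht
  have hirr : ActsIrreducibly (matrixSet X) := by
    intro W hW
    apply habs.1 W
    rintro _ ⟨x, hx, rfl⟩
    exact hW _ ⟨x, hYX (hRY hx), rfl⟩
  rcases H919.C_split X hirr (by rw [hcard]; omega) (fun N hNX hN => by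
    by_cases hns : N ≤ scalars ι F
    · exact Or.inl hns
    · exact Or.inr (hY.absIrred_of_normalized hRY habs (fun h hh => hN h (hYX hh)) hns)) with
    ⟨N, -, hN, hns, hcomm⟩ | ⟨m, t, e, P, E, hw⟩ | h
  · exact Or.inl (hY.le_normalizer_of_comm hR hRY habs ht hk hYX hN hns hcomm)
  · exact (hY.not_wreath hRY habs hYX hw).elim
  · exact Or.inr h

end Cfsg.Agent.H920
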