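import Cfsg.Agent.H920.CsDiv
import Cfsg.Agent.H920.CsData

/-!
# Projective representations of extensions of `Sp_{2k}(r)` by the natural module (helper920)

`Aff r k Γ` : `Γ` has a self-centralising normal subgroup `x(V)`, `V = (ZMod r)^{2k}`, on which it induces `Sp_{2k}(r)`.
`IsProj τ` : `τ : Γ → GL κ K` is multiplicative up to scalars.
* `Aff.exists_beta` : the commutator form of the lifts;
* `Aff.pow_dvd_card` : if it is not trivial, `r ^ k` divides the dimension.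
-/

set_option autoImplicit false

namespace Cfsg.Agent.H920

open Cfsg Cfsg.Geo Matrix Cfsg.Agent.ClassicalGeometry.SympBasic

/-- The natural module. -/
abbrev Vec (r k : ℕ) := Fin k ⊕ Fin k → ZMod r

/-- `Γ` is an extension of `Sp_{2k}(r)` by its natural module. -/
structure Aff (r k : ℕ) (Γ : Type*) [Group Γ] where
  x : Vec r k → Γ
  add : ∀ v w, x (v + w) = x v * x w
  inj : Function.Injective x
  act : ∀ A ∈ Matrix.symplecticGroup (Fin k) (ZMod r), ∃ g : Γ, ∀ v, g * x v * g⁻¹ = x (A *ᵥ v)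
  norm : ∀ g : Γ, ∃ A ∈ Matrix.symplecticGroup (Fin k) (ZMod r), ∀ v, g * x v * g⁻¹ = x (A *ᵥ v)
  cent : ∀ g : Γ, (∀ v, g * x v * g⁻¹ = x v) → ∃ w, g = x w

section Proj

variable {κ : Type} [Fintype κ] [DecidableEq κ] {K : Type*} [Field K] {Γ : Type*} [Group Γ]

/-- Multiplicative up to scalars. -/
def IsProj (τ : Γ → GL κ K) : Prop :=
  ∀ a b, ∃ c : K, c ≠ 0 ∧ (τ (a * b) : Matrix κ κ K) = c • ((τ a : Matrix κ κ K) * (τ b : Matrix κ κ K))

theorem IsProj.one {τ : Γ → GL κ K} (h : IsProj τ) : ∃ c : K, c ≠ 0 ∧ (τ 1 : Matrix κ κ K) = c • (1 : Matrix κ κ K) := by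
  obtain ⟨c, hc, h1⟩ := h 1 1
  rw [mul_one] at h1
  refine ⟨c⁻¹, inv_ne_zero hc, ?_⟩
  have h2 : (1 : Matrix κ κ K) = c • (τ 1 : Matrix κ κ K) := by
    have h3 : (τ 1 : Matrix κ κ K) * ((τ 1)⁻¹ : GL κ K).val =
        (c • ((τ 1 : Matrix κ κ K) * (τ 1 : Matrix κ κ K))) * ((τ 1)⁻¹ : GL κ K).val := by rw [← h1]
    rw [Units.mul_inv, Matrix.smul_mul, Matrix.mul_assoc, Units.mul_inv, Matrix.mul_one] at h3
    exact h3
  rw [h2, smul_smul, inv_mul_cancel₀ hc, one_smul]

theorem IsProj.conj {τ : Γ → GL κ K} (h : IsProj τ) (g a : Γ) : ∃ c : K, c ≠ 0 ∧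
    (τ g : Matrix κ κ K) * (τ a : Matrix κ κ K) = c • ((τ (g * a * g⁻¹) : Matrix κ κ K) * (τ g : Matrix κ κ K)) := by
  obtain ⟨c, hc, h1⟩ := h g a
  obtain ⟨d, hd, h2⟩ := h (g * a * g⁻¹) g
  rw [inv_mul_cancel_right, h1] at h2
  refine ⟨c⁻¹ * d, mul_ne_zero (inv_ne_zero hc) hd, ?_⟩
  rw [← smul_smul, ← h2, smul_smul, inv_mul_cancel₀ hc, one_smul]

theorem IsProj.comm {τ : Γ → GL κ K} (h : IsProj τ) {a b : Γ} (hab : a * b = b * a) : ∃ c : K, c ≠ 0 ∧
    (τ a : Matrix κ κ K) * (τ b : Matrix κ κ K) = c • ((τ b : Matrix κ κ K) * (τ a : Matrix κ κ K)) := by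
  obtain ⟨c, hc, h1⟩ := h.conj a b
  rw [hab, mul_inv_cancel_right] at h1
  exact ⟨c, hc, h1⟩

theorem smul_units_injective [Nonempty κ] {c d : K} {g : GL κ K}
    (h : c • (g : Matrix κ κ K) = d • (g : Matrix κ κ K)) : c = d := smul_gl_injective h

theorem smul_mul_injective [Nonempty κ] {c d : K} {g h : GL κ K}
    (e : c • ((g : Matrix κ κ K) * (h : Matrix κ κ K)) = d • ((g : Matrix κ κ K) * (h : Matrix κ κ K))) : c = d := by
  rw [← Units.val_mul] at e
  exact smul_gl_injective e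

end Proj

variable {κ : Type} [Fintype κ] [DecidableEq κ] [Nonempty κ] {K : Type*} [Field K] {Γ : Type*} [Group Γ]
  {r k : ℕ} (D : Aff r k Γ) {τ : Γ → GL κ K}

theorem Aff.x_zero : D.x 0 = 1 := by
  have := D.add 0 0
  rw [add_zero] at this
  exact (mul_eq_left.1 this.symm)

theorem Aff.comm (v w : Vec r k) : D.x v * D.x w = D.x w * D.x v := by
  rw [← D.add, ← D.add, add_comm]

theorem Aff.x_nsmul (n : ℕ) (v : Vec r k) : D.x (n • v) = D.x v ^ n := by
  induction n with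
  | zero => rw [zero_smul, pow_zero, D.x_zero]
  | succ n ih => rw [succ_nsmul, D.add, ih, pow_succ]

/-- **The commutator form.** -/
theorem Aff.exists_beta (hτ : IsProj τ) : ∃ β : Vec r k → Vec r k → K, (∀ v w, β v w ≠ 0) ∧
    (∀ v w, (τ (D.x v) : Matrix κ κ K) * (τ (D.x w) : Matrix κ κ K) =
      β v w • ((τ (D.x w) : Matrix κ κ K) * (τ (D.x v) : Matrix κ κ K))) ∧
    (∀ u v w, β (u + v) w = β u w * β v w) ∧ (∀ u v w, β u (v + w) = β u v * β u w) ∧ (∀ v, β v v = 1) ∧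
    (∀ v w, β v w * β w v = 1) ∧
    (∀ A ∈ Matrix.symplecticGroup (Fin k) (ZMod r), ∀ v w, β (A *ᵥ v) (A *ᵥ w) = β v w) := by
  choose β h0 hβ using fun v w => hτ.comm (D.comm v w)
  have hinv : ∀ v w, β v w * β w v = 1 := by
    intro v w
    apply smul_mul_injective (g := τ (D.x v)) (h := τ (D.x w))
    rw [← smul_smul, ← hβ, ← hβ, one_smul]
  have hleft : ∀ u v w, β (u + v) w = β u w * β v w := by
    intro u v w
    obtain ⟨c, hc, h1⟩ := hτ (D.x u) (D.x v)
    rw [← D.add] at h1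
    apply smul_mul_injective (g := τ (D.x w)) (h := τ (D.x (u + v)))
    rw [← hβ, h1, Matrix.smul_mul, Matrix.mul_smul, Matrix.mul_assoc, hβ v w, Matrix.mul_smul, ← Matrix.mul_assoc,
      hβ u w, Matrix.smul_mul, Matrix.mul_assoc]
    simp only [smul_smul]
    congr 1
    ring
  have hself : ∀ v, β v v = 1 := by
    intro v
    apply smul_mul_injective (g := τ (D.x v)) (h := τ (D.x v))
    rw [← hβ, one_smul]
  refine ⟨β, h0, hβ, hleft, ?_, hself, hinv, ?_⟩
  · intro u v w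
    have h1 := hinv u (v + w)
    have h2 := hinv u v
    have h3 := hinv u w
    rw [hleft] at h1
    have h4 : β v u ≠ 0 := h0 v u
    have h5 : β w u ≠ 0 := h0 w u
    apply mul_right_cancel₀ (mul_ne_zero h4 h5)
    rw [h1]
    calc (1 : K) = (β u v * β v u) * (β u w * β w u) := by rw [h2, h3, one_mul]
      _ = β u v * β u w * (β v u * β w u) := by ring
  · intro A hA v w
    obtain ⟨g, hg⟩ := D.act A hA
    obtain ⟨c, hc, h1⟩ := hτ.conj g (D.x v)
    obtain ⟨d, hd, h2⟩ := hτ.conj g (D.x w)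
    rw [hg] at h1 h2
    -- `τ g τ v τ w`
    have e1 : (τ g : Matrix κ κ K) * ((τ (D.x v) : Matrix κ κ K) * (τ (D.x w) : Matrix κ κ K)) =
        (c * d) • (((τ (D.x (A *ᵥ v)) : Matrix κ κ K) * (τ (D.x (A *ᵥ w)) : Matrix κ κ K)) * (τ g : Matrix κ κ K)) := by
      rw [← Matrix.mul_assoc, h1, Matrix.smul_mul, Matrix.mul_assoc, h2, Matrix.mul_smul, smul_smul, Matrix.mul_assoc]
    have e2 : (τ g : Matrix κ κ K) * ((τ (D.x w) : Matrix κ κ K) * (τ (D.x v) : Matrix κ κ K)) =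
        (d * c) • (((τ (D.x (A *ᵥ w)) : Matrix κ κ K) * (τ (D.x (A *ᵥ v)) : Matrix κ κ K)) * (τ g : Matrix κ κ K)) := by
      rw [← Matrix.mul_assoc, h2, Matrix.smul_mul, Matrix.mul_assoc, h1, Matrix.mul_smul, smul_smul, Matrix.mul_assoc]
    have e3 := e1
    rw [hβ v w, Matrix.mul_smul, e2, hβ (A *ᵥ v) (A *ᵥ w), Matrix.smul_mul, smul_smul, smul_smul, ← Units.val_mul,
      ← Units.val_mul] at e3
    have e4 := smul_gl_injective e3
    have hcd : c * d ≠ 0 := mul_ne_zero hc hd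
    have e5 : (c * d) * β (A *ᵥ v) (A *ᵥ w) = (c * d) * β v w := by rw [← e4]; ring
    exact mul_left_cancel₀ hcd e5

omit [Nonempty κ] in
/-- Powers of lifts. -/
theorem IsProj.pow {τ : Γ → GL κ K} (h : IsProj τ) (a : Γ) (n : ℕ) : ∃ c : K, c ≠ 0 ∧
    (τ a : Matrix κ κ K) ^ n = c • (τ (a ^ n) : Matrix κ κ K) := by
  induction n with
  | zero =>
    obtain ⟨c, hc, h1⟩ := h.one
    refine ⟨c⁻¹, inv_ne_zero hc, ?_⟩
    rw [pow_zero, pow_zero, h1, smul_smul, inv_mul_cancel₀ hc, one_smul]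
  | succ n ih =>
    obtain ⟨c, hc, h1⟩ := ih
    obtain ⟨d, hd, h2⟩ := h (a ^ n) a
    refine ⟨c * d⁻¹, mul_ne_zero hc (inv_ne_zero hd), ?_⟩
    rw [pow_succ, h1, pow_succ, h2, Matrix.smul_mul, smul_smul, mul_assoc, inv_mul_cancel₀ hd, mul_one]

/-- A scalar multiple of a lift with `r`-th power one. -/
theorem Aff.exists_scaled [IsAlgClosed K] (hr : r.Prime) (hτ : IsProj τ) (v : Vec r k) :
    ∃ t : K, t ≠ 0 ∧ (t • (τ (D.x v) : Matrix κ κ K)) ^ r = 1 := by
  obtain ⟨c, hc, h1⟩ := hτ.pow (D.x v) r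
  obtain ⟨d, hd, h2⟩ := hτ.one
  have h3 : D.x v ^ r = 1 := by
    rw [← D.x_nsmul, ← D.x_zero]
    congr 1
    ext i
    simp
  rw [h3, h2, smul_smul] at h1
  obtain ⟨t, ht⟩ := IsAlgClosed.exists_pow_nat_eq ((c * d)⁻¹) hr.pos
  refine ⟨t, ?_, ?_⟩
  · rintro rfl
    rw [zero_pow hr.ne_zero] at ht
    exact inv_ne_zero (mul_ne_zero hc hd) ht.symm
  · rw [smul_pow, h1, smul_smul, ht, inv_mul_cancel₀ (mul_ne_zero hc hd), one_smul]

/-- An invariant bimultiplicative form is trivial on orthogonal pairs. -/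
theorem beta_eq_one_of_form {β : Vec r k → Vec r k → K} [Fact r.Prime] (h0 : ∀ v w, β v w ≠ 0)
    (hright : ∀ u v w, β u (v + w) = β u v * β u w)
    (hinv : ∀ A ∈ Matrix.symplecticGroup (Fin k) (ZMod r), ∀ v w, β (A *ᵥ v) (A *ᵥ w) = β v w)
    {v u : Vec r k} (h : sympForm k (ZMod r) v u = 0) : β v u = 1 := by
  rcases eq_or_ne u 0 with rfl | hu
  · have := hright v 0 0
    rw [add_zero] at this
    exact (mul_eq_left₀ (h0 v 0)).1 this.symm
  · obtain ⟨w, hw⟩ := exists_form_eq_one hu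
    have h1 := hinv _ (sympTransvection_mem u 1) v w
    rw [sympTransvection_mulVec, sympTransvection_mulVec, h, hw, mul_zero, zero_smul, add_zero, mul_one, one_smul,
      hright] at h1
    exact (mul_eq_left₀ (h0 v w)).1 h1

omit [Fintype κ] [DecidableEq κ] [Nonempty κ] in
theorem injective_of_pow_eq_one {f : Module.End K (κ → K)} {n : ℕ} (hn : n ≠ 0) (h : f ^ n = 1) :
    Function.Injective f := by
  have h2 : Function.Injective ⇑(f ^ n) := by rw [h]; exact fun _ _ h => h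
  intro u v huv
  apply h2
  obtain ⟨n', rfl⟩ := Nat.exists_eq_succ_of_ne_zero hn
  rw [pow_succ, Module.End.mul_apply, Module.End.mul_apply, huv]

/-- **Lemma Min, non-commuting lifts.** -/
theorem Aff.pow_dvd_card [IsAlgClosed K] [hp : Fact r.Prime] (hrK : (r : K) ≠ 0) (hτ : IsProj τ)
    {v₀ w₀ : Vec r k} (hne : (τ (D.x v₀) : Matrix κ κ K) * (τ (D.x w₀) : Matrix κ κ K) ≠
      (τ (D.x w₀) : Matrix κ κ K) * (τ (D.x v₀) : Matrix κ κ K)) : r ^ k ∣ Fintype.card κ := by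
  obtain ⟨β, h0, hβ, hleft, hright, hself, hsw, hinv⟩ := D.exists_beta hτ
  have hr := hp.out
  have hone : ∀ {v u : Vec r k}, sympForm k (ZMod r) v u = 0 → β v u = 1 :=
    fun h => beta_eq_one_of_form h0 hright hinv h
  have hβne : β v₀ w₀ ≠ 1 := by
    intro h
    apply hne
    rw [hβ, h, one_smul]
  have hv₀ : v₀ ≠ 0 := by
    rintro rfl
    exact hβne (hone (sympForm_zero_left _))
  let e : Fin k → Vec r k := fun i => Pi.single (Sum.inl i) 1
  let f : Fin k → Vec r k := fun i => Pi.single (Sum.inr i) 1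
  have hef : ∀ i, sympForm k (ZMod r) (e i) (f i) = -1 := by
    intro i
    rw [show e i = Pi.single (Sum.inl i) 1 from rfl, sympForm_single_inl_left]
    simp [f]
  have hef' : ∀ i j, i ≠ j → sympForm k (ZMod r) (e i) (f j) = 0 := by
    intro i j hij
    rw [show e i = Pi.single (Sum.inl i) 1 from rfl, sympForm_single_inl_left]
    simp [f, hij]
  have hee : ∀ i j, sympForm k (ZMod r) (e i) (e j) = 0 := by
    intro i j
    rw [show e i = Pi.single (Sum.inl i) 1 from rfl, sympForm_single_inl_left]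
    simp [e]
  have hff : ∀ i j, sympForm k (ZMod r) (f i) (f j) = 0 := by
    intro i j
    rw [show f i = Pi.single (Sum.inr i) 1 from rfl, sympForm_single_inr_left]
    simp [f]
  have hβn : ∀ u v (n : ℕ), β u (n • v) = β u v ^ n := by
    intro u v n
    induction n with
    | zero => rw [zero_smul, pow_zero]; exact hone (sympForm_zero_right _)
    | succ n ih => rw [succ_nsmul, hright, ih, pow_succ]
  have hω1 : ∀ i, β (e i) (f i) ≠ 1 := by
    intro i hi
    have hei : e i ≠ 0 := by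
      intro h
      have h1 := hef i
      rw [h, sympForm_zero_left] at h1
      exact one_ne_zero (neg_eq_zero.1 h1.symm)
    obtain ⟨A, -, hA⟩ := exists_transvGroup_mulVec_eq hv₀ hei
    have h1 := hinv _ A.2 v₀ w₀
    rw [hA] at h1
    set u := (A : Matrix (Fin k ⊕ Fin k) (Fin k ⊕ Fin k) (ZMod r)) *ᵥ w₀ with hu
    set a := sympForm k (ZMod r) (e i) u with ha
    have h2 : u = (-a).val • f i + (u - (-a).val • f i) := by rw [add_sub_cancel]
    have h3 : β (e i) (u - (-a).val • f i) = 1 := by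
      apply hone
      rw [sympForm_sub_right, ← Nat.cast_smul_eq_nsmul (ZMod r), sympForm_smul_right, hef, ZMod.natCast_val,
        ZMod.cast_id', id_eq, ← ha]
      ring
    rw [h2, hright, hβn, hi, one_pow, h3, one_mul] at h1
    exact hβne h1.symm
  have hωr : ∀ i, β (e i) (f i) ^ r = 1 := by
    intro i
    rw [← hβn]
    apply hone
    rw [← Nat.cast_smul_eq_nsmul (ZMod r), ZMod.natCast_self, zero_smul, sympForm_zero_right]
  choose s hs0 hs using fun v => D.exists_scaled hr hτ v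
  let L : Matrix κ κ K ≃ₐ[K] Module.End K (κ → K) := Matrix.toLinAlgEquiv'
  have hmulβ : ∀ v w, (s v • (τ (D.x v) : Matrix κ κ K)) * (s w • (τ (D.x w) : Matrix κ κ K)) =
      β v w • ((s w • (τ (D.x w) : Matrix κ κ K)) * (s v • (τ (D.x v) : Matrix κ κ K))) := by
    intro v w
    rw [Matrix.smul_mul, Matrix.mul_smul, hβ, Matrix.smul_mul, Matrix.mul_smul]
    simp only [smul_smul]
    congr 1
    ring
  have hcom : ∀ v w, β v w = 1 → (s v • (τ (D.x v) : Matrix κ κ K)) * (s w • (τ (D.x w) : Matrix κ κ K)) =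
      (s w • (τ (D.x w) : Matrix κ κ K)) * (s v • (τ (D.x v) : Matrix κ κ K)) := by
    intro v w h
    rw [hmulβ, h, one_smul]
  have hmain := pow_dvd_finrank hr hrK k (V := κ → K) (fun i => L (s (e i) • (τ (D.x (e i)) : Matrix κ κ K)))
    (fun i => L (s (f i) • (τ (D.x (f i)) : Matrix κ κ K))) (fun i => β (e i) (f i)) hωr hω1 ?_ ?_ ?_ ?_ ?_ ?_
  · rwa [Module.finrank_fintype_fun_eq_card] at hmain
  · intro i
    rw [← map_pow, hs, map_one]
  · intro i
    have h1 : L (s (f i) • (τ (D.x (f i)) : Matrix κ κ K)) ^ r = 1 := by rw [← map_pow, hs, map_one]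
    exact injective_of_pow_eq_one hr.ne_zero h1
  · intro i
    show L _ * L _ = _ • (L _ * L _)
    rw [← map_mul, ← map_mul, ← map_smul, hmulβ]
  · intro i j hij
    show L _ * L _ = L _ * L _
    rw [← map_mul, ← map_mul, hcom _ _ (hone (hef' i j hij))]
  · intro i j
    show L _ * L _ = L _ * L _
    rw [← map_mul, ← map_mul, hcom _ _ (hone (hee i j))]
  · intro i j
    show L _ * L _ = L _ * L _
    rw [← map_mul, ← map_mul, hcom _ _ (hone (hff i j))]

end Cfsg.Agent.H920
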