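import Cfsg.Agent.H920.SympE
import Cfsg.Agent.ClassicalGeometry.SympIso

/-!
# Coordinates of a group of symplectic type (helper920)

`Coord R r k` : a surjection `φ` of `R ≤ GL ι F` onto the symplectic space `(ZMod r)^{2k}` with kernel the scalars of
`R`, and an injective character `χ` of `ZMod r` with `x y = χ (φ x, φ y) • y x`.
`exists_coord` : existence.
-/

set_option autoImplicit false

namespace Cfsg.Agent.H920

open Cfsg.Geo Matrix

variable {ι : Type} [Fintype ι] [DecidableEq ι] {F : Type*} [Field F]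

/-- Symplectic coordinates of a group of symplectic type. -/
structure Coord (R : Subgroup (GL ι F)) (r k : ℕ) where
  χ : AddChar (ZMod r) F
  inj : Function.Injective χ
  φ : R → (Fin k ⊕ Fin k → ZMod r)
  map_mul : ∀ x y, φ (x * y) = φ x + φ y
  surj : Function.Surjective φ
  ker_iff : ∀ x : R, φ x = 0 ↔ (x : GL ι F) ∈ scalars ι F
  comm : ∀ x y : R, ((x : GL ι F) : Matrix ι ι F) * ((y : GL ι F) : Matrix ι ι F) =
    χ (sympForm k (ZMod r) (φ x) (φ y)) • (((y : GL ι F) : Matrix ι ι F) * ((x : GL ι F) : Matrix ι ι F))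

theorem cs_mul_left (i₀ : ι) {R : Subgroup (GL ι F)}
    (hcomm : ∀ x ∈ R, ∀ y ∈ R, x * y * x⁻¹ * y⁻¹ ∈ scalars ι F) {x y z : GL ι F} (hx : x ∈ R) (hy : y ∈ R)
    (hz : z ∈ R) : cs i₀ (x * y) z = cs i₀ x z * cs i₀ y z := by
  apply cs_eq_of i₀ (hcomm _ (R.mul_mem hx hy) z hz)
  rw [Units.val_mul, Matrix.mul_assoc, cs_mul i₀ (hcomm y hy z hz), Matrix.mul_smul, ← Matrix.mul_assoc,
    cs_mul i₀ (hcomm x hx z hz), Matrix.smul_mul, smul_smul, mul_comm (cs i₀ y z), Matrix.mul_assoc]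

theorem cs_scalar_left (i₀ : ι) {x y : GL ι F} (hx : x ∈ scalars ι F)
    (h : x * y * x⁻¹ * y⁻¹ ∈ scalars ι F) : cs i₀ x y = 1 :=
  (cs_eq_one_iff i₀ h).2 (scalars_comm hx y)

theorem cs_scalar_right (i₀ : ι) {x y : GL ι F} (hy : y ∈ scalars ι F)
    (h : x * y * x⁻¹ * y⁻¹ ∈ scalars ι F) : cs i₀ x y = 1 :=
  (cs_eq_one_iff i₀ h).2 (scalars_comm hy x).symm

/-- `cs` of a power. -/
theorem cs_pow_right (i₀ : ι) {R : Subgroup (GL ι F)}
    (hcomm : ∀ x ∈ R, ∀ y ∈ R, x * y * x⁻¹ * y⁻¹ ∈ scalars ι F) {x y : GL ι F} (hx : x ∈ R) (hy : y ∈ R)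
    (n : ℕ) : cs i₀ x (y ^ n) = cs i₀ x y ^ n := by
  induction n with
  | zero =>
    rw [pow_zero, pow_zero]
    exact cs_scalar_right i₀ (Subgroup.one_mem _) (hcomm x hx 1 R.one_mem)
  | succ n ih => rw [pow_succ, pow_succ, cs_mul_right i₀ hcomm hx (R.pow_mem hy n) hy, ih]

theorem exists_coord [Nonempty ι] {R : Subgroup (GL ι F)} [Finite R]
    (h : ActsAbsolutelyIrreducibly (matrixSet R))
    (hcomm : ∀ x ∈ R, ∀ y ∈ R, x * y * x⁻¹ * y⁻¹ ∈ scalars ι F) {r k : ℕ} (hr : r.Prime) (hk : 1 ≤ k)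
    (hpow : ∀ x ∈ R, x ^ r ∈ scalars ι F) (hcard : Fintype.card ι = r ^ k) : Nonempty (Coord R r k) := by
  classical
  obtain ⟨i₀⟩ := (inferInstance : Nonempty ι)
  have hne : Nonempty ι := ⟨i₀⟩
  have hrF : Fact r.Prime := ⟨hr⟩
  have hQcard := card_quotient_scalars h hcomm
  set Z : Subgroup R := (scalars ι F).subgroupOf R with hZ
  have hZn : Z.Normal := by
    rw [hZ, ← center_eq h]; infer_instance
  -- commutator scalars are `r`-th roots of unity
  have hcs : ∀ x y : R, cs i₀ (x : GL ι F) y ^ r = 1 := by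
    intro x y
    rw [← cs_pow_right i₀ hcomm x.2 y.2]
    exact cs_scalar_right i₀ (hpow y y.2) (hcomm x x.2 _ (R.pow_mem y.2 r))
  -- a pair that does not commute
  obtain ⟨x₀, y₀, hxy⟩ : ∃ x y : R, cs i₀ (x : GL ι F) y ≠ 1 := by
    by_contra hcon
    push Not at hcon
    have hall : ∀ x : R, x ∈ Z := by
      intro x
      rw [hZ, Subgroup.mem_subgroupOf]
      apply mem_scalars_of_comm' h
      intro y hy
      exact (cs_eq_one_iff i₀ (hcomm x x.2 y hy)).1 (hcon x ⟨y, hy⟩)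
    have htop : Z = ⊤ := by rw [eq_top_iff]; exact fun x _ => hall x
    rw [htop] at hQcard
    have h1 : Nat.card (R ⧸ (⊤ : Subgroup R)) = 1 := by
      rw [← Subgroup.index, Subgroup.index_top]
    rw [h1, hcard] at hQcard
    have h2 : 1 < r ^ k := Nat.one_lt_pow (by omega) hr.one_lt
    nlinarith
  set ω : F := cs i₀ (x₀ : GL ι F) y₀ with hω
  have hprim : IsPrimitiveRoot ω r := by
    have h1 := IsPrimitiveRoot.orderOf ω
    have h2 : orderOf ω = r := orderOf_eq_prime (hcs x₀ y₀) hxy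
    rwa [h2] at h1
  let χ : AddChar (ZMod r) F := AddChar.zmodChar r hprim.pow_eq_one
  have hχ : ∀ a : ZMod r, χ a = ω ^ a.val := fun a => AddChar.zmodChar_apply hprim.pow_eq_one a
  have hχinj : Function.Injective χ := by
    intro a b hab
    rw [hχ, hχ] at hab
    exact ZMod.val_injective r (hprim.pow_inj (ZMod.val_lt a) (ZMod.val_lt b) hab)
  -- the logarithm
  have hlg : ∀ x y : R, ∃ a : ZMod r, χ a = cs i₀ (x : GL ι F) y := by
    intro x y
    obtain ⟨i, hi, hi'⟩ := hprim.eq_pow_of_pow_eq_one (hcs x y)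
    exact ⟨(i : ZMod r), by rw [hχ, ZMod.val_natCast_of_lt hi, hi']⟩
  choose b hb using hlg
  have hb_mul_right : ∀ x y z, b x (y * z) = b x y + b x z := by
    intro x y z
    apply hχinj
    rw [AddChar.map_add_eq_mul, hb, hb, hb, Subgroup.coe_mul, cs_mul_right i₀ hcomm x.2 y.2 z.2]
  have hb_mul_left : ∀ x y z, b (x * y) z = b x z + b y z := by
    intro x y z
    apply hχinj
    rw [AddChar.map_add_eq_mul, hb, hb, hb, Subgroup.coe_mul, cs_mul_left i₀ hcomm x.2 y.2 z.2]
  have hb_self : ∀ x, b x x = 0 := by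
    intro x
    apply hχinj
    rw [hb, AddChar.map_zero_eq_one]
    exact (cs_eq_one_iff i₀ (hcomm x x.2 x x.2)).2 rfl
  have hb_Z_left : ∀ x ∈ Z, ∀ y, b x y = 0 := by
    intro x hx y
    apply hχinj
    rw [hb, AddChar.map_zero_eq_one]
    exact cs_scalar_left i₀ hx (hcomm x x.2 y y.2)
  have hb_Z_right : ∀ x, ∀ y ∈ Z, b x y = 0 := by
    intro x y hy
    apply hχinj
    rw [hb, AddChar.map_zero_eq_one]
    exact cs_scalar_right i₀ hy (hcomm x x.2 y y.2)
  -- the quotient as a vector space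
  have hQcomm : ∀ a b : R ⧸ Z, a * b = b * a := by
    intro a b
    induction a using QuotientGroup.induction_on with | _ x
    induction b using QuotientGroup.induction_on with | _ y
    rw [← QuotientGroup.mk_mul, ← QuotientGroup.mk_mul, QuotientGroup.eq, hZ, Subgroup.mem_subgroupOf]
    have h1 := hcomm (y⁻¹ : R) (y⁻¹ : R).2 (x⁻¹ : R) (x⁻¹ : R).2
    have h2 : (((x * y)⁻¹ * (y * x) : R) : GL ι F) = ((y⁻¹ : R) : GL ι F) * ((x⁻¹ : R) : GL ι F) *
      ((y⁻¹ : R) : GL ι F)⁻¹ * ((x⁻¹ : R) : GL ι F)⁻¹ := by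
      simp only [Subgroup.coe_mul, Subgroup.coe_inv]; group
    rw [h2]; exact h1
  let _ : CommGroup (R ⧸ Z) := { (inferInstance : Group (R ⧸ Z)) with mul_comm := hQcomm }
  have hQpow : ∀ a : R ⧸ Z, a ^ r = 1 := by
    intro a
    induction a using QuotientGroup.induction_on with | _ x
    rw [← QuotientGroup.mk_pow, QuotientGroup.eq_one_iff, hZ, Subgroup.mem_subgroupOf]
    exact hpow x x.2
  let E := Additive (R ⧸ Z)
  let _ : AddCommGroup E := inferInstanceAs (AddCommGroup (Additive (R ⧸ Z)))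
  let _ : Module (ZMod r) E := AddCommGroup.zmodModule (n := r) (fun a => hQpow a.toMul)
  have : Finite E := inferInstanceAs (Finite (R ⧸ Z))
  have : Module.Finite (ZMod r) E := Module.Finite.of_finite
  let mk : R → E := fun x => Additive.ofMul (QuotientGroup.mk x)
  have hmk_surj : Function.Surjective mk := by
    intro a
    obtain ⟨x, hx⟩ := QuotientGroup.mk_surjective a.toMul
    exact ⟨x, congrArg Additive.ofMul hx⟩
  have hmk_mul : ∀ x y, mk (x * y) = mk x + mk y := fun x y => rfl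
  have hmk_zero : ∀ x, mk x = 0 ↔ x ∈ Z := by
    intro x
    exact QuotientGroup.eq_one_iff (N := Z) x
  have hb_congr : ∀ x x' y y', mk x = mk x' → mk y = mk y' → b x y = b x' y' := by
    intro x x' y y' hx hy
    have h1 : x⁻¹ * x' ∈ Z := QuotientGroup.eq.1 hx
    have h2 : y⁻¹ * y' ∈ Z := QuotientGroup.eq.1 hy
    have h3 : x' = x * (x⁻¹ * x') := by group
    have h4 : y' = y * (y⁻¹ * y') := by group
    rw [h3, h4, hb_mul_left, hb_mul_right, hb_Z_right x _ h2, hb_Z_left _ h1]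
    simp
  choose s hs using hmk_surj
  have hB : ∀ x y, b (s (mk x)) (s (mk y)) = b x y := fun x y => hb_congr _ _ _ _ (hs _) (hs _)
  let Bi : E → (E →+ ZMod r) := fun u => AddMonoidHom.mk' (fun v => b (s u) (s v)) (by
    intro v w
    rw [← hb_mul_right]
    apply hb_congr _ _ _ _ rfl
    rw [hs, hmk_mul, hs, hs])
  let B : LinearMap.BilinForm (ZMod r) E := AddMonoidHom.toZModLinearMap r (AddMonoidHom.mk'
    (fun u => AddMonoidHom.toZModLinearMap r (Bi u)) (by
      intro u v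
      ext w
      show b (s (u + v)) (s w) = b (s u) (s w) + b (s v) (s w)
      rw [← hb_mul_left]
      apply hb_congr _ _ _ _ _ rfl
      rw [hs, hmk_mul, hs, hs]))
  have hBmk : ∀ x y, B (mk x) (mk y) = b x y := hB
  have hBalt : B.IsAlt := by
    intro u
    show b (s u) (s u) = 0
    exact hb_self _
  have hBnd : ∀ u, (∀ v, B u v = 0) → u = 0 := by
    intro u hu
    rw [← hs u, hmk_zero, hZ, Subgroup.mem_subgroupOf]
    apply mem_scalars_of_comm' h
    intro y hy
    apply (cs_eq_one_iff i₀ (hcomm (s u) (s u).2 y hy)).1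
    rw [← hb (s u) ⟨y, hy⟩, ← hBmk, hs, hu, AddChar.map_zero_eq_one]
  have hfin : Module.finrank (ZMod r) E = 2 * k := by
    have : Fintype E := Fintype.ofFinite E
    have h1 := Module.card_eq_pow_finrank (K := ZMod r) (V := E)
    have h2 : Fintype.card E = Fintype.card ι ^ 2 := by
      rw [← Nat.card_eq_fintype_card]; exact hQcard
    rw [h2, hcard, ← pow_mul, ZMod.card] at h1
    have := Nat.pow_right_injective hr.two_le h1
    omega
  obtain ⟨e, he⟩ := ClassicalGeometry.SympIso.exists_linearEquiv_sympForm B hBalt hBnd hfin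
  refine ⟨⟨χ, hχinj, fun x => e.symm (mk x), ?_, ?_, ?_, ?_⟩⟩
  · intro x y
    show e.symm (mk (x * y)) = e.symm (mk x) + e.symm (mk y)
    rw [hmk_mul, map_add]
  · intro v
    refine ⟨s (e v), ?_⟩
    show e.symm (mk (s (e v))) = v
    rw [hs, LinearEquiv.symm_apply_apply]
  · intro x
    show e.symm (mk x) = 0 ↔ _
    rw [LinearEquiv.map_eq_zero_iff, hmk_zero]
    exact Subgroup.mem_subgroupOf
  · intro x y
    show _ = χ (sympForm k (ZMod r) (e.symm (mk x)) (e.symm (mk y))) • _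
    rw [← he, LinearEquiv.apply_symm_apply, LinearEquiv.apply_symm_apply, hBmk, hb]
    exact cs_mul i₀ (hcomm x x.2 y y.2)

end Cfsg.Agent.H920
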