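import Cfsg.Agent.H912.Bd1

/-!
# Commuting pairs of Weyl type and the dimension (helper920)

`pow_dvd_finrank` : if `a i, b i` (`i < k`) are invertible, `a i ^ r = 1`, `a i b i = ω i b i a i` with `ω i` a primitive
`r`-th root of unity and all other pairs commute, then `r ^ k` divides the dimension.
-/

set_option autoImplicit false

namespace Cfsg.Agent.H920

open Module

theorem pow_dvd_finrank {K : Type*} [Field K] [IsAlgClosed K] {r : ℕ} (hr : r.Prime) (hrK : (r : K) ≠ 0) (k : ℕ) :
    ∀ {V : Type*} [AddCommGroup V] [Module K V] [FiniteDimensional K V] (a b : Fin k → Module.End K V)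
      (ω : Fin k → K), (∀ i, ω i ^ r = 1) → (∀ i, ω i ≠ 1) → (∀ i, a i ^ r = 1) →
      (∀ i, Function.Injective (b i)) → (∀ i, a i * b i = ω i • (b i * a i)) →
      (∀ i j, i ≠ j → a i * b j = b j * a i) → (∀ i j, a i * a j = a j * a i) →
      (∀ i j, b i * b j = b j * b i) → r ^ k ∣ finrank K V := by
  classical
  induction k with
  | zero => intro V _ _ _ a b ω _ _ _ _ _ _ _ _; rw [pow_zero]; exact one_dvd _
  | succ k ih =>
    intro V _ _ _ a b ω hωr hω1 har hb hab hab' haa hbb
    have hprim : IsPrimitiveRoot (ω 0) r := by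
      have h3 := IsPrimitiveRoot.orderOf (ω 0)
      have : Fact r.Prime := ⟨hr⟩
      rwa [orderOf_eq_prime (hωr 0) (hω1 0)] at h3
    have hω0 : ω 0 ≠ 0 := hprim.ne_zero hr.ne_zero
    -- eigenspaces
    set E : K → Submodule K V := fun ν => (a 0).eigenspace ν with hE
    have hbE : ∀ ν, ∀ u ∈ E ν, b 0 u ∈ E (ω 0 * ν) := by
      intro ν u hu
      rw [hE, Module.End.mem_eigenspace_iff] at hu ⊢
      have h1 := congrArg (fun f : Module.End K V => f u) (hab 0)
      simp only [Module.End.mul_apply, LinearMap.smul_apply] at h1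
      rw [h1, hu, map_smul, smul_smul]
    have hle : ∀ ν, finrank K (E ν) ≤ finrank K (E (ω 0 * ν)) := by
      intro ν
      refine LinearMap.finrank_le_finrank_of_injective (f := (b 0).restrict (hbE ν)) ?_
      intro u v huv
      apply Subtype.ext
      apply hb 0
      exact congrArg Subtype.val huv
    have hle' : ∀ ν (j : ℕ), finrank K (E ν) ≤ finrank K (E (ω 0 ^ j * ν)) := by
      intro ν j
      induction j with
      | zero => rw [pow_zero, one_mul]
      | succ j ihj => rw [pow_succ', mul_assoc]; exact ihj.trans (hle _)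
    have heq : ∀ j : ℕ, j < r → finrank K (E (ω 0 ^ j)) = finrank K (E 1) := by
      intro j hj
      apply le_antisymm
      · have h1 := hle' (ω 0 ^ j) (r - j)
        rw [← pow_add, Nat.sub_add_cancel hj.le, hprim.pow_eq_one] at h1
        exact h1
      · have h1 := hle' 1 j
        rwa [mul_one] at h1
    -- the sum
    let E' : Fin r → Submodule K V := fun j => E (ω 0 ^ (j : ℕ))
    have hind : iSupIndep E' := by
      refine (Module.End.eigenspaces_iSupIndep (a 0)).comp (f := fun j : Fin r => ω 0 ^ (j : ℕ)) ?_
      intro i j hij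
      exact Fin.ext (hprim.pow_inj i.2 j.2 hij)
    have htop : iSup E' = ⊤ := by
      rw [eq_top_iff, ← Module.End.iSup_maxGenEigenspace_eq_top (a 0)]
      refine iSup_le fun μ => ?_
      rw [H912.Bd.maxGen_eq hrK (har 0)]
      by_cases hμ : (a 0).eigenspace μ = ⊥
      · rw [hμ]; exact bot_le
      · obtain ⟨u, hu, hu0⟩ := Submodule.exists_mem_ne_zero_of_ne_bot hμ
        rw [Module.End.mem_eigenspace_iff] at hu
        have hpow : ∀ n : ℕ, ((a 0) ^ n) u = μ ^ n • u := by
          intro n
          induction n with
          | zero => simp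
          | succ n ihn => rw [pow_succ', Module.End.mul_apply, ihn, map_smul, hu, smul_smul, pow_succ]
        have h1 := hpow r
        rw [har 0, Module.End.one_apply] at h1
        have h2 : μ ^ r = 1 := by
          have h3 : (μ ^ r - 1) • u = 0 := by rw [sub_smul, ← h1, one_smul, sub_self]
          exact sub_eq_zero.1 ((smul_eq_zero.1 h3).resolve_right hu0)
        have : NeZero r := ⟨hr.ne_zero⟩
        obtain ⟨j, hj, rfl⟩ := hprim.eq_pow_of_pow_eq_one h2
        exact le_iSup E' ⟨j, hj⟩
    have hint := DirectSum.isInternal_submodule_of_iSupIndep_of_iSup_eq_top hind htop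
    have hsum : finrank K V = ∑ j : Fin r, finrank K (E' j) := by
      rw [← finrank_directSum]
      exact ((LinearEquiv.ofBijective (DirectSum.coeLinearMap E') hint).finrank_eq).symm
    have hfin : finrank K V = r * finrank K (E 1) := by
      have h1 : ∀ j : Fin r, finrank K (E' j) = finrank K (E 1) := fun j => heq (j : ℕ) j.2
      rw [hsum, Finset.sum_congr rfl (fun j _ => h1 j), Finset.sum_const, Finset.card_univ, Fintype.card_fin,
        smul_eq_mul]
    rw [hfin, pow_succ']
    apply Nat.mul_dvd_mul_left
    -- restriction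
    have hpres : ∀ f : Module.End K V, a 0 * f = f * a 0 → ∀ u ∈ E 1, f u ∈ E 1 := by
      intro f hf u hu
      rw [hE, Module.End.mem_eigenspace_iff] at hu ⊢
      rw [← Module.End.mul_apply, hf, Module.End.mul_apply, hu, one_smul, one_smul]
    have ha' : ∀ i : Fin k, ∀ u ∈ E 1, a i.succ u ∈ E 1 := fun i => hpres _ (haa 0 i.succ)
    have hb' : ∀ i : Fin k, ∀ u ∈ E 1, b i.succ u ∈ E 1 := fun i => hpres _ (hab' 0 i.succ (Fin.succ_ne_zero i).symm)
    refine ih (fun i => (a i.succ).restrict (ha' i)) (fun i => (b i.succ).restrict (hb' i)) (fun i => ω i.succ)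
      (fun i => hωr _) (fun i => hω1 _) ?_ ?_ ?_ ?_ ?_ ?_
    · intro i
      rw [Module.End.pow_restrict]
      ext u
      simp [har]
    · intro i u v huv
      apply Subtype.ext
      apply hb i.succ
      exact congrArg Subtype.val huv
    · intro i
      ext u
      exact congrArg (fun f : Module.End K V => f u) (hab i.succ)
    · intro i j hij
      ext u
      exact congrArg (fun f : Module.End K V => f u)
        (hab' i.succ j.succ (fun h => hij (Fin.succ_injective _ h)))
    · intro i j
      ext u
      exact congrArg (fun f : Module.End K V => f u) (haa i.succ j.succ)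
    · intro i j
      ext u
      exact congrArg (fun f : Module.End K V => f u) (hbb i.succ j.succ)

end Cfsg.Agent.H920
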