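import Cfsg.Agent.H920.CsMax

/-!
# Fields and forms of overgroups of a group of symplectic type (helper920)

* `exists_scalar_of_center` : a scalar of `R` whose order is `|Z(R)|`;
* `not_realisable_of_minimal`, `not_fixes_symplectic`, `not_fixes_quadratic`, `not_fixes_unitary`;
* `Coord.Core.le_GU`.
-/

set_option autoImplicit false

namespace Cfsg.Agent.H920

open Cfsg Cfsg.Geo Matrix Cfsg.Agent.ClassicalGeometry.SympBasic

variable {ι : Type} [Fintype ι] [DecidableEq ι] {F : Type*} [Field F] {R : Subgroup (GL ι F)} {r k : ℕ}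

/-- A scalar of `R` of order `|Z(R)|`. -/
theorem exists_scalar_of_center [Finite F] [Nonempty ι] (hR : IsSymplecticTypeGroup r R)
    (habs : ActsAbsolutelyIrreducibly (matrixSet R)) :
    ∃ (z : GL ι F) (c : F), z ∈ R ∧ (z : Matrix ι ι F) = c • (1 : Matrix ι ι F) ∧
      orderOf c = Nat.card (Subgroup.center R) := by
  have hfin : Finite (GL ι F) := inferInstance
  have hcyc : IsCyclic (Subgroup.center R) :=
    hR.cyclic_of_characteristic _ inferInstance ⟨⟨fun a b => Subtype.ext ((Subgroup.mem_center_iff.1 a.2 b).symm)⟩⟩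
  obtain ⟨z, hz⟩ := hcyc.exists_generator
  have hord : orderOf z = Nat.card (Subgroup.center R) := orderOf_eq_card_of_forall_mem_zpowers hz
  obtain ⟨c, hc⟩ := (mem_scalars_iff _).1 (mem_scalars_of_mem_center habs z.2)
  refine ⟨(z : R), c, (z : R).2, hc, ?_⟩
  rw [← hord, ← Subgroup.orderOf_coe z, ← Subgroup.orderOf_coe (z : R)]
  apply Nat.dvd_antisymm
  · apply orderOf_dvd_of_pow_eq_one
    apply smul_one_injective (ι := ι)
    rw [← pow_eq_one_of_smul hc, pow_orderOf_eq_one, one_smul]; rfl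
  · apply orderOf_dvd_of_pow_eq_one
    apply Units.ext
    rw [pow_eq_one_of_smul hc, pow_orderOf_eq_one, one_smul, Units.val_one]

theorem mem_of_realisable [Nonempty ι] {F₀ : Subfield F} {P : Subgroup (GL ι F)}
    (h : RealisableOver F₀ (matrixSet P)) {z : GL ι F} (hz : z ∈ P) {c : F}
    (hc : (z : Matrix ι ι F) = c • (1 : Matrix ι ι F)) : c ∈ F₀ := by
  obtain ⟨B, hB⟩ := h
  obtain ⟨i⟩ := (inferInstance : Nonempty ι)
  have h1 := hB _ ⟨z, hz, rfl⟩ i i
  simp only [hc] at h1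
  rw [Matrix.mul_smul, Matrix.mul_one, Matrix.smul_mul, Units.mul_inv, Matrix.smul_apply, Matrix.one_apply_eq,
    smul_eq_mul, mul_one] at h1
  exact h1

/-- An overgroup of `R` is not realisable over a proper subfield. -/
theorem not_realisable_of_minimal [Fintype F] [Nonempty ι] (hR : IsSymplecticTypeGroup r R)
    (habs : ActsAbsolutelyIrreducibly (matrixSet R)) {p e : ℕ}
    (hmin : IsMinimalFieldFor (Nat.card (Subgroup.center R)) p e F) {P : Subgroup (GL ι F)} (hRP : R ≤ P)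
    (F₀ : Subfield F) (hF₀ : F₀ ≠ ⊤) : ¬ RealisableOver F₀ (matrixSet P) := by
  intro h
  obtain ⟨z, c, hz, hc, hord⟩ := exists_scalar_of_center hR habs
  have hcF := mem_of_realisable h (hRP hz) hc
  obtain ⟨hp, hchar, hcard, -, hmin⟩ := hmin
  have hpF : Fact p.Prime := ⟨hp⟩
  have : Fintype F₀ := Fintype.ofFinite _
  have hchar' : CharP F₀ p := F₀.subtype.charP F₀.subtype.injective p
  obtain ⟨d, -, hd⟩ := FiniteField.card F₀ p
  have hd' : Fintype.card F₀ = p ^ (d : ℕ) := hd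
  have hc0 : c ≠ 0 := by
    rintro rfl
    rw [zero_smul] at hc
    exact Units.ne_zero z hc
  have h1 : Nat.card (Subgroup.center R) ∣ p ^ (d : ℕ) - 1 := by
    rw [← hord, ← hd']
    have h2 : (⟨c, hcF⟩ : F₀) ^ (Fintype.card F₀ - 1) = 1 := by
      apply FiniteField.pow_card_sub_one_eq_one
      intro h0
      exact hc0 (congrArg Subtype.val h0)
    apply orderOf_dvd_of_pow_eq_one
    have h3 := congrArg Subtype.val h2
    exact h3
  refine hmin d d.2 ?_ h1
  by_contra hlt
  push Not at hlt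
  apply hF₀
  have h4 : Fintype.card F ≤ Fintype.card F₀ := by
    rw [hcard, hd']
    exact Nat.pow_le_pow_right hp.pos hlt
  have h5 : (F₀ : Set F) = Set.univ := by
    rw [Set.eq_univ_iff_ncard]
    apply le_antisymm
    · have h6 := Set.ncard_le_ncard (Set.subset_univ (F₀ : Set F))
      rwa [Set.ncard_univ] at h6
    · rw [Nat.card_eq_fintype_card, ← Nat.card_coe_set_eq]
      rw [← Nat.card_eq_fintype_card (α := F₀)] at h4
      exact h4
  rw [eq_top_iff]
  intro x _
  have h6 : x ∈ (F₀ : Set F) := by rw [h5]; exact Set.mem_univ _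
  exact h6

/-- The scalar of order at least 3 excludes bilinear forms. -/
theorem sq_ne_one_of_center [Finite F] [Nonempty ι] (hR : IsSymplecticTypeGroup r R)
    (habs : ActsAbsolutelyIrreducibly (matrixSet R)) (h3 : 3 ≤ Nat.card (Subgroup.center R)) :
    ∃ (z : GL ι F) (c : F), z ∈ R ∧ (z : Matrix ι ι F) = c • (1 : Matrix ι ι F) ∧ c ^ 2 ≠ 1 := by
  obtain ⟨z, c, hz, hc, hord⟩ := exists_scalar_of_center hR habs
  refine ⟨z, c, hz, hc, ?_⟩
  intro h
  have := orderOf_le_of_pow_eq_one (by norm_num) h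
  omega

theorem not_fixes_symplectic [Finite F] [Nonempty ι] (hR : IsSymplecticTypeGroup r R)
    (habs : ActsAbsolutelyIrreducibly (matrixSet R)) (h3 : 3 ≤ Nat.card (Subgroup.center R))
    {P : Subgroup (GL ι F)} (hRP : R ≤ P) :
    ¬ ∃ f : (ι → F) → (ι → F) → F, IsSymplecticForm f ∧ FixesForm (matrixSet P) f := by
  rintro ⟨f, hf, hfix⟩
  obtain ⟨z, c, hz, hc, hc2⟩ := sq_ne_one_of_center hR habs h3
  obtain ⟨i⟩ := (inferInstance : Nonempty ι)
  have hv : (Pi.single i (1 : F) : ι → F) ≠ 0 := by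
    intro h
    have := congrFun h i
    simp at this
  obtain ⟨x, hx⟩ := (hf.nondegenerate _ hv).1
  have h1 := hfix _ ⟨z, hRP hz, rfl⟩ x (Pi.single i 1)
  simp only [hc] at h1
  rw [Matrix.smul_mulVec, Matrix.one_mulVec, Matrix.smul_mulVec, Matrix.one_mulVec, hf.bilinear.smul_left,
    hf.bilinear.smul_right, ← mul_assoc, ← pow_two] at h1
  exact hc2 (mul_right_cancel₀ hx (by rw [h1, one_mul]))

theorem not_fixes_quadratic [Finite F] [Nonempty ι] (hR : IsSymplecticTypeGroup r R)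
    (habs : ActsAbsolutelyIrreducibly (matrixSet R)) (h3 : 3 ≤ Nat.card (Subgroup.center R))
    {P : Subgroup (GL ι F)} (hRP : R ≤ P) :
    ¬ ∃ Q : (ι → F) → F, IsNondegenerateQuadraticForm Q ∧ FixesQuadForm (matrixSet P) Q := by
  rintro ⟨Q, hQ, hfix⟩
  obtain ⟨z, c, hz, hc, hc2⟩ := sq_ne_one_of_center hR habs h3
  obtain ⟨i⟩ := (inferInstance : Nonempty ι)
  have hv : (Pi.single i (1 : F) : ι → F) ≠ 0 := by
    intro h
    have := congrFun h i
    simp at this
  have h0 : ∀ v, Q v = 0 := by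
    intro v
    by_contra hne
    have h1 := hfix _ ⟨z, hRP hz, rfl⟩ v
    simp only [hc] at h1
    rw [Matrix.smul_mulVec, Matrix.one_mulVec, hQ.smul] at h1
    exact hc2 (mul_right_cancel₀ hne (by rw [h1, one_mul]))
  obtain ⟨x, hx⟩ := (hQ.nondegenerate _ hv).1
  apply hx
  rw [QuadraticMap.polar, h0, h0, h0]
  ring

/-- No involutory automorphism of a field with `p ^ e` elements, `e` odd. -/
theorem eq_refl_of_odd [Fintype F] {p e : ℕ} (hp : p.Prime) [CharP F p] (hcard : Fintype.card F = p ^ e) (he : Odd e)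
    (σ : F ≃+* F) (hσ : ∀ a, σ (σ a) = a) : σ = RingEquiv.refl F := by
  classical
  by_contra hne
  have hpF : Fact p.Prime := ⟨hp⟩
  have hσ2 : σ ^ 2 = 1 := by
    ext a
    rw [pow_two]
    exact hσ a
  have hord : orderOf σ = 2 := orderOf_eq_prime hσ2 hne
  let G := Subgroup.zpowers σ
  have : Finite G := by
    apply Nat.finite_of_card_ne_zero
    rw [Nat.card_zpowers, hord]
    norm_num
  have : Fintype G := Fintype.ofFinite G
  have h1 := FixedPoints.finrank_eq_card G F
  rw [← Nat.card_eq_fintype_card, Nat.card_zpowers, hord] at h1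
  let E := FixedPoints.subfield G F
  have : Fintype E := Fintype.ofFinite _
  have hchar' : CharP E p := E.subtype.charP E.subtype.injective p
  obtain ⟨d, -, hd⟩ := FiniteField.card E p
  have h2 : Fintype.card F = Fintype.card E ^ 2 := by
    rw [Module.card_eq_pow_finrank (K := E) (V := F), h1]
  rw [hcard, hd, ← pow_mul] at h2
  have h3 := Nat.pow_right_injective hp.two_le h2
  rw [h3] at he
  exact absurd he (by rw [Nat.not_odd_iff_even]; exact ⟨d, by ring⟩)

theorem not_fixes_unitary [Fintype F] {p e : ℕ} (hp : p.Prime) [CharP F p] (hcard : Fintype.card F = p ^ e) (he : Odd e)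
    {P : Subgroup (GL ι F)} :
    ¬ ∃ (σ : F ≃+* F) (f : (ι → F) → (ι → F) → F), IsUnitaryForm σ f ∧ FixesForm (matrixSet P) f := by
  rintro ⟨σ, f, hf, -⟩
  exact hf.ne_refl (eq_refl_of_odd hp hcard he σ hf.involutive)

/-! ### Unitary groups -/

section GU

open Cfsg.Agent.H907

variable {n q : ℕ} {R : Subgroup (GL (Fin n) F)} {C : Coord R r k} {Y : Subgroup (GL (Fin n) F)}

theorem exists_ct_smul [Fintype F] (hF : Fintype.card F = q ^ 2) (habs : ActsAbsolutelyIrreducibly (matrixSet R))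
    (hRG : R ≤ GU n F q) {y : GL (Fin n) F} (hy : y ∈ subgroupNormalizer R) :
    ∃ c : F, ct q (y : Matrix (Fin n) (Fin n) F) * (y : Matrix (Fin n) (Fin n) F) = c • (1 : Matrix (Fin n) (Fin n) F) := by
  apply habs.2
  rintro _ ⟨x, hx, rfl⟩
  rw [subgroupNormalizer, Subgroup.mem_normalizer_iff] at hy
  have h1 := (mem_GU_iff_ct hF).1 (hRG ((hy x).1 hx))
  have h2 := (mem_GU_iff_ct hF).1 (hRG hx)
  -- `y x = x' y`
  have h3 : ((y * x * y⁻¹ : GL (Fin n) F) : Matrix (Fin n) (Fin n) F) * (y : Matrix (Fin n) (Fin n) F) =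
      (y : Matrix (Fin n) (Fin n) F) * (x : Matrix (Fin n) (Fin n) F) := by
    rw [← Units.val_mul, ← Units.val_mul]
    congr 1
    group
  show ct q (y : Matrix (Fin n) (Fin n) F) * (y : Matrix (Fin n) (Fin n) F) * (x : Matrix (Fin n) (Fin n) F) =
    (x : Matrix (Fin n) (Fin n) F) * (ct q (y : Matrix (Fin n) (Fin n) F) * (y : Matrix (Fin n) (Fin n) F))
  have h4 : ct q (x : Matrix (Fin n) (Fin n) F) * (ct q (y : Matrix (Fin n) (Fin n) F) *
      (y : Matrix (Fin n) (Fin n) F) * (x : Matrix (Fin n) (Fin n) F)) =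
      ct q (y : Matrix (Fin n) (Fin n) F) * (y : Matrix (Fin n) (Fin n) F) := by
    rw [Matrix.mul_assoc (ct q (y : Matrix (Fin n) (Fin n) F)), ← Matrix.mul_assoc (ct q (x : Matrix (Fin n) (Fin n) F)),
      ← ct_mul hF, ← h3, ct_mul hF, Matrix.mul_assoc, ← Matrix.mul_assoc (ct q _) _ (y : Matrix (Fin n) (Fin n) F), h1,
      Matrix.one_mul]
  have h5 : (x : Matrix (Fin n) (Fin n) F) * ct q (x : Matrix (Fin n) (Fin n) F) = 1 := by
    rw [mul_eq_one_comm]; exact h2
  calc ct q (y : Matrix (Fin n) (Fin n) F) * (y : Matrix (Fin n) (Fin n) F) * (x : Matrix (Fin n) (Fin n) F) =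
      ((x : Matrix (Fin n) (Fin n) F) * ct q (x : Matrix (Fin n) (Fin n) F)) *
        (ct q (y : Matrix (Fin n) (Fin n) F) * (y : Matrix (Fin n) (Fin n) F) * (x : Matrix (Fin n) (Fin n) F)) := by
        rw [h5, Matrix.one_mul]
    _ = _ := by rw [Matrix.mul_assoc, h4]

/-- `Y ≤ GU`. -/
theorem Coord.Core.le_GU [Fintype F] (hF : Fintype.card F = q ^ 2) (hn : 0 < n) (hY : C.Core Y)
    (habs : ActsAbsolutelyIrreducibly (matrixSet R)) (hRG : R ≤ GU n F q) : Y ≤ GU n F q := by
  have hne : Nonempty (Fin n) := ⟨⟨0, hn⟩⟩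
  choose! c hc using fun (y : GL (Fin n) F) (hy : y ∈ subgroupNormalizer R) => exists_ct_smul hF habs hRG hy
  have hc0 : ∀ y ∈ subgroupNormalizer R, c y ≠ 0 := by
    intro y hy h0
    have h1 := hc y hy
    rw [h0, zero_smul] at h1
    have h2 : ct q (y : Matrix (Fin n) (Fin n) F) = 0 := by
      have h3 := congrArg (fun M => M * ((y⁻¹ : GL (Fin n) F) : Matrix (Fin n) (Fin n) F)) h1
      simpa [Matrix.mul_assoc] using h3
    have h4 : (y : Matrix (Fin n) (Fin n) F) = 0 := by
      rw [← ct_ct hF (y : Matrix (Fin n) (Fin n) F), h2, ct_zero hF]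
    exact Units.ne_zero y h4
  have hmul : ∀ y ∈ subgroupNormalizer R, ∀ z ∈ subgroupNormalizer R, c (y * z) = c y * c z := by
    intro y hy z hz
    apply smul_one_injective (ι := Fin n)
    rw [← hc _ (Subgroup.mul_mem _ hy hz), Units.val_mul, ct_mul hF, Matrix.mul_assoc,
      ← Matrix.mul_assoc (ct q (y : Matrix (Fin n) (Fin n) F)), hc y hy, Matrix.smul_mul, Matrix.one_mul,
      Matrix.mul_smul, hc z hz, smul_smul]
  let f : Y →* Fˣ := MonoidHom.mk' (fun y => Units.mk0 (c y) (hc0 y (hY.le y.2))) (by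
    intro y z
    apply Units.ext
    exact hmul y (hY.le y.2) z (hY.le z.2))
  intro y hy
  rw [mem_GU_iff_ct hF, hc y (hY.le hy)]
  have h1 := perfect_map_eq_one hY.perfect f ⟨y, hy⟩
  have h2 : c y = 1 := congrArg Units.val h1
  rw [h2, one_smul]

theorem Coord.Core.le_SU [Fintype F] (hF : Fintype.card F = q ^ 2) (hn : 0 < n) (hY : C.Core Y)
    (habs : ActsAbsolutelyIrreducibly (matrixSet R)) (hRG : R ≤ GU n F q) : Y ≤ GU n F q ⊓ specialLinear (Fin n) F :=
  le_inf (hY.le_GU hF hn habs hRG) (perfect_le_specialLinear hY.perfect)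

end GU

end Cfsg.Agent.H920
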