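import Cfsg.Agent.H920.CsAbel
import Cfsg.Agent.H878.PStep
import Cfsg.Agent.H907.FieldAdj

/-!
# Maximality of the normaliser of a group of symplectic type, up to the almost simple overgroups (helper920)

* `Coord.false_of_transvection` : a transvection does not normalise `R` (dimension at least 5);
* `isMaximalIn_of` : the reduction to the almost simple overgroups;
* `not_realisable_of_minimal`, `not_fixes_symplectic`, `not_fixes_quadratic`, `not_fixes_unitary` : the properties of the
  overgroups of `R`;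
* `Coord.Core.le_GU` : `Y ≤ GU` if `R ≤ GU`.
-/

set_option autoImplicit false

namespace Cfsg.Agent.H920

open Cfsg Cfsg.Geo Matrix Cfsg.Agent.ClassicalGeometry.SympBasic

variable {ι : Type} [Fintype ι] [DecidableEq ι] {F : Type*} [Field F] {R : Subgroup (GL ι F)} {r k : ℕ}

/-- The fixed space of a non-scalar element of `R` has at most half the dimension. -/
theorem Coord.two_finrank_le [Fact r.Prime] (C : Coord R r k) {y : R} (hy : C.φ y ≠ 0) (W : Submodule F (ι → F))
    (hW : ∀ w ∈ W, ((y : GL ι F) : Matrix ι ι F) *ᵥ w = w) : 2 * Module.finrank F W ≤ Fintype.card ι := by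
  obtain ⟨w, hw⟩ := exists_form_eq_one hy
  obtain ⟨x, rfl⟩ := C.surj w
  have hc := C.comm x y
  rw [hw] at hc
  let T : (ι → F) →ₗ[F] (ι → F) := Matrix.toLin' ((x : GL ι F) : Matrix ι ι F)
  have hTinj : Function.Injective T := by
    intro u v huv
    have h1 := congrArg (fun z => (((x : GL ι F)⁻¹ : GL ι F) : Matrix ι ι F) *ᵥ z) huv
    simpa [T, Matrix.toLin'_apply, Matrix.mulVec_mulVec, ← Units.val_mul] using h1
  have h1 : Module.finrank F (W.map T) = Module.finrank F W :=
    (Submodule.equivMapOfInjective T hTinj W).finrank_eq.symm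
  have hdisj : Disjoint W (W.map T) := by
    rw [Submodule.disjoint_def]
    rintro u hu ⟨v, hv, rfl⟩
    have h2 := hW _ hu
    have h3 : T v = ((x : GL ι F) : Matrix ι ι F) *ᵥ v := Matrix.toLin'_apply _ _
    rw [h3] at h2 ⊢
    have h4 : ((x : GL ι F) : Matrix ι ι F) *ᵥ v = C.χ 1 • (((x : GL ι F) : Matrix ι ι F) *ᵥ v) := by
      have h5 : (((x : GL ι F) : Matrix ι ι F) * ((y : GL ι F) : Matrix ι ι F)) *ᵥ v =
          (C.χ 1 • (((y : GL ι F) : Matrix ι ι F) * ((x : GL ι F) : Matrix ι ι F))) *ᵥ v := by rw [hc]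
      rw [← Matrix.mulVec_mulVec, hW v hv, Matrix.smul_mulVec, ← Matrix.mulVec_mulVec, h2] at h5
      exact h5
    have h5 : C.χ 1 ≠ 1 := by
      intro h
      have : (1 : ZMod r) = 0 := C.inj (by rw [h, AddChar.map_zero_eq_one])
      exact one_ne_zero this
    have h6 : (1 - C.χ 1) • (((x : GL ι F) : Matrix ι ι F) *ᵥ v) = 0 := by
      rw [sub_smul, one_smul, ← h4, sub_self]
    exact (smul_eq_zero.1 h6).resolve_left (sub_ne_zero.2 h5.symm)
  have h2 : Module.finrank F ↥(W ⊔ W.map T) + Module.finrank F ↥(W ⊓ W.map T) =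
      Module.finrank F W + Module.finrank F (W.map T) := Submodule.finrank_sup_add_finrank_inf_eq _ _
  rw [hdisj.eq_bot, finrank_bot, add_zero, h1] at h2
  have h3 : Module.finrank F ↥(W ⊔ W.map T) ≤ Fintype.card ι := by
    have := Submodule.finrank_le (W ⊔ W.map T)
    rwa [Module.finrank_fintype_fun_eq_card] at this
  omega

/-- A transvection. -/
def IsTv (t : GL ι F) : Prop := ∃ u f : ι → F, u ≠ 0 ∧ f ≠ 0 ∧ (t : Matrix ι ι F) = 1 + Matrix.vecMulVec u f

theorem IsTv.mulVec {t : GL ι F} {u f : ι → F} (h : (t : Matrix ι ι F) = 1 + Matrix.vecMulVec u f) (v : ι → F) :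
    (t : Matrix ι ι F) *ᵥ v = v + (f ⬝ᵥ v) • u := by
  rw [h, Matrix.add_mulVec, Matrix.one_mulVec, Matrix.vecMulVec_mulVec]
  simp

theorem IsTv.inv_mulVec {t : GL ι F} {u f : ι → F} (h : (t : Matrix ι ι F) = 1 + Matrix.vecMulVec u f) {v : ι → F}
    (hv : f ⬝ᵥ v = 0) : ((t⁻¹ : GL ι F) : Matrix ι ι F) *ᵥ v = v := by
  have h1 : (t : Matrix ι ι F) *ᵥ v = v := by rw [IsTv.mulVec h, hv, zero_smul, add_zero]
  conv_lhs => rw [← h1]
  rw [Matrix.mulVec_mulVec, Units.inv_mul, Matrix.one_mulVec]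

/-- A transvection does not normalise `R`. -/
theorem Coord.false_of_transvection [Nonempty ι] [Fact r.Prime] (C : Coord R r k) (hn : 5 ≤ Fintype.card ι)
    (habs : ActsAbsolutelyIrreducibly (matrixSet R)) {t : GL ι F} (ht : IsTv t) (htN : t ∈ subgroupNormalizer R) :
    False := by
  classical
  obtain ⟨u, f, hu, hf, htuf⟩ := ht
  rw [subgroupNormalizer, Subgroup.mem_normalizer_iff] at htN
  -- the commutators fix a subspace of codimension at most 2
  have hcomm : ∀ x ∈ R, t * x = x * t := by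
    intro x hx
    let y : R := ⟨t * x * t⁻¹ * x⁻¹, R.mul_mem ((htN x).1 hx) (R.inv_mem hx)⟩
    let g : ι → F := fun i => (f ᵥ* ((x⁻¹ : GL ι F) : Matrix ι ι F)) i
    let φ₁ : (ι → F) →ₗ[F] F := { toFun := fun v => f ⬝ᵥ v, map_add' := fun a b => dotProduct_add _ _ _,
                                  map_smul' := fun c a => dotProduct_smul _ _ _ }
    let φ₂ : (ι → F) →ₗ[F] F := φ₁.comp (Matrix.toLin' ((x⁻¹ : GL ι F) : Matrix ι ι F))
    let W : Submodule F (ι → F) := LinearMap.ker (φ₁.prod φ₂)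
    have hWf : ∀ w ∈ W, f ⬝ᵥ w = 0 ∧ f ⬝ᵥ (((x⁻¹ : GL ι F) : Matrix ι ι F) *ᵥ w) = 0 := by
      intro w hw
      have hw' : (φ₁.prod φ₂) w = 0 := hw
      have h1 : φ₁ w = 0 := congrArg Prod.fst hw'
      have h2 : φ₂ w = 0 := congrArg Prod.snd hw'
      refine ⟨h1, ?_⟩
      rw [LinearMap.comp_apply, Matrix.toLin'_apply] at h2
      exact h2
    have hW : ∀ w ∈ W, ((y : GL ι F) : Matrix ι ι F) *ᵥ w = w := by
      intro w hw
      obtain ⟨h1, h2⟩ := hWf w hw
      show ((t * x * t⁻¹ * x⁻¹ : GL ι F) : Matrix ι ι F) *ᵥ w = w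
      rw [Units.val_mul, Units.val_mul, Units.val_mul, ← Matrix.mulVec_mulVec, ← Matrix.mulVec_mulVec,
        ← Matrix.mulVec_mulVec, IsTv.inv_mulVec htuf h2, Matrix.mulVec_mulVec _ (x : Matrix ι ι F), Units.mul_inv,
        Matrix.one_mulVec, IsTv.mulVec htuf, h1, zero_smul, add_zero]
    have hWdim : Fintype.card ι ≤ Module.finrank F W + 2 := by
      have h1 := LinearMap.finrank_range_add_finrank_ker (φ₁.prod φ₂)
      rw [Module.finrank_fintype_fun_eq_card] at h1
      have h2 : Module.finrank F (LinearMap.range (φ₁.prod φ₂)) ≤ 2 := by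
        have := Submodule.finrank_le (LinearMap.range (φ₁.prod φ₂))
        rwa [Module.finrank_prod, Module.finrank_self] at this
      have h3 : Module.finrank F W = Module.finrank F (LinearMap.ker (φ₁.prod φ₂)) := rfl
      omega
    have hy0 : C.φ y = 0 := by
      by_contra hne
      have := C.two_finrank_le hne W hW
      omega
    -- `y` is a scalar fixing a non-zero vector
    obtain ⟨c, hc⟩ := (mem_scalars_iff _).1 ((C.ker_iff y).1 hy0)
    have hWne : W ≠ ⊥ := by
      intro h
      rw [h, finrank_bot] at hWdim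
      omega
    obtain ⟨w, hw, hw0⟩ := Submodule.exists_mem_ne_zero_of_ne_bot hWne
    have h1 := hW w hw
    rw [hc, Matrix.smul_mulVec, Matrix.one_mulVec] at h1
    have h2 : (c : F) = 1 := by
      have h3 : ((c : F) - 1) • w = 0 := by rw [sub_smul, one_smul, h1, sub_self]
      exact sub_eq_zero.1 ((smul_eq_zero.1 h3).resolve_right hw0)
    have h3 : t * x * t⁻¹ * x⁻¹ = 1 := by
      apply Units.ext
      show ((y : GL ι F) : Matrix ι ι F) = _
      rw [hc, h2, one_smul, Units.val_one]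
    calc t * x = t * x * t⁻¹ * x⁻¹ * (x * t) := by group
      _ = x * t := by rw [h3, one_mul]
  have hts := mem_scalars_of_comm' habs hcomm
  obtain ⟨c, hc⟩ := (mem_scalars_iff _).1 hts
  -- a scalar transvection: the kernel of `f` is non-zero
  have h1 : ∀ v, (f ⬝ᵥ v) • u = ((c : F) - 1) • v := by
    intro v
    have h2 := IsTv.mulVec htuf v
    rw [hc, Matrix.smul_mulVec, Matrix.one_mulVec] at h2
    rw [sub_smul, one_smul, h2]; abel
  let φ₁ : (ι → F) →ₗ[F] F := { toFun := fun v => f ⬝ᵥ v, map_add' := fun a b => dotProduct_add _ _ _,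
                                map_smul' := fun c a => dotProduct_smul _ _ _ }
  have h2 := LinearMap.finrank_range_add_finrank_ker φ₁
  rw [Module.finrank_fintype_fun_eq_card] at h2
  have h3 : Module.finrank F (LinearMap.range φ₁) ≤ 1 := by
    have := Submodule.finrank_le (LinearMap.range φ₁)
    rwa [Module.finrank_self] at this
  have h4 : LinearMap.ker φ₁ ≠ ⊥ := by
    intro h
    rw [h, finrank_bot] at h2
    omega
  obtain ⟨w, hw, hw0⟩ := Submodule.exists_mem_ne_zero_of_ne_bot h4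
  have hfw : f ⬝ᵥ w = 0 := hw
  have h5 := h1 w
  rw [hfw, zero_smul] at h5
  have h6 : (c : F) - 1 = 0 := (smul_eq_zero.1 h5.symm).resolve_right hw0
  apply hf
  funext i
  have h7 := h1 (Pi.single i 1)
  rw [h6, zero_smul, dotProduct_single, mul_one] at h7
  exact (smul_eq_zero.1 h7).resolve_right hu

variable {C : Coord R r k} {Y : Subgroup (GL ι F)}

/-- **The reduction.** -/
theorem isMaximalIn_of [Finite F] [Nonempty ι] (hR : IsSymplecticTypeGroup r R)
    (habs : ActsAbsolutelyIrreducibly (matrixSet R)) (ht : IsType r k R) (h5 : 5 ≤ r ^ k)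
    (hY : C.Core Y) {K : Subgroup (GL ι F)} (hYK : Y ≤ K) (htv : ∃ t ∈ K, IsTv t)
    (hsch : ∀ P : Subgroup (GL ι F), IsSimpleGroup (H878.SQ P) → ¬ IsMulCommutative (H878.SQ P) →
      Schreier.Basic.Sch (H878.SQ P))
    (hD : ∀ X P : Subgroup (GL ι F), X ≤ K → H919.CoreNS X P → Y ≤ P → K ≤ P) :
    IsMaximalIn K (subgroupNormalizer R ⊓ K) := by
  have hp : Fact r.Prime := ⟨hR.prime⟩
  have hcard := card_of_type hR habs ht
  have hRY := hY.le_core hR habs ht h5
  refine ⟨lt_of_le_of_ne inf_le_right ?_, ?_⟩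
  · intro h
    obtain ⟨t, htK, ht'⟩ := htv
    rw [← h] at htK
    exact C.false_of_transvection (by rw [hcard]; exact h5) habs ht' htK.1
  · intro M hM hMK
    have hYM : Y ≤ M := (le_inf hY.le hYK).trans hM
    rcases hY.overgroup hR hRY habs ht h5 hYM with h | ⟨P, hP⟩
    · exact Or.inl (le_antisymm (le_inf h hMK) hM)
    · right
      have hYP : Y ≤ P := H878.perfect_le_core hP hYM hY.perfect (hsch P hP.simple hP.nonabelian)
      exact le_antisymm hMK ((hD M P hMK hP hYP).trans hP.le)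

end Cfsg.Agent.H920
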