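import Cfsg.Agent.H920.CsSpan
import Cfsg.Agent.H919.AschSplit

/-!
# Overgroups of the perfect part (helper920)

`Coord.Core.overgroup` : `Y ≤ X ≤ GL ι F`. Then `X ≤ N(R)`, or `X` has a normal perfect absolutely irreducible
subgroup which is simple modulo scalars (`H919.CoreNS X P`).
-/

set_option autoImplicit false

namespace Cfsg.Agent.H920

open Cfsg Cfsg.Geo Matrix Cfsg.Agent.ClassicalGeometry.SympBasic

variable {ι : Type} [Fintype ι] [DecidableEq ι] {F : Type*} [Field F] {R : Subgroup (GL ι F)} {r k : ℕ}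

/-- Invariant envelopes. -/
theorem conj_mem_adjoin {N : Subgroup (GL ι F)} {h : GL ι F} (hN : ∀ x ∈ N, h * x * h⁻¹ ∈ N) {M : Matrix ι ι F}
    (hM : M ∈ Algebra.adjoin F (matrixSet N)) :
    (h : Matrix ι ι F) * M * ((h⁻¹ : GL ι F) : Matrix ι ι F) ∈ Algebra.adjoin F (matrixSet N) := by
  have h1 : H919.conjAlg h M ∈ (Algebra.adjoin F (matrixSet N)).map
      (H919.conjAlg h : Matrix ι ι F →ₐ[F] Matrix ι ι F) := ⟨M, hM, rfl⟩
  rw [H919.map_adjoin_cj] at h1
  refine Algebra.adjoin_mono ?_ h1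
  rintro _ ⟨x, hx, rfl⟩
  obtain ⟨y, hy, rfl⟩ := hx
  exact ⟨h * y * h⁻¹, hN y hy, rfl⟩

theorem exists_notMem_scalars {N : Subgroup (GL ι F)} (hns : ¬ N ≤ scalars ι F) : ∃ g ∈ N, g ∉ scalars ι F :=
  SetLike.not_le_iff_exists.1 hns

variable {C : Coord R r k} {Y : Subgroup (GL ι F)}

theorem Coord.Core.absIrred_of_normalized [Finite F] [hp : Fact r.Prime] (hY : C.Core Y) (hRY : R ≤ Y)
    (habs : ActsAbsolutelyIrreducibly (matrixSet R)) {N : Subgroup (GL ι F)}
    (hN : ∀ h ∈ Y, ∀ x ∈ N, h * x * h⁻¹ ∈ N) (hns : ¬ N ≤ scalars ι F) :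
    ActsAbsolutelyIrreducibly (matrixSet N) := by
  rw [H919.absIrr_iff]
  obtain ⟨g, hg, hgs⟩ := exists_notMem_scalars hns
  have h1 : Subalgebra.toSubmodule (Algebra.adjoin F (matrixSet N)) = ⊤ := by
    refine hY.eq_top hRY habs (M := (g : Matrix ι ι F)) ?_ ?_ ?_ (ne_smul_one_of_notMem hgs)
    · intro h hh M hM
      exact conj_mem_adjoin (hN h hh) hM
    · exact Subalgebra.one_mem _
    · exact Algebra.subset_adjoin ⟨g, hg, rfl⟩
  rw [← Algebra.top_toSubmodule] at h1
  exact Subalgebra.toSubmodule_injective h1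

theorem pow_lt_aux {m t : ℕ} (hm : 2 ≤ m) (ht : 2 ≤ t) : t * m ^ 2 < (m ^ t) ^ 2 := by
  obtain ⟨s, rfl⟩ := Nat.exists_eq_add_of_le ht
  have h1 : ∀ s : ℕ, s + 2 < (m ^ 2) ^ (s + 1) := by
    intro s
    induction s with
    | zero => rw [zero_add, zero_add, pow_one]; nlinarith
    | succ s ih =>
      rw [pow_succ]
      have : 4 ≤ m ^ 2 := by nlinarith
      nlinarith
  have h2 : (m ^ (2 + s)) ^ 2 = (m ^ 2) ^ (s + 1) * m ^ 2 := by rw [← pow_mul, ← pow_mul, ← pow_add]; congr 1; ring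
  rw [h2]
  have h3 := h1 s
  have h4 : 0 < m ^ 2 := by positivity
  rw [add_comm 2 s]
  exact Nat.mul_lt_mul_of_pos_right h3 h4

/-- No tensor power decomposition. -/
theorem Coord.Core.not_wreath [Finite F] [hp : Fact r.Prime] (hY : C.Core Y) (hRY : R ≤ Y)
    (habs : ActsAbsolutelyIrreducibly (matrixSet R)) {X : Subgroup (GL ι F)} (hYX : Y ≤ X) {m t : ℕ}
    {e : ι ≃ (Fin t → Fin m)} {P : GL ι F} {E : Fin t → Subgroup (GL ι F)} (hw : H919.WreathData X m t e P E) :
    False := by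
  classical
  let i₀ : Fin t := ⟨0, by have := hw.two_le_t; omega⟩
  set U : Submodule F (Matrix ι ι F) := ⨆ i, Subalgebra.toSubmodule (Algebra.adjoin F (matrixSet (E i))) with hU
  obtain ⟨g, hg, hgs⟩ := exists_notMem_scalars (hw.not_scalar i₀)
  have htop : U = ⊤ := by
    refine hY.eq_top hRY habs (M := (g : Matrix ι ι F)) ?_ ?_ ?_ (ne_smul_one_of_notMem hgs)
    · intro h hh M hM
      obtain ⟨σ, hσ⟩ := hw.permuted h (hYX hh)
      have h1 : H919.conjAlg h M ∈ U.map (H919.conjAlg h : Matrix ι ι F →ₐ[F] Matrix ι ι F).toLinearMap :=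
        ⟨M, hM, rfl⟩
      have h2 : U.map (H919.conjAlg h : Matrix ι ι F →ₐ[F] Matrix ι ι F).toLinearMap ≤ U := by
        rw [hU, Submodule.map_iSup]
        apply iSup_le
        intro i
        refine le_trans ?_ (le_iSup _ (σ i))
        rw [← hσ i]
        change _ ≤ Subalgebra.toSubmodule (Algebra.adjoin F (matrixSet (H919.cj h (E i))))
        rw [← H919.map_adjoin_cj]
        rfl
      exact h2 h1
    · exact (le_iSup (fun i => Subalgebra.toSubmodule (Algebra.adjoin F (matrixSet (E i)))) i₀)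
        (Subalgebra.one_mem _)
    · exact (le_iSup (fun i => Subalgebra.toSubmodule (Algebra.adjoin F (matrixSet (E i)))) i₀)
        (Algebra.subset_adjoin ⟨g, hg, rfl⟩)
  let Φ : Matrix (Fin t → Fin m) (Fin t → Fin m) F →ₗ[F] Matrix ι ι F :=
    ((H919.conjAlg P : Matrix ι ι F →ₐ[F] Matrix ι ι F).comp
      (Matrix.reindexAlgEquiv F F e.symm : Matrix (Fin t → Fin m) (Fin t → Fin m) F →ₐ[F] Matrix ι ι F)).toLinearMap
  have hΦ : ∀ A, Φ A = H919.frameMat e P A := fun A => rfl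
  let L : (Fin t → Matrix (Fin m) (Fin m) F) →ₗ[F] Matrix ι ι F :=
    ∑ i, (Φ.comp (H919.slotEmb (F := F) (m := m) i).toLinearMap).comp (LinearMap.proj i)
  have hL : ∀ i (x : Matrix (Fin m) (Fin m) F), L (Pi.single i x) = H919.frameMat e P (H919.slotMat i x) := by
    intro i x
    simp only [L, LinearMap.sum_apply, LinearMap.comp_apply, LinearMap.proj_apply]
    rw [Finset.sum_eq_single i]
    · rw [Pi.single_eq_same, hΦ]; rfl
    · intro j _ hj
      rw [Pi.single_eq_of_ne hj, map_zero, map_zero]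
    · intro h; exact absurd (Finset.mem_univ _) h
  have hrange : LinearMap.range L = ⊤ := by
    rw [eq_top_iff, ← htop, hU]
    apply iSup_le
    intro i A hA
    obtain ⟨x, rfl⟩ := (hw.env_iff i A).1 hA
    exact ⟨Pi.single i x, hL i x⟩
  have h1 : Module.finrank F (Matrix ι ι F) ≤ Module.finrank F (Fin t → Matrix (Fin m) (Fin m) F) :=
    LinearMap.finrank_le_finrank_of_surjective (LinearMap.range_eq_top.1 hrange)
  rw [Module.finrank_matrix, Module.finrank_pi_fintype] at h1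
  simp only [Module.finrank_matrix, Module.finrank_self, mul_one, Finset.sum_const, Finset.card_univ,
    Fintype.card_fin, smul_eq_mul] at h1
  have h2 : Fintype.card ι = m ^ t := by
    rw [Fintype.card_congr e, Fintype.card_fun, Fintype.card_fin, Fintype.card_fin]
  rw [h2] at h1
  have := pow_lt_aux hw.two_le_m hw.two_le_t
  nlinarith

end Cfsg.Agent.H920
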