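import Cfsg.Agent.H920.CsMem

/-!
# Subspaces of the matrix algebra invariant under a group of symplectic type (helper920)

`C.sec v` : an element of `R` with coordinates `v`.
* `Coord.exists_expansion` : the matrices `C.sec v` span;
* `Coord.sec_mem_of_sum` : a subspace invariant under conjugation by `R` is spanned by the `C.sec v` it contains;
* `Coord.Core.sec_mem` : a subspace invariant under conjugation by `Y` containing a non-scalar contains all `C.sec v`,
  `v ≠ 0`;
* `Coord.Core.absIrred_of_normalized` : a non-scalar subgroup normalised by `Y` is absolutely irreducible.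
-/

set_option autoImplicit false

namespace Cfsg.Agent.H920

open Cfsg Cfsg.Geo Matrix Cfsg.Agent.ClassicalGeometry.SympBasic

variable {ι : Type} [Fintype ι] [DecidableEq ι] {F : Type*} [Field F] {R : Subgroup (GL ι F)} {r k : ℕ}

theorem Coord.isPrimitiveRoot [hp : Fact r.Prime] (C : Coord R r k) : IsPrimitiveRoot (C.χ 1) r := by
  have h1 : C.χ 1 ^ r = 1 := by
    rw [← AddChar.map_nsmul_eq_pow, nsmul_eq_mul, ZMod.natCast_self, zero_mul, AddChar.map_zero_eq_one]
  have h2 : C.χ 1 ≠ 1 := by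
    intro h
    have : (1 : ZMod r) = 0 := C.inj (by rw [h, AddChar.map_zero_eq_one])
    exact one_ne_zero this
  have h3 := IsPrimitiveRoot.orderOf (C.χ 1)
  rwa [orderOf_eq_prime h1 h2] at h3

theorem Coord.natCast_ne_zero [hp : Fact r.Prime] (C : Coord R r k) : (r : F) ≠ 0 := by
  have : NeZero r := ⟨hp.out.ne_zero⟩
  exact (C.isPrimitiveRoot.neZero').out

/-- A section. -/
noncomputable def Coord.sec (C : Coord R r k) (v : Vec r k) : R := (C.surj v).choose

theorem Coord.φ_sec (C : Coord R r k) (v : Vec r k) : C.φ (C.sec v) = v := (C.surj v).choose_spec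

theorem Coord.exists_smul (C : Coord R r k) {x y : R} (h : C.φ x = C.φ y) :
    ∃ c : F, c ≠ 0 ∧ ((y : GL ι F) : Matrix ι ι F) = c • ((x : GL ι F) : Matrix ι ι F) := by
  rw [C.φ_eq_iff] at h
  obtain ⟨c, hc⟩ := (mem_scalars_iff _).1 h
  refine ⟨c, c.ne_zero, ?_⟩
  have h3 : (y : GL ι F) = x * ((x⁻¹ * y : R) : GL ι F) := by
    rw [Subgroup.coe_mul, Subgroup.coe_inv]; group
  rw [h3, Units.val_mul, hc, Matrix.mul_smul, Matrix.mul_one]

theorem Coord.exists_expansion [hp : Fact r.Prime] (C : Coord R r k) (habs : ActsAbsolutelyIrreducibly (matrixSet R))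
    (M : Matrix ι ι F) : ∃ c : Vec r k → F, ∑ v, c v • ((C.sec v : GL ι F) : Matrix ι ι F) = M := by
  rw [← Submodule.mem_span_range_iff_exists_fun]
  have h1 : Submodule.span F (matrixSet R) ≤
      Submodule.span F (Set.range fun v : Vec r k => ((C.sec v : GL ι F) : Matrix ι ι F)) := by
    rw [Submodule.span_le]
    rintro _ ⟨x, hx, rfl⟩
    obtain ⟨c, -, hc⟩ := C.exists_smul (x := C.sec (C.φ ⟨x, hx⟩)) (y := ⟨x, hx⟩) (C.φ_sec _)
    show (x : Matrix ι ι F) ∈ _
    have hc' : (x : Matrix ι ι F) = c • ((C.sec (C.φ ⟨x, hx⟩) : GL ι F) : Matrix ι ι F) := hc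
    rw [hc']
    exact Submodule.smul_mem _ _ (Submodule.subset_span ⟨_, rfl⟩)
  rw [span_eq_top habs] at h1
  exact h1 Submodule.mem_top

theorem sum_char [hp : Fact r.Prime] (C : Coord R r k) (u : Vec r k) :
    ∑ w : Vec r k, C.χ (sympForm k (ZMod r) w u) = if u = 0 then ((r : F) ^ (2 * k)) else 0 := by
  classical
  let f : Vec r k →+ ZMod r := AddMonoidHom.mk' (fun w => sympForm k (ZMod r) w u)
    (fun a b => sympForm_add_left _ _ _)
  have h1 := AddChar.sum_eq_ite (C.χ.compAddMonoidHom f)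
  have h2 : ∑ w : Vec r k, C.χ (sympForm k (ZMod r) w u) = ∑ w, (C.χ.compAddMonoidHom f) w := rfl
  rw [h2, h1]
  by_cases hu : u = 0
  · subst hu
    rw [if_pos rfl, if_pos]
    · rw [card_vec]; push_cast; rfl
    · ext w
      change C.χ (sympForm k (ZMod r) w 0) = _
      rw [sympForm_zero_right, AddChar.map_zero_eq_one]
      rfl
  · rw [if_neg hu, if_neg]
    intro h
    obtain ⟨w, hw⟩ := exists_form_eq_one hu
    have h3 : (C.χ.compAddMonoidHom f) w = 1 := by rw [h]; rfl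
    have h4 : C.χ (sympForm k (ZMod r) w u) = 1 := h3
    rw [hw] at h4
    have : (1 : ZMod r) = 0 := C.inj (by rw [h4, AddChar.map_zero_eq_one])
    exact one_ne_zero this

/-- A subspace invariant under conjugation by `R` contains the components of its elements. -/
theorem Coord.sec_mem_of_sum [hp : Fact r.Prime] (C : Coord R r k) {U : Submodule F (Matrix ι ι F)}
    (hU : ∀ x ∈ R, ∀ M ∈ U, (x : Matrix ι ι F) * M * ((x⁻¹ : GL ι F) : Matrix ι ι F) ∈ U)
    {c : Vec r k → F} (h : ∑ v, c v • ((C.sec v : GL ι F) : Matrix ι ι F) ∈ U) {v₀ : Vec r k} (hv₀ : c v₀ ≠ 0) :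
    ((C.sec v₀ : GL ι F) : Matrix ι ι F) ∈ U := by
  classical
  have hr := C.natCast_ne_zero
  have hconj : ∀ w v : Vec r k, ((C.sec w : GL ι F) : Matrix ι ι F) * ((C.sec v : GL ι F) : Matrix ι ι F) *
      (((C.sec w : GL ι F)⁻¹ : GL ι F) : Matrix ι ι F) =
      C.χ (sympForm k (ZMod r) w v) • ((C.sec v : GL ι F) : Matrix ι ι F) := by
    intro w v
    rw [← Units.val_mul, ← Units.val_mul, C.conj_eq, C.φ_sec, C.φ_sec]
  have h1 : ∑ w : Vec r k, C.χ (-sympForm k (ZMod r) w v₀) • (((C.sec w : GL ι F) : Matrix ι ι F) *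
      (∑ v, c v • ((C.sec v : GL ι F) : Matrix ι ι F)) * (((C.sec w : GL ι F)⁻¹ : GL ι F) : Matrix ι ι F)) ∈ U :=
    Submodule.sum_mem _ fun w _ => Submodule.smul_mem _ _ (hU _ (C.sec w).2 _ h)
  have h2 : ∑ w : Vec r k, C.χ (-sympForm k (ZMod r) w v₀) • (((C.sec w : GL ι F) : Matrix ι ι F) *
      (∑ v, c v • ((C.sec v : GL ι F) : Matrix ι ι F)) * (((C.sec w : GL ι F)⁻¹ : GL ι F) : Matrix ι ι F)) =
      ((r : F) ^ (2 * k) * c v₀) • ((C.sec v₀ : GL ι F) : Matrix ι ι F) := by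
    calc _ = ∑ w : Vec r k, ∑ v : Vec r k, (c v * C.χ (sympForm k (ZMod r) w (v - v₀))) •
          ((C.sec v : GL ι F) : Matrix ι ι F) := by
          apply Finset.sum_congr rfl
          intro w _
          rw [Finset.mul_sum, Finset.sum_mul, Finset.smul_sum]
          apply Finset.sum_congr rfl
          intro v _
          rw [Matrix.mul_smul, Matrix.smul_mul, hconj, smul_smul, smul_smul, sub_eq_add_neg, sympForm_add_right,
            sympForm_neg_right, AddChar.map_add_eq_mul]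
          congr 1
          ring
      _ = ∑ v : Vec r k, (c v * ∑ w : Vec r k, C.χ (sympForm k (ZMod r) w (v - v₀))) •
          ((C.sec v : GL ι F) : Matrix ι ι F) := by
          rw [Finset.sum_comm]
          apply Finset.sum_congr rfl
          intro v _
          rw [← Finset.sum_smul, ← Finset.mul_sum]
      _ = _ := by
          rw [Finset.sum_eq_single v₀]
          · rw [sub_self, sum_char, if_pos rfl, mul_comm]
          · intro v _ hv
            rw [sum_char, if_neg (sub_ne_zero.2 hv), mul_zero, zero_smul]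
          · intro h; exact absurd (Finset.mem_univ _) h
  rw [h2] at h1
  have h3 : (r : F) ^ (2 * k) * c v₀ ≠ 0 := mul_ne_zero (pow_ne_zero _ hr) hv₀
  have h4 := Submodule.smul_mem U ((r : F) ^ (2 * k) * c v₀)⁻¹ h1
  rwa [smul_smul, inv_mul_cancel₀ h3, one_smul] at h4

/-- A non-scalar has a non-zero component outside `0`. -/
theorem Coord.exists_sec_mem [hp : Fact r.Prime] (C : Coord R r k) (habs : ActsAbsolutelyIrreducibly (matrixSet R))
    {U : Submodule F (Matrix ι ι F)}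
    (hU : ∀ x ∈ R, ∀ M ∈ U, (x : Matrix ι ι F) * M * ((x⁻¹ : GL ι F) : Matrix ι ι F) ∈ U)
    {M : Matrix ι ι F} (hM : M ∈ U) (hns : ∀ c : F, M ≠ c • (1 : Matrix ι ι F)) :
    ∃ v : Vec r k, v ≠ 0 ∧ ((C.sec v : GL ι F) : Matrix ι ι F) ∈ U := by
  classical
  obtain ⟨c, hc⟩ := C.exists_expansion habs M
  by_contra hcon
  push Not at hcon
  have h0 : ∀ v, v ≠ 0 → c v = 0 := by
    intro v hv
    by_contra hcv
    exact hcon v hv (C.sec_mem_of_sum hU (by rw [hc]; exact hM) hcv)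
  rw [Finset.sum_eq_single (0 : Vec r k) (fun v _ hv => by rw [h0 v hv, zero_smul])
    (fun h => absurd (Finset.mem_univ _) h)] at hc
  obtain ⟨d, hd⟩ := (mem_scalars_iff _).1 ((C.ker_iff _).1 (C.φ_sec 0))
  apply hns (c 0 * d)
  rw [← hc, hd, smul_smul]

variable {C : Coord R r k} {Y : Subgroup (GL ι F)}

/-- Invariant subspaces under `Y`. -/
theorem Coord.Core.sec_mem [hp : Fact r.Prime] (hY : C.Core Y) (hRY : R ≤ Y)
    (habs : ActsAbsolutelyIrreducibly (matrixSet R)) {U : Submodule F (Matrix ι ι F)}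
    (hU : ∀ x ∈ Y, ∀ M ∈ U, (x : Matrix ι ι F) * M * ((x⁻¹ : GL ι F) : Matrix ι ι F) ∈ U)
    {M : Matrix ι ι F} (hM : M ∈ U) (hns : ∀ c : F, M ≠ c • (1 : Matrix ι ι F)) {w : Vec r k} (hw : w ≠ 0) :
    ((C.sec w : GL ι F) : Matrix ι ι F) ∈ U := by
  obtain ⟨v, hv, hvU⟩ := C.exists_sec_mem habs (fun x hx => hU x (hRY hx)) hM hns
  obtain ⟨g, hg, y, h1, h2⟩ := hY.trans (x := C.sec v) (x' := C.sec w) (by rw [C.φ_sec]; exact hv)
    (by rw [C.φ_sec]; exact hw)
  have h3 := hU g hg _ hvU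
  rw [← Units.val_mul, ← Units.val_mul, h1] at h3
  obtain ⟨c, -, hc⟩ := C.exists_smul h2
  rw [hc]
  exact Submodule.smul_mem _ _ h3

/-- If moreover `1 ∈ U` then `U = ⊤`. -/
theorem Coord.Core.eq_top [hp : Fact r.Prime] (hY : C.Core Y) (hRY : R ≤ Y)
    (habs : ActsAbsolutelyIrreducibly (matrixSet R)) {U : Submodule F (Matrix ι ι F)}
    (hU : ∀ x ∈ Y, ∀ M ∈ U, (x : Matrix ι ι F) * M * ((x⁻¹ : GL ι F) : Matrix ι ι F) ∈ U)
    (h1 : (1 : Matrix ι ι F) ∈ U)
    {M : Matrix ι ι F} (hM : M ∈ U) (hns : ∀ c : F, M ≠ c • (1 : Matrix ι ι F)) : U = ⊤ := by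
  classical
  rw [eq_top_iff]
  intro A _
  obtain ⟨c, rfl⟩ := C.exists_expansion habs A
  refine Submodule.sum_mem _ fun v _ => Submodule.smul_mem _ _ ?_
  by_cases hv : v = 0
  · subst hv
    obtain ⟨d, hd⟩ := (mem_scalars_iff _).1 ((C.ker_iff _).1 (C.φ_sec 0))
    rw [hd]
    exact Submodule.smul_mem _ _ h1
  · exact hY.sec_mem hRY habs hU hM hns hv

theorem ne_smul_one_of_notMem {g : GL ι F} (hg : g ∉ scalars ι F) (c : F) :
    (g : Matrix ι ι F) ≠ c • (1 : Matrix ι ι F) := fun h => hg (mem_scalars_of_val h)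

end Cfsg.Agent.H920
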