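import Cfsg.Agent.H921.SporFi

/-!
# A configuration at the prime 2 in `Fi₂₄'` : the certificate (helper920)

Words in the Weyl group of type `E₇`. `ths` is the reflection in the highest root `θ`; `u w = w T w⁻¹` where `T`
commutes with the letters `1, …, 6` and with `ths`.
-/

set_option autoImplicit false
set_option maxRecDepth 100000

namespace Cfsg.Agent.H920.FiTwo

open Cfsg.Agent.H921.Spor.Cox Cfsg.Agent.ChevalleyStructure.WeylData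

/-- the reflection in the highest root -/
def ths : List ℕ := [0, 2, 3, 4, 5, 1, 3, 4, 2, 3, 0, 2, 1, 3, 4, 5, 6, 5, 4, 3, 2, 1, 3, 4, 5, 0, 2, 3, 4, 1, 3, 2, 0]

/-- expansion of a word in the letters `1, …, 6` and `7` (the reflection `ths`) -/
def ex : List ℕ → List ℕ
  | [] => []
  | a :: l => if a = 7 then ths ++ ex l else a :: ex l

/-- the words carrying the highest root to the simple roots -/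
def W : List (List ℕ) := [[2, 3, 4, 5, 6, 1, 3, 4, 5, 2, 3, 4, 1, 3, 2, 0], [3, 4, 5, 6, 2, 3, 4, 5, 0, 2, 3, 4, 1, 3, 2, 0], [3, 4, 5, 6, 1, 3, 4, 5, 0, 2, 3, 4, 1, 3, 2, 0], [4, 5, 6, 2, 1, 3, 4, 5, 0, 2, 3, 4, 1, 3, 2, 0], [5, 6, 3, 2, 1, 3, 4, 5, 0, 2, 3, 4, 1, 3, 2, 0], [6, 4, 3, 2, 1, 3, 4, 5, 0, 2, 3, 4, 1, 3, 2, 0], [5, 4, 3, 2, 1, 3, 4, 5, 0, 2, 3, 4, 1, 3, 2, 0]]

/-- `w' = w * (ex l)` -/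
def same (w w' l : List ℕ) : Bool :=
  (l.all fun a => Nat.ble 1 a && Nat.ble a 7) && (eqW certE7 w' (w ++ ex l))

/-- adjacent pairs -/
def DA : List (ℕ × ℕ × List ℕ × List ℕ × List ℕ × List ℕ) := [(0, 2, [2, 3, 4, 5, 6, 1, 3, 4, 5, 2, 3, 0, 2, 1, 3, 4, 3, 2, 1, 3, 0, 2], [2, 3, 4, 1, 3, 2], [7, 2, 3, 4, 1, 3, 2], [7, 2, 3, 4, 1, 3, 2]),
  (1, 3, [3, 4, 5, 6, 2, 3, 0, 2, 1, 3, 4, 5, 3, 2, 1, 3, 4, 3, 2, 1, 3, 0, 2], [2, 3, 4, 5, 1, 3, 4], [7, 2, 3, 4, 5, 1, 3, 4], [7, 2, 3, 4, 5, 1, 3, 4]),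
  (2, 0, [3, 0, 2, 1, 3, 4, 5, 6, 3, 2, 1, 3, 4, 5, 3, 2, 1, 3, 4, 3, 2, 1, 3, 0, 2], [2, 3, 4, 5, 6, 1, 3, 4, 5], [7, 2, 3, 4, 5, 6, 1, 3, 4, 5], [7, 2, 3, 4, 5, 6, 1, 3, 4, 5]),
  (2, 3, [3, 4, 5, 6, 0, 2, 1, 3, 4, 5, 2, 3, 0, 2, 1, 3, 4, 3, 2, 1, 3, 0, 2], [2, 3, 4, 5, 1, 3, 2], [7, 2, 3, 4, 5, 1, 3, 2], [7, 2, 3, 4, 5, 1, 3, 2]),
  (3, 1, [2, 1, 3, 4, 5, 6, 0, 2, 3, 4, 5, 2, 3, 0, 2, 1, 3, 4, 3, 2, 1, 3, 0, 2], [2, 3, 4, 5, 6, 1, 3, 2], [7, 2, 3, 4, 5, 6, 1, 3, 2], [7, 2, 3, 4, 5, 6, 1, 3, 2]),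
  (3, 2, [2, 1, 3, 4, 5, 6, 3, 0, 2, 1, 3, 4, 5, 3, 2, 1, 3, 4, 3, 2, 1, 3, 0, 2], [2, 3, 4, 5, 6, 1, 3, 4], [7, 2, 3, 4, 5, 6, 1, 3, 4], [7, 2, 3, 4, 5, 6, 1, 3, 4]),
  (3, 4, [4, 5, 6, 2, 3, 0, 2, 1, 3, 4, 5, 2, 3, 0, 2, 1, 3, 4, 3, 2, 1, 3, 0, 2], [2, 3, 4, 5, 1, 3, 4, 2], [7, 2, 3, 4, 5, 1, 3, 4, 2], [7, 2, 3, 4, 5, 1, 3, 4, 2]),
  (4, 3, [3, 2, 1, 3, 4, 5, 6, 0, 2, 3, 4, 5, 3, 2, 1, 3, 4, 3, 2, 1, 3, 0, 2], [2, 3, 4, 5, 6, 1, 3], [7, 2, 3, 4, 5, 6, 1, 3], [7, 2, 3, 4, 5, 6, 1, 3]),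
  (4, 5, [5, 6, 3, 4, 2, 3, 0, 2, 1, 3, 4, 5, 2, 3, 0, 2, 1, 3, 4, 3, 2, 1, 3, 0, 2], [2, 3, 4, 5, 1, 3, 4, 2, 3], [7, 2, 3, 4, 5, 1, 3, 4, 2, 3], [7, 2, 3, 4, 5, 1, 3, 4, 2, 3]),
  (5, 4, [4, 3, 2, 1, 3, 4, 5, 6, 0, 2, 3, 4, 5, 1, 3, 4, 3, 2, 1, 3, 0, 2], [2, 3, 4, 5, 6, 1], [7, 2, 3, 4, 5, 6, 1], [7, 2, 3, 4, 5, 6, 1]),
  (5, 6, [6, 4, 5, 3, 4, 2, 3, 0, 2, 1, 3, 4, 5, 2, 3, 0, 2, 1, 3, 4, 3, 2, 1, 3, 0, 2], [2, 3, 4, 5, 1, 3, 4, 2, 3, 1], [7, 2, 3, 4, 5, 1, 3, 4, 2, 3, 1], [7, 2, 3, 4, 5, 1, 3, 4, 2, 3, 1]),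
  (6, 5, [5, 4, 3, 2, 1, 3, 4, 5, 6, 0, 2, 3, 4, 5, 1, 3, 4, 2, 3, 0, 2], [2, 3, 4, 5, 6], [7, 2, 3, 4, 5, 6], [7, 2, 3, 4, 5, 6])]

/-- orthogonal pairs -/
def DO : List (ℕ × ℕ × List ℕ × List ℕ × List ℕ) := [(0, 1, [3, 2, 1, 3, 4, 5, 6, 3, 2, 1, 3, 4, 5, 3, 2, 1, 3, 4, 1, 3, 2, 0], [4, 5, 6, 3, 4, 5], [5, 6, 4, 3, 2, 1, 3, 4]),
  (0, 3, [2, 3, 4, 5, 6, 3, 2, 1, 3, 4, 5, 3, 2, 1, 3, 4, 1, 3, 2, 0], [4, 5, 3, 4], [5, 6, 4, 3, 2, 1, 3, 4]),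
  (0, 4, [2, 3, 4, 5, 6, 1, 3, 4, 5, 3, 2, 1, 3, 4, 1, 3, 2, 0], [4, 3], [5, 6, 4, 3, 2, 1, 3, 4]),
  (0, 5, [2, 3, 4, 5, 6, 1, 3, 4, 5, 2, 3, 4, 1, 3, 2, 0], [], [5, 6, 4, 3, 2, 1, 3, 4]),
  (0, 6, [2, 3, 4, 5, 6, 1, 3, 4, 5, 2, 3, 4, 2, 1, 3, 2, 1, 0], [1, 3], [5, 6, 4, 3, 2, 1, 3, 4]),
  (1, 2, [0, 2, 3, 4, 5, 6, 2, 3, 0, 2, 1, 3, 4, 5, 3, 2, 1, 3, 4, 3, 2, 0], [4, 5, 6, 3, 4, 5], [5, 4, 3, 2, 1, 3, 4, 5]),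
  (1, 4, [3, 4, 5, 6, 2, 3, 4, 5, 0, 2, 3, 4, 2, 1, 3, 0, 2, 0], [2, 3], [5, 6, 4, 5, 3, 4, 1, 3]),
  (1, 5, [3, 4, 5, 6, 2, 3, 4, 5, 0, 2, 3, 4, 1, 3, 2, 0], [], [5, 6, 4, 5, 3, 4, 1, 3]),
  (1, 6, [3, 4, 5, 6, 2, 3, 4, 5, 0, 2, 3, 4, 2, 1, 3, 2, 1, 0], [1, 3], [5, 6, 4, 5, 3, 4, 1, 3]),
  (2, 4, [3, 4, 5, 6, 1, 3, 4, 5, 3, 0, 2, 1, 3, 4, 1, 3, 2, 0], [4, 3], [5, 6, 4, 5, 3, 2, 1, 3]),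
  (2, 5, [3, 4, 5, 6, 1, 3, 4, 5, 0, 2, 3, 4, 1, 3, 2, 0], [], [5, 6, 4, 5, 3, 2, 1, 3]),
  (2, 6, [3, 4, 5, 6, 1, 3, 4, 5, 0, 2, 3, 4, 2, 1, 3, 2, 1, 0], [1, 3], [5, 6, 4, 5, 3, 2, 1, 3]),
  (3, 5, [4, 5, 6, 2, 1, 3, 4, 5, 0, 2, 3, 4, 1, 3, 2, 0], [], [5, 6, 4, 5, 3, 4, 2, 1]),
  (3, 6, [4, 5, 6, 2, 1, 3, 4, 5, 0, 2, 3, 4, 2, 1, 3, 2, 1, 0], [1, 3], [5, 6, 4, 5, 3, 4, 2, 1]),
  (4, 6, [5, 6, 3, 2, 1, 3, 4, 5, 0, 2, 3, 4, 2, 1, 3, 2, 1, 0], [1, 3], [5, 6, 4, 5, 3, 4, 2, 3])]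

/-- `s_j` fixes the `i`-th simple root up to sign -/
def DC : List (ℕ × ℕ × List ℕ) := [(0, 0, [7]), (1, 0, [6]), (3, 0, [5]), (4, 0, [4]), (5, 0, [3]), (6, 0, [1]), (0, 1, [5]), (1, 1, [7]), (2, 1, [6]), (4, 1, [2]), (5, 1, [3]), (6, 1, [1]), (1, 2, [6]), (2, 2, [7]), (4, 2, [4]), (5, 2, [3]), (6, 2, [1]), (0, 3, [5]), (3, 3, [7]), (5, 3, [3]), (6, 3, [1]), (0, 4, [5]), (1, 4, [2]), (2, 4, [4]), (4, 4, [7]), (6, 4, [1]), (0, 5, [5]), (1, 5, [2]), (2, 5, [4]), (3, 5, [3]), (5, 5, [7]), (0, 6, [5]), (1, 6, [2]), (2, 6, [4]), (3, 6, [3]), (4, 6, [1]), (6, 6, [7])]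


theorem checkDA : (DA.all fun e => same e.2.2.1 (W.getD e.1 []) e.2.2.2.1 && (same (e.2.2.1 ++ [0]) (W.getD e.2.1 []) e.2.2.2.2.1 &&
    same (e.2.2.1 ++ (ths ++ [0])) (e.2.1 :: W.getD e.1 []) e.2.2.2.2.2)) = true := by decide +kernel

theorem checkDO : (DO.all fun e => same e.2.2.1 (W.getD e.1 []) e.2.2.2.1 &&
    same (e.2.2.1 ++ W.getD 3 []) (W.getD e.2.1 []) e.2.2.2.2) = true := by decide +kernel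

theorem checkDC : (DC.all fun e => same (W.getD e.2.1 []) (e.1 :: W.getD e.2.1 []) e.2.2) = true := by decide +kernel


theorem check0 : same ([2, 3, 0, 2, 0] ++ (ths ++ [0])) (W.getD 3 []) [2, 3, 4, 5, 6, 1, 3, 4, 5, 2, 3, 4, 1, 3, 2] = true := by decide +kernel

theorem check1 : same ([3, 2] ++ [0]) [2, 3, 0, 2, 0] [3, 2] = true := by decide +kernel

theorem check2 : same ([2] ++ [0]) ([2, 3, 0, 2, 0] ++ [0]) [3, 2] = true := by decide +kernel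

theorem check3 : (((List.range 7).drop 1).all fun a => eqW certE7 (a :: ths) (ths ++ [a])) = true := by decide +kernel

theorem check4 : eqW certE7 (ths ++ ths) [] = true := by decide +kernel

theorem check5 : eqW certE7 ths (rp [6, 5, 4, 3, 2, 0, 1] 9 ++ rp [6, 5, 4, 3, 2, 1] 5) = true := by decide +kernel

theorem check6 : eqW certE7 (ths ++ [0] ++ ths) ([0] ++ ths ++ [0]) = true := by decide +kernel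

/-- conjugating words -/
def SW : List (List ℕ) :=
  [[6, 0, 2, 0, 3, 0, 2, 4, 3, 5], [3, 1, 2, 5, 3, 6], [5, 5, 1, 2, 5, 5, 3, 2, 1, 4], [1, 6, 3, 0, 4, 3], [5, 2, 6, 4, 0, 1, 3, 1, 0, 5], [3, 5, 1, 4, 3, 1], [0, 4, 2, 3, 1, 1, 1, 5, 6, 6], [6, 5, 4, 3, 5, 2, 0, 2, 3, 1], [1, 4, 6, 3, 1, 4], [6, 2, 6, 3, 2, 6, 4, 1, 3, 4]].flatMap fun r => (List.range 7).map fun i => r ++ rp [2, 3, 0, 4, 5, 6] i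

/-- neighbours as a mask -/
def nb (a : ℕ) : ℕ := [4, 8, 9, 22, 40, 80, 32].getD a 0

/-- the action on functionals -/
def step (m a : ℕ) : ℕ := bif m.testBit a then m ^^^ nb a else m

theorem checkS : ((List.range 128).all fun m => !(m.testBit 2) ||
    Nat.ble 28 (Cfsg.Agent.H921.Spor.cnt (SW.map fun w => w.foldl step m))) = true := by decide +kernel

theorem checkSW : (SW.all fun w => lt 7 w && Nat.beq (w.length % 2) 0) = true := by decide +kernel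

end Cfsg.Agent.H920.FiTwo
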