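import Cfsg.Agent.H920.PlusC
import Cfsg.Agent.H926.EvenA
import Cfsg.Agent.H922.OddPerp

/-!
# Reducible maximal subgroups in even dimension: small fields
-/

set_option autoImplicit false

namespace Cfsg.Agent.H920

open QuadraticMap Matrix Cfsg Cfsg.Geo
open Cfsg.Agent.H919 (HermForm WreathData)

variable {ι : Type} [Fintype ι] [DecidableEq ι] {F : Type*} [Field F]

/-- Over the field with two elements a nondegenerate plane of plus type has a unique nonsingular vector. -/
theorem exists_unique_nonsingular [Fintype F] (h2 : Fintype.card F = 2) {Q : (ι → F) → F}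
    (hQ : IsNondegenerateQuadraticForm Q) {W : Submodule F (ι → F)} (hW : IsNondegenerateOn (polar Q) W)
    (hdim : Module.finrank F W = 2) (hplus : IsPlusTypeOn Q W) :
    ∃ v ∈ W, Q v ≠ 0 ∧ ∀ w ∈ W, Q w ≠ 0 → w = v := by
  obtain ⟨U, hUW, hU, hU2⟩ := hplus
  have hU1 : Module.finrank F U = 1 := by omega
  obtain ⟨⟨e, heU⟩, he0, -⟩ := finrank_eq_one_iff'.1 hU1
  have he0' : e ≠ 0 := fun h => he0 (Subtype.ext h)
  have heW := hUW heU
  have hQe : Q e = 0 := hU e heU
  obtain ⟨x, hxW, hx⟩ := (hW e heW he0').2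
  have hx1 : polar Q e x = 1 := (H932.eq_zero_or_one h2 _).resolve_left hx
  have h20 : (2 : F) = 0 := by
    have := FiniteField.cast_card_eq_zero F
    rw [h2] at this
    exact_mod_cast this
  -- `e, x` span `W`
  have hspan : ∀ w ∈ W, ∃ a b : F, w = a • e + b • x := by
    have hli : LinearIndependent F ![(⟨e, heW⟩ : W), ⟨x, hxW⟩] := by
      rw [LinearIndependent.pair_iff]
      intro a b hab
      have h3 : a • e + b • x = 0 := congrArg Subtype.val hab
      have h4 : b = 0 := by
        have h5 : polar Q e (a • e + b • x) = b := by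
          rw [hQ.polar_bilinear.add_right, hQ.polar_bilinear.smul_right, hQ.polar_bilinear.smul_right,
            H925.polar_self hQ, hQe, hx1]; ring
        rw [h3] at h5
        have h6 : polar Q e 0 = 0 := by
          have := hQ.polar_bilinear.smul_right 0 e e
          rwa [zero_smul, zero_mul] at this
        rw [← h5, h6]
      rw [h4, zero_smul, add_zero] at h3
      exact ⟨(smul_eq_zero.1 h3).resolve_right he0', h4⟩
    have htop := hli.span_eq_top_of_card_eq_finrank' (by rw [Fintype.card_fin, hdim])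
    intro w hw
    have h3 : (⟨w, hw⟩ : W) ∈ Submodule.span F (Set.range ![(⟨e, heW⟩ : W), ⟨x, hxW⟩]) := by
      rw [htop]; trivial
    rw [Matrix.range_cons, Matrix.range_cons, Matrix.range_empty, Set.union_empty, Set.singleton_union,
      Submodule.mem_span_pair] at h3
    obtain ⟨a, b, hab⟩ := h3
    exact ⟨a, b, (congrArg Subtype.val hab).symm⟩
  have hval : ∀ a b : F, Q (a • e + b • x) = b ^ 2 * Q x + a * b := by
    intro a b
    rw [H925.Q_add' hQ, hQ.smul, hQ.smul, hQe, hQ.polar_bilinear.smul_left, hQ.polar_bilinear.smul_right, hx1]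
    ring
  have h11 : (1 : F) + 1 = 0 := by rw [one_add_one_eq_two]; exact h20
  rcases H932.eq_zero_or_one h2 (Q x) with hqx | hqx
  · refine ⟨(1 : F) • e + (1 : F) • x, W.add_mem (W.smul_mem _ heW) (W.smul_mem _ hxW), ?_, ?_⟩
    · rw [hval, hqx]; simp
    · intro w hw hw0
      obtain ⟨a, b, rfl⟩ := hspan w hw
      rw [hval, hqx] at hw0
      rcases H932.eq_zero_or_one h2 a with rfl | rfl <;> rcases H932.eq_zero_or_one h2 b with rfl | rfl <;>
        simp at hw0 ⊢
  · refine ⟨(0 : F) • e + (1 : F) • x, W.add_mem (W.smul_mem _ heW) (W.smul_mem _ hxW), ?_, ?_⟩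
    · rw [hval, hqx]; simp
    · intro w hw hw0
      obtain ⟨a, b, rfl⟩ := hspan w hw
      rw [hval, hqx] at hw0
      rcases H932.eq_zero_or_one h2 a with rfl | rfl <;> rcases H932.eq_zero_or_one h2 b with rfl | rfl <;>
        simp [h11] at hw0 ⊢

/-- Over the field with two elements the stabiliser of a plane of plus type fixes a nonsingular vector. -/
theorem plus_plane_le_two [Fintype F] (h2 : Fintype.card F = 2) {Q : (ι → F) → F}
    (hQ : IsNondegenerateQuadraticForm Q) {W : Submodule F (ι → F)} (hW : IsNondegenerateOn (polar Q) W)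
    (hdim : Module.finrank F W = 2) (hplus : IsPlusTypeOn Q W) :
    ∃ v, Q v ≠ 0 ∧ subspaceStabilizer W ⊓ isometryGroup F Q ≤ subspaceStabilizer (Submodule.span F {v}) := by
  obtain ⟨v, hvW, hv, huniq⟩ := exists_unique_nonsingular h2 hQ hW hdim hplus
  refine ⟨v, hv, ?_⟩
  rintro g ⟨hgW, hg⟩
  have hgv : (g : Matrix ι ι F) *ᵥ v = v :=
    huniq _ ((H925.mem_subspaceStabilizer_iff.1 hgW v).1 hvW) (by rw [H925.mem_iso_iff.1 hg]; exact hv)
  rw [H925.mem_subspaceStabilizer_iff]
  intro u
  rw [Submodule.mem_span_singleton, Submodule.mem_span_singleton]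
  constructor
  · rintro ⟨c, rfl⟩
    exact ⟨c, by rw [Matrix.mulVec_smul, hgv]⟩
  · rintro ⟨c, hc⟩
    refine ⟨c, ?_⟩
    have h3 : (g : Matrix ι ι F) *ᵥ (c • v) = (g : Matrix ι ι F) *ᵥ u := by
      rw [Matrix.mulVec_smul, hgv, hc]
    have h4 := congrArg (fun w => ((g⁻¹ : GL ι F) : Matrix ι ι F) *ᵥ w) h3
    simpa [Matrix.mulVec_mulVec, ← Units.val_mul] using h4

end Cfsg.Agent.H920
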