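import Cfsg.Agent.H920.NineBase
import Cfsg.Agent.H936.List12
import Cfsg.Agent.H937.T2Rep
import Cfsg.Agent.H916.SpSixK
import Cfsg.Agent.H916.OmD

/-!
# Dimension nine: the simple groups that are not of Lie type in the characteristic (helper920)
-/

set_option autoImplicit false
set_option linter.unusedSectionVars false
set_option linter.style.haveILetI false

namespace Cfsg.Agent.H920.Nine

open Cfsg Cfsg.Geo Matrix
open H915.LD (Core Soc tr SD Fr Cj)
open H912.Bd (IsL IsU IsS IsOP)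

universe u

variable {F : Type u} [Field F] [Fintype F] {P : Subgroup (GL (Fin 9) F)} (p : ℕ) [hp : Fact p.Prime] [hFp : CharP F p]

/-- the cross characteristic possibilities that are not self-dual -/
def Cross9 (p : ℕ) (P : Subgroup (GL (Fin 9) F)) : Prop :=
  (∃ (K : Type) (_ : Field K) (_ : Fintype K), 5 ≤ Fintype.card K ∧ Fintype.card K ≠ 9 ∧ ¬ p ∣ Fintype.card K ∧
    Nonempty (Soc P ≃* ProjectiveSpecialLinearGroup (Fin 2) K)) ∨
  (p ≠ 3 ∧ Nonempty (Soc P ≃* alternatingGroup (Fin 6))) ∨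
  (Nonempty (Soc P ≃* alternatingGroup (Fin 7)) ∧ p = 7 ∧ Fr P 7) ∨
  (Cfsg.Spor.IsoJ3 (Soc P) ∧ p = 2 ∧ Cj P 2)

/-- the rows still open -/
structure CrossRows (p : ℕ) (P : Subgroup (GL (Fin 9) F)) : Prop where
  a7 : (Soc P ≃* alternatingGroup (Fin 7)) → SD P ∨ (p = 7 ∧ Fr P 7)
  alt : ∀ m, 8 ≤ m → m ≤ 13 → (p ≠ 5 → m ≤ 11) → ¬ IsLieTypeChar p (Soc P) → (Soc P ≃* alternatingGroup (Fin m)) → SD P
  l33 : p ≠ 3 → IsL 3 3 (Soc P) → SD P
  u33 : p ≠ 3 → IsU 3 3 (Soc P) → SD P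
  u42 : p ≠ 2 → p ≠ 3 → IsU 4 2 (Soc P) → SD P
  u52 : p ≠ 2 → IsU 5 2 (Soc P) → SD P
  u43 : p ≠ 3 → IsU 4 3 (Soc P) → SD P
  g23 : p ≠ 3 → H912.Bd.IsG2 3 (Soc P) → SD P
  sz8 : p ≠ 2 → H912.Bd.IsSz8 (Soc P) → SD P
  spor : IsSporadicGroup (Soc P) → SD P ∨ (Cfsg.Spor.IsoJ3 (Soc P) ∧ p = 2 ∧ Cj P 2)

theorem two_ne {p : ℕ} [hp : Fact p.Prime] [CharP F p] (h : p ≠ 2) : (2 : F) ≠ 0 := by
  intro h0
  have h1 : ((2 : ℕ) : F) = 0 := by exact_mod_cast h0
  rw [CharP.cast_eq_zero_iff F p] at h1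
  exact h ((Nat.prime_dvd_prime_iff_eq hp.out Nat.prime_two).1 h1)

theorem zero_or_one {K : Type*} [Field K] [Fintype K] (hK : Fintype.card K = 2) (x : K) : x = 0 ∨ x = 1 := by
  classical
  by_contra h
  push Not at h
  have h1 : ({0, 1, x} : Finset K).card = 3 := by
    rw [Finset.card_insert_of_notMem, Finset.card_insert_of_notMem, Finset.card_singleton]
    · simp only [Finset.mem_singleton]
      exact fun h2 => h.2 h2.symm
    · simp only [Finset.mem_insert, Finset.mem_singleton]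
      rintro (h2 | h2)
      · exact zero_ne_one h2
      · exact h.1 h2.symm
  have h2 := Finset.card_le_univ ({0, 1, x} : Finset K)
  omega

include hFp hp in
theorem cross (hC : Core P) (hsd : ¬ SD P) (hk : IsKnownSimple' (Soc P)) (hL : ¬ IsLieTypeChar p (Soc P))
    (R : CrossRows p P) : Cross9 p P := by
  rcases H936.List12.list₀ (p := p) (n := 9) (by norm_num) hC hk hL with (h | h | h | h) | h
  · obtain ⟨m, h5, h14, hp5, -, h14', ⟨e⟩⟩ := h
    have hm : m = 5 ∨ m = 6 ∨ m = 7 ∨ (8 ≤ m ∧ m ≤ 13) := by omega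
    rcases hm with rfl | rfl | rfl | hm
    · exact (hsd (H937.T2.a5_sd hC e)).elim
    · refine Or.inr (Or.inl ⟨?_, ⟨e⟩⟩)
      rintro rfl
      exact hsd (H937.T2.a6_sd_three hC e)
    · rcases R.a7 e with h | h
      · exact (hsd h).elim
      · exact Or.inr (Or.inr (Or.inl ⟨⟨e⟩, h⟩))
    · exact (hsd (R.alt m hm.1 hm.2 (fun h => by have := hp5 h; omega) hL e)).elim
  · rcases h with ⟨q, hq, hpq, -, K, i1, i2, hK, e⟩ | ⟨h1, -, h⟩ | ⟨h1, -, h⟩ | ⟨-, h1, -⟩ | ⟨h1, h2, -, h⟩ | ⟨h1, -, h⟩ |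
      ⟨-, h1, -⟩ | ⟨h1, -, h⟩ | ⟨h1, -, h⟩
    · refine Or.inl ⟨K, i1, i2, ?_, ?_, ?_, e⟩
      · rw [hK]
        simp only [Finset.mem_insert, Finset.mem_singleton] at hq
        omega
      · rw [hK]
        simp only [Finset.mem_insert, Finset.mem_singleton] at hq
        omega
      · rwa [hK]
    · exact (hsd (R.l33 h1 h)).elim
    · exact (hsd (R.u33 h1 h)).elim
    · omega
    · exact (hsd (R.u42 h1 h2 h)).elim
    · exact (hsd (R.u52 h1 h)).elim
    · omega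
    · exfalso
      obtain ⟨K, i1, i2, hK, ⟨e⟩⟩ := h
      have h3 := H916.SpSix.spSix_dim (zero_or_one hK) hC e (two_ne h1) (by simp)
      simp at h3
    · exfalso
      obtain ⟨K, i1, i2, hK, ⟨e⟩⟩ := h
      have h3 := H916.Om.omega_dim (zero_or_one hK) hC e (two_ne h1) (by simp)
      simp at h3
  · rcases h with ⟨-, h1, -⟩ | ⟨h1, -, h⟩
    · omega
    · exact (hsd (R.u43 h1 h)).elim
  · rcases h with ⟨h1, -, h⟩ | ⟨h1, -, h⟩
    · exact (hsd (R.g23 h1 h)).elim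
    · exact (hsd (R.sz8 h1 h)).elim
  · rcases R.spor h with h | h
    · exact (hsd h).elim
    · exact Or.inr (Or.inr (Or.inr h))

end Cfsg.Agent.H920.Nine
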