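import Cfsg.Agent.H13.M22.Twelve
import Cfsg.Agent.H921.M22.Two

/-!
# `M22` has no projective representation of degree nine in odd characteristic (helper920)

An immediate consequence of helper13's `FT.num`, `tr_E`.
-/

set_option autoImplicit false
set_option linter.unusedSectionVars false
set_option linter.style.haveILetI false

namespace Cfsg.Agent.H920.Nine.M22

open Module Cfsg Cfsg.Geo Matrix Cfsg.Agent.H906.Wt
open Cfsg.Agent.H13.M22
open H915.LD (Core Soc toSoc toSoc_surjective)

universe u

section

variable {L Ω V : Type*} [Group L] [Finite L] [Field Ω] [IsAlgClosed Ω] [AddCommGroup V] [Module Ω V]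
  [FiniteDimensional Ω V] {φ : L →* Spor.M22} {ρ : L →* Module.End Ω V}

theorem nine_false (h : Cov φ ρ) (h2 : (2 : Ω) ≠ 0) (hn : finrank Ω V = 9) : False := by
  have hab : ∀ a ∈ E22.comap φ, ∀ b ∈ E22.comap φ, a * b = b * a := by
    intro a ha b hb
    by_cases h1 : φ a = 1
    · exact h.comm h1 b
    · apply h.comm_of_trace (E22_comm _ ha _ hb)
      obtain ⟨μ, m1, -, m3⟩ := tr_E h h2 (by omega) (by omega) ha h1
      rw [m3, hn]
      apply mul_ne_zero _ m1
      have : ((9 : ℕ) : Ω) - 8 = 1 := by norm_num
      rw [this]; exact one_ne_zero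
  obtain ⟨g5, h5⟩ := h.surj (em s5P)
  obtain ⟨g3, h3⟩ := h.surj (em s3P)
  have hFT := f53.ft h hab h5 h3
  obtain ⟨χ₅, χ₃, k, l, -, -, -, -, h5, h6, h7, h8, h9, -⟩ :=
    hFT.num h.scal (f53.card h h2) (f53.not_top h)
  rw [hn] at h5 h6 h7 h8 h9
  rcases h9 with h9 | h9 | h9
  · rw [h9, finrank_bot] at h5; omega
  · omega
  · omega

end

variable {ι : Type} [Fintype ι] [DecidableEq ι] {F : Type u} [Field F] [Finite F] {P : Subgroup (GL ι F)}

/-- the setting of helper13 for a core -/
theorem cov (hC : Core P) (e : Soc P ≃* Spor.M22) : Cov (H921.M22.ph e) (H911.Five.rep P) where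
  surj := H921.M22.ph_surj e
  cen := H921.M22.ph_cen e
  scal := by
    intro x hx
    exact (H921.M22.dat e hC).scal x hx
  inj := H911.Five.rep_injective P
  card := by
    obtain ⟨p, hp⟩ := CharP.exists F
    have hpp := CharP.char_is_prime F p
    haveI := Fact.mk hpp
    haveI : CharP (AlgebraicClosure F) p :=
      charP_of_injective_algebraMap (algebraMap F (AlgebraicClosure F)).injective p
    haveI : Nonempty ι := hC.nonempty
    rw [Ne, CharP.cast_eq_zero_iff (AlgebraicClosure F) p]
    intro hd
    haveI : Finite P := inferInstance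
    obtain ⟨z, hz⟩ := exists_prime_orderOf_dvd_card' (G := (H921.M22.ph e).ker) p hd
    have hzp : (z : P) ^ p = 1 := by
      have : z ^ p = 1 := by rw [← hz, pow_orderOf_eq_one]
      exact congrArg Subtype.val this
    obtain ⟨c, hc⟩ := H921.M22.ph_scalar e z.2
    obtain ⟨i⟩ := hC.nonempty
    have h4 : (((z : P) ^ p : P) : GL ι F).1 = (c ^ p) • (1 : Matrix ι ι F) := by
      rw [Subgroup.coe_pow, Units.val_pow_eq_pow_val, hc, smul_pow, one_pow]
    rw [hzp] at h4
    have h5 : (1 : F) = c ^ p := by
      have := congrFun (congrFun h4 i) i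
      simpa using this
    have h6 : c = 1 := by
      have h7 : (c - 1) ^ p = 0 := by
        rw [sub_pow_char, one_pow, ← h5, sub_self]
      exact sub_eq_zero.1 (pow_eq_zero_iff hpp.ne_zero |>.1 h7)
    have h7 : z = 1 := by
      apply Subtype.ext
      apply Subtype.ext
      apply Units.ext
      rw [hc, h6, one_smul]
      rfl
    rw [h7, orderOf_one] at hz
    exact hpp.one_lt.ne hz

/-- `M22` does not occur in degree nine, odd characteristic -/
theorem m22_nine (hC : Core P) (h2 : (2 : F) ≠ 0) (h9 : Fintype.card ι = 9) (e : Soc P ≃* Spor.M22) : False := by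
  refine nine_false (cov hC e) ?_ ?_
  · intro h
    apply h2
    apply (algebraMap F (AlgebraicClosure F)).injective
    rw [map_ofNat, map_zero, h]
  · rw [Module.finrank_fintype_fun_eq_card, h9]

end Cfsg.Agent.H920.Nine.M22
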