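import Cfsg.Agent.H920.NineRows
import Cfsg.Agent.H637.A7NineMain
import Cfsg.Agent.H814.SzEightCore
import Cfsg.Agent.H936.U33All
import Cfsg.Agent.H6.M11.Main11
import Cfsg.Agent.H6.M11.Stage12
import Cfsg.Agent.H48.M12Three
import Cfsg.Agent.H4.LDM.Stage24
import Cfsg.Agent.H1.TJ1
import Cfsg.Agent.H1.TJ2
import Cfsg.Agent.H95.JT.Core

/-!
# Dimension nine: landed rows, second part (helper920)
-/

set_option autoImplicit false
set_option linter.unusedSectionVars false
set_option linter.style.haveILetI false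

namespace Cfsg.Agent.H920.Nine

open Cfsg Cfsg.Geo Matrix
open H915.LD (Core Soc tr SD Fr Cj)
open H912.Bd (IsL IsU IsS IsOP)

universe u

variable {F : Type u} [Field F] [Fintype F] {P : Subgroup (GL (Fin 9) F)} (p : ℕ) [hp : Fact p.Prime] [hFp : CharP F p]

/-- `A_7` -/
theorem a7_row (hC : Core P) (e : Soc P ≃* alternatingGroup (Fin 7)) : SD P ∨ (p = 7 ∧ Fr P 7) := by
  rcases H637.Three.nine p hC e (by simp) with h | h
  · exact Or.inl h
  · exact Or.inr ⟨h.1, h.2.1⟩

include hFp hp in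
/-- `U_3(3)` -/
theorem u33_row (hC : Core P) (h3 : p ≠ 3) : ¬ IsU 3 3 (Soc P) := by
  rintro ⟨K, i1, i2, hK, e⟩
  have h := H936.U33All.u33_degree hC p h3 (by simp) hK e
  simp at h

include hFp hp in
/-- `Sz(8)` -/
theorem sz8_row (hC : Core P) (h2 : p ≠ 2) : ¬ H912.Bd.IsSz8 (Soc P) := by
  intro h
  have h1 := (H814.Sz8.core_sz8 hC (two_ne (p := p) h2) (by simp) h).1
  simp at h1

include hFp hp in
/-- `M_11` -/
theorem m11_row (hC : Core P) (h : Spor.IsoM11 (Soc P)) : SD P := by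
  rcases H6.M11.m11 hC p h (by simp) with h1 | ⟨h1, -⟩ | ⟨h1, -⟩
  · exact h1
  · simp at h1
  · simp at h1

include hFp hp in
/-- `M_12` -/
theorem m12_row (hC : Core P) (h : Spor.IsoM12 (Soc P)) : SD P := by
  by_cases h3 : p = 3
  · exfalso
    subst h3
    have h30 : (3 : F) = 0 := by
      have := CharP.cast_eq_zero F 3
      exact_mod_cast this
    exact H48.M12T.m12_three_odd hC h30 h (Or.inr (by simp))
  · exact H6.M11.m12_odd hC p h3 h (by simp) (Or.inl (by simp; decide))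

include hFp hp in
/-- `M_23` -/
theorem m23_row (hC : Core P) (h : Spor.IsoM23 (Soc P)) : False := by
  obtain ⟨e⟩ := h
  have h1 := (H4.LDM.Stage.m23_low hC e p (by simp)).2.1
  simp at h1

include hFp hp in
/-- `M_24` -/
theorem m24_row (hC : Core P) (h : Spor.IsoM24 (Soc P)) : False := by
  obtain ⟨e⟩ := h
  have h1 := (H4.LDM.Stage.m24_low hC e p (by simp)).2.1
  simp at h1

theorem j1_row (hC : Core P) (h : Spor.IsoJ1 (Soc P)) : SD P := H1.TJ1.sd_iso hC h

theorem j2_row (hC : Core P) (h : Spor.IsoJ2 (Soc P)) : SD P := H1.TJ2.sd_iso hC h (by simp)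

theorem j3_row (hC : Core P) (h : Spor.IsoJ3 (Soc P)) : p = 2 ∧ Cj P 2 := by
  obtain ⟨h1, -, -, h4⟩ := H95.JT.j3 p hC h (by simp)
  exact ⟨h1, h4⟩

end Cfsg.Agent.H920.Nine
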