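import Cfsg.Agent.H920.NineRows3
import Cfsg.Agent.H920.NineRows2
import Cfsg.Agent.H920.NineM22
import Cfsg.Agent.H921.M22.Final
import Cfsg.Agent.H878.Sz.MainP3
import Cfsg.Agent.H936.List12c

/-!
# Dimension nine: the simple groups that are not of Lie type in the characteristic, final form (helper920)
-/

set_option autoImplicit false
set_option linter.unusedSectionVars false
set_option linter.style.haveILetI false

namespace Cfsg.Agent.H920.Nine

open Cfsg Cfsg.Geo Matrix
open H915.LD (Core Soc tr SD Fr Cj)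
open H912.Bd (IsL IsU IsS IsOP)

universe u

variable {F : Type u} [Field F] [Fintype F] {P : Subgroup (GL (Fin 9) F)} (p : ℕ) [hp : Fact p.Prime] [hFp : CharP F p]

include hFp hp in
/-- `M_22` -/
theorem m22_row (hC : Core P) (h : Spor.IsoM22 (Soc P)) : False := by
  obtain ⟨e⟩ := h
  by_cases h2 : p = 2
  · subst h2
    rcases H921.M22.main e hC (by simp) with h | h
    · have := h.1; simp at this
    · have := h.1; simp at this
  · exact M22.m22_nine hC (two_ne (p := p) h2) (by simp) e

include hFp hp in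
/-- `Suz` -/
theorem suz_row' (hC : Core P) (h : Spor.IsoSuz (Soc P)) : False := by
  by_cases h3 : p = 3
  · subst h3
    obtain ⟨e⟩ := h
    have h1 := (H878.Sz.core_Suz_three hC e (by simp)).1
    simp at h1
  · exact suz_row p hC h3 h

include hFp hp in
/-- **The cross characteristic candidates in dimension nine.** -/
theorem cross' (hC : Core P) (hsd : ¬ SD P) (hk : IsKnownSimple' (Soc P)) (hL : ¬ IsLieTypeChar p (Soc P)) :
    Cross9 p P := by
  rcases H936.List12.list₂ (p := p) (n := 9) (by norm_num) hC hk hL with h | h | h | ⟨h1, -, h⟩ | h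
  · obtain ⟨m, h5, h14, hp5, -, h14', ⟨e⟩⟩ := h
    have hm : m = 5 ∨ m = 6 ∨ m = 7 ∨ (8 ≤ m ∧ m ≤ 13) := by omega
    rcases hm with rfl | rfl | rfl | hm
    · exact (hsd (H937.T2.a5_sd hC e)).elim
    · refine Or.inr (Or.inl ⟨?_, ⟨e⟩⟩)
      rintro rfl
      exact hsd (H937.T2.a6_sd_three hC e)
    · rcases a7_row p hC e with h | h
      · exact (hsd h).elim
      · exact Or.inr (Or.inr (Or.inl ⟨⟨e⟩, h⟩))
    · exact (hsd (alt_row p hC hm.1 hL e)).elim
  · rcases h with ⟨q, hq, hpq, -, K, i1, i2, hK, e⟩ | ⟨h1, -, h⟩ | ⟨h1, -, h⟩ | ⟨-, h1, -⟩ | ⟨h1, h2, -, h⟩ | ⟨h1, -, h⟩ |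
      ⟨-, h1, -⟩ | ⟨h1, -, h⟩ | ⟨h1, -, h⟩
    · refine Or.inl ⟨K, i1, i2, ?_, ?_, ?_, e⟩
      · rw [hK]
        simp only [Finset.mem_insert, Finset.mem_singleton] at hq
        omega
      · rw [hK]
        simp only [Finset.mem_insert, Finset.mem_singleton] at hq
        omega
      · rwa [hK]
    · exact (l33_row p hC h1 h).elim
    · exact (u33_row p hC h1 h).elim
    · omega
    · exact (u42_row p hC h1 h2 h).elim
    · exact (u52_row p hC h1 h).elim
    · omega
    · exfalso
      obtain ⟨K, i1, i2, hK, ⟨e⟩⟩ := h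
      have h3 := H916.SpSix.spSix_dim (zero_or_one hK) hC e (two_ne h1) (by simp)
      simp at h3
    · exfalso
      obtain ⟨K, i1, i2, hK, ⟨e⟩⟩ := h
      have h3 := H916.Om.omega_dim (zero_or_one hK) hC e (two_ne h1) (by simp)
      simp at h3
  · rcases h with ⟨-, h1, -⟩ | ⟨h1, -, h⟩
    · omega
    · exact (u43_row p hC h1 h).elim
  · exact (sz8_row p hC h1 h).elim
  · rcases h with h | h | h | h | h | h | h | h | h
    · exact (hsd (m11_row p hC h)).elim
    · exact (hsd (m12_row p hC h)).elim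
    · exact (m22_row p hC h).elim
    · exact (m23_row p hC h).elim
    · exact (m24_row p hC h).elim
    · exact (hsd (j1_row hC h)).elim
    · exact (hsd (j2_row hC h)).elim
    · exact Or.inr (Or.inr (Or.inr ⟨h, j3_row p hC h⟩))
    · exact (suz_row' p hC h).elim

end Cfsg.Agent.H920.Nine
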