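import Cfsg.Agent.H920.NineDefs

/-!
# Dimension nine: fields of definition of `N^σ ⊗ N^τ` (helper920)
-/

set_option autoImplicit false

namespace Cfsg.Agent.H920.Nine

open Cfsg Cfsg.Geo Matrix
open scoped Kronecker

theorem half_of_dvd {p s e j : ℕ} (hp : 2 ≤ p) (he : 0 < e) (hes : 2 * e ≤ s) (hj : 0 < j) (hjs : j < s)
    (h : (p ^ s - 1) ∣ (1 + p ^ j) * (p ^ e - 1)) : s = 2 * e := by
  have key : ∀ j, 0 < j → 2 * j ≤ s → (p ^ s - 1) ∣ (1 + p ^ j) * (p ^ e - 1) → s = 2 * e := by
    intro j hj hj2 h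
    by_contra hne
    have h1 : 0 < p ^ e - 1 := by
      have : 1 < p ^ e := Nat.one_lt_pow (by omega) (by omega)
      omega
    have h2 := Nat.le_of_dvd (Nat.mul_pos (by omega) h1) h
    have h3 : (1 + p ^ j) * (p ^ e - 1) + (1 + p ^ j) = p ^ e + p ^ (j + e) := by
      have h4 : p ^ e - 1 + 1 = p ^ e := by omega
      calc (1 + p ^ j) * (p ^ e - 1) + (1 + p ^ j) = (1 + p ^ j) * (p ^ e - 1 + 1) := by ring
        _ = p ^ e + p ^ (j + e) := by rw [h4, pow_add]; ring
    have h5 : p ^ e ≤ p ^ (s - 1) := Nat.pow_le_pow_right (by omega) (by omega)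
    have h6 : p ^ (j + e) ≤ p ^ (s - 1) := Nat.pow_le_pow_right (by omega) (by omega)
    have h7 : 2 * p ^ (s - 1) ≤ p ^ s := by
      have h8 : p ^ s = p ^ (s - 1) * p := by rw [← pow_succ]; congr 1; omega
      rw [h8, mul_comm]
      exact Nat.mul_le_mul_left _ hp
    have h8 : 0 < p ^ j := pow_pos (by omega) _
    omega
  by_cases hj2 : 2 * j ≤ s
  · exact key j hj hj2 h
  · refine key (s - j) (by omega) (by omega) ?_
    have h1 : (p ^ s - 1) ∣ p ^ (s - j) * ((1 + p ^ j) * (p ^ e - 1)) := Dvd.dvd.mul_left h _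
    have h2 : p ^ (s - j) * ((1 + p ^ j) * (p ^ e - 1)) =
        (1 + p ^ (s - j)) * (p ^ e - 1) + (p ^ s - 1) * (p ^ e - 1) := by
      have h3 : p ^ (s - j) * p ^ j = p ^ s := by rw [← pow_add]; congr 1; omega
      have h4 : 1 ≤ p ^ s := Nat.one_le_pow _ _ (by omega)
      have h5 : p ^ (s - j) * (1 + p ^ j) = (1 + p ^ (s - j)) + (p ^ s - 1) := by
        rw [mul_add, mul_one, h3]; omega
      rw [← mul_assoc, h5, add_mul]
    rw [h2] at h1
    exact (Nat.dvd_add_left (Dvd.intro _ rfl)).1 h1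

section emb

variable {E : Type*} {K : Type*} [Field E] [Finite E] [Field K]

/-- the image of an embedding of a finite field: the roots of `x ^ |E| = x` -/
theorem mem_range_of_pow (σ : E →+* K) {x : K} (hx : x ^ Nat.card E = x) : ∃ a, σ a = x := by
  classical
  have := Fintype.ofFinite E
  have hq : 1 < Nat.card E := Finite.one_lt_card
  have h2 := FiniteField.X_pow_card_sub_X_natDegree_eq K hq
  have h3 : (Polynomial.X ^ Nat.card E - Polynomial.X : Polynomial K) ≠ 0 := by
    intro h0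
    rw [h0, Polynomial.natDegree_zero] at h2
    omega
  set R := (Polynomial.X ^ Nat.card E - Polynomial.X : Polynomial K).roots.toFinset with hR
  have hmem : ∀ y : K, y ∈ R ↔ y ^ Nat.card E = y := by
    intro y
    rw [hR, Multiset.mem_toFinset, Polynomial.mem_roots h3, Polynomial.IsRoot.def, Polynomial.eval_sub,
      Polynomial.eval_pow, Polynomial.eval_X, sub_eq_zero]
  have hcard : R.card ≤ Nat.card E := by
    refine (Multiset.toFinset_card_le _).trans ((Polynomial.card_roots' _).trans h2.le)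
  have hsub : Finset.univ.image σ ⊆ R := by
    intro y hy
    obtain ⟨a, -, rfl⟩ := Finset.mem_image.1 hy
    rw [hmem, ← map_pow, Nat.card_eq_fintype_card, FiniteField.pow_card]
  have heq : Finset.univ.image σ = R := by
    refine Finset.eq_of_subset_of_card_le hsub ?_
    rw [Finset.card_image_of_injective _ σ.injective, Finset.card_univ, ← Nat.card_eq_fintype_card]
    exact hcard
  have h5 : x ∈ Finset.univ.image σ := by rw [heq, hmem]; exact hx
  obtain ⟨a, -, ha⟩ := Finset.mem_image.1 h5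
  exact ⟨a, ha⟩

/-- factorisation of an embedding through another one -/
theorem exists_factor {E' : Type*} [Field E'] [Finite E'] (hcard : Nat.card E = Nat.card E') (σ : E →+* K)
    (τ : E' →+* K) : ∃ ρ : E ≃+* E', ∀ a, τ (ρ a) = σ a := by
  have h1 : ∀ a : E, ∃ b : E', τ b = σ a := by
    intro a
    apply mem_range_of_pow
    have := Fintype.ofFinite E
    rw [← hcard, ← map_pow, Nat.card_eq_fintype_card, FiniteField.pow_card]
  choose f hf using h1
  let g : E →+* E' :=
    { toFun := f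
      map_one' := τ.injective (by rw [hf, map_one, map_one])
      map_mul' := fun a b => τ.injective (by rw [hf, map_mul, map_mul, hf, hf])
      map_zero' := τ.injective (by rw [hf, map_zero, map_zero])
      map_add' := fun a b => τ.injective (by rw [hf, map_add, map_add, hf, hf]) }
  have hbij : Function.Bijective g :=
    (Nat.bijective_iff_injective_and_card g).2 ⟨g.injective, hcard⟩
  exact ⟨RingEquiv.ofBijective g hbij, fun a => hf a⟩

/-- two embeddings of a finite field differ by a power of the Frobenius -/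
theorem exists_frob_emb {p : ℕ} [Fact p.Prime] [CharP E p] {s : ℕ} (hs : Nat.card E = p ^ s) (σ τ : E →+* K) :
    ∃ j < s, ∀ a, τ a = σ a ^ p ^ j := by
  obtain ⟨ρ, hρ⟩ := exists_factor rfl τ σ
  let _ : Algebra (ZMod p) E := ZMod.algebra E p
  have hcomm : ∀ r : ZMod p, ρ (algebraMap (ZMod p) E r) = algebraMap (ZMod p) E r := by
    intro r
    obtain ⟨n, rfl⟩ := ZMod.natCast_zmod_surjective r
    rw [map_natCast, map_natCast]
  obtain ⟨i, hi⟩ := (FiniteField.bijective_frobeniusAlgEquivOfAlgebraic_pow (ZMod p) E).2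
    (AlgEquiv.ofRingEquiv (f := ρ) hcomm)
  have hfin : Module.finrank (ZMod p) E = s := by
    have h3 := Module.natCard_eq_pow_finrank (K := ZMod p) (V := E)
    rw [hs, Nat.card_zmod] at h3
    exact (Nat.pow_right_injective (Fact.out (p := p.Prime)).two_le h3).symm
  refine ⟨i, hfin ▸ i.2, fun a => ?_⟩
  have h5 : ∀ j : ℕ, ((FiniteField.frobeniusAlgEquivOfAlgebraic (ZMod p) E) ^ j) a = a ^ p ^ j := by
    intro j
    induction j with
    | zero => simp
    | succ j ih =>
      rw [pow_succ', AlgEquiv.mul_apply, ih, FiniteField.coe_frobeniusAlgEquivOfAlgebraic]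
      simp only [ZMod.card]
      rw [← pow_mul, pow_succ]
  have h6 : ρ a = a ^ p ^ (i : ℕ) := by
    have h1 := DFunLike.congr_fun hi a
    have h3 : (AlgEquiv.ofRingEquiv (f := ρ) hcomm) a = ρ a := rfl
    rw [← h3, ← h1]
    exact h5 i
  rw [← hρ, h6, map_pow]

end emb

/-- `a ^ p ^ m = a` for all `a` in the field of order `p ^ n` implies `n ∣ m`. -/
theorem dvd_of_pow_eq {F : Type*} [Field F] [Finite F] {p n m : ℕ} (hp : p.Prime)
    (hn : Nat.card F = p ^ n) (h : ∀ a : F, a ^ p ^ m = a) : n ∣ m := by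
  obtain ⟨u, hu⟩ := IsCyclic.exists_ofOrder_eq_natCard (α := Fˣ)
  have hm1 : 1 ≤ p ^ m := Nat.one_le_pow _ _ hp.pos
  have h1 : u ^ (p ^ m - 1) = 1 := by
    have h3 : u ^ p ^ m = u := by
      apply Units.ext
      rw [Units.val_pow_eq_pow_val]
      exact h u
    have h5 : u * u ^ (p ^ m - 1) = u * 1 := by
      rw [← pow_succ', Nat.sub_add_cancel hm1, h3, mul_one]
    exact mul_left_cancel h5
  have h3 := orderOf_dvd_of_pow_eq_one h1
  rw [hu, Nat.card_units, hn] at h3
  have h5 := Nat.pow_sub_one_gcd_pow_sub_one p n m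
  rw [Nat.gcd_eq_left h3] at h5
  have h6 : p ^ n = p ^ n.gcd m := by
    have := Nat.one_le_pow n p hp.pos
    have := Nat.one_le_pow (n.gcd m) p hp.pos
    omega
  have h7 := Nat.pow_right_injective hp.two_le h6
  rw [h7]
  exact Nat.gcd_dvd_right n m

/-- `(a ^ (1 + p ^ j)) ^ p ^ e = a ^ (1 + p ^ j)` on the field of order `p ^ s` -/
theorem half_of_pow {E : Type*} [Field E] [Finite E] {p s e j : ℕ} (hp : p.Prime) (hs : Nat.card E = p ^ s)
    (he : 0 < e) (hes : 2 * e ≤ s) (hj : 0 < j) (hjs : j < s)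
    (h : ∀ a : E, (a * a ^ p ^ j) ^ p ^ e = a * a ^ p ^ j) : s = 2 * e := by
  obtain ⟨u, hu⟩ := IsCyclic.exists_ofOrder_eq_natCard (α := Eˣ)
  refine half_of_dvd hp.two_le he hes hj hjs ?_
  rw [← hs, ← Nat.card_units, ← hu]
  apply orderOf_dvd_of_pow_eq_one
  have h1 : (u * u ^ p ^ j) ^ p ^ e = u * u ^ p ^ j := by
    apply Units.ext
    rw [Units.val_pow_eq_pow_val, Units.val_mul, Units.val_pow_eq_pow_val]
    exact h u
  have h2 : u * u ^ p ^ j = u ^ (1 + p ^ j) := by rw [pow_add, pow_one]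
  rw [h2] at h1
  have hm1 : 1 ≤ p ^ e := Nat.one_le_pow _ _ hp.pos
  rw [pow_mul]
  have h5 : u ^ (1 + p ^ j) * (u ^ (1 + p ^ j)) ^ (p ^ e - 1) = u ^ (1 + p ^ j) * 1 := by
    rw [← pow_succ', Nat.sub_add_cancel hm1, h1, mul_one]
  exact mul_left_cancel h5

/-- the traces of `x` and `x⁻¹` are arbitrary -/
theorem exists_trace {E : Type*} [Field E] (a b : E) :
    ∃ x : SpecialLinearGroup (Fin 3) E, x.1.trace = a ∧ (x⁻¹).1.trace = b := by
  have hdet : (!![0, 0, 1; 1, 0, -b; 0, 1, a] : Matrix (Fin 3) (Fin 3) E).det = 1 := by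
    rw [Matrix.det_fin_three]
    simp
  refine ⟨⟨!![0, 0, 1; 1, 0, -b; 0, 1, a], hdet⟩, ?_, ?_⟩
  · simp [Matrix.trace_fin_three]
  · change (Matrix.adjugate !![0, 0, 1; 1, 0, -b; 0, 1, a]).trace = b
    rw [Matrix.adjugate_fin_three_of]
    simp [Matrix.trace_fin_three]

end Cfsg.Agent.H920.Nine
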