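import Cfsg.Agent.H920.NineSL

/-!
# Dimension nine: explicit form of `P` when `|E| = |F|` (helper920)
-/

set_option autoImplicit false
set_option linter.unusedSectionVars false

namespace Cfsg.Agent.H920.Nine

open Cfsg Cfsg.Geo Matrix
open H915.LD (Core Soc tr SD Fr Cj)

universe u

section general

variable {F : Type u} [Field F]

/-- `y ↦ y ⊗ τ y` -/
def kronHom (τ : F ≃+* F) : SpecialLinearGroup (Fin 3) F →* GL (Fin 9) F :=
  MonoidHom.toHomUnits
    { toFun := fun y => kron9 y.1 (y.1.map τ)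
      map_one' := by
        change kron9 (1 : Matrix (Fin 3) (Fin 3) F) ((1 : Matrix (Fin 3) (Fin 3) F).map τ) = 1
        rw [Matrix.map_one _ (map_zero τ) (map_one τ), kron9_one]
      map_mul' := fun a b => by
        change kron9 (a.1 * b.1) ((a.1 * b.1).map τ) = _
        rw [Matrix.map_mul, kron9_mul] }

theorem kronHom_val (τ : F ≃+* F) (y : SpecialLinearGroup (Fin 3) F) :
    ((kronHom τ y : GL (Fin 9) F) : Matrix (Fin 9) (Fin 9) F) = kron9 y.1 (y.1.map τ) := rfl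

/-- `y ↦ y ⊗ τ y⁻ᵀ` -/
def kronHom' (τ : F ≃+* F) : SpecialLinearGroup (Fin 3) F →* GL (Fin 9) F :=
  MonoidHom.toHomUnits
    { toFun := fun y => kron9 y.1 (((y⁻¹).1.map τ)ᵀ)
      map_one' := by
        rw [inv_one]
        change kron9 (1 : Matrix (Fin 3) (Fin 3) F) (((1 : Matrix (Fin 3) (Fin 3) F).map τ)ᵀ) = 1
        rw [Matrix.map_one _ (map_zero τ) (map_one τ), Matrix.transpose_one, kron9_one]
      map_mul' := fun a b => by
        rw [_root_.mul_inv_rev]
        change kron9 (a.1 * b.1) ((((b⁻¹).1 * (a⁻¹).1).map τ)ᵀ) = _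
        rw [Matrix.map_mul, Matrix.transpose_mul, kron9_mul] }

theorem kronHom'_val (τ : F ≃+* F) (y : SpecialLinearGroup (Fin 3) F) :
    ((kronHom' τ y : GL (Fin 9) F) : Matrix (Fin 9) (Fin 9) F) = kron9 y.1 (((y⁻¹).1.map τ)ᵀ) := rfl

theorem trace_map_ringEquiv {R S : Type*} [Semiring R] [Semiring S] {n : Type*} [Fintype n] (τ : R ≃+* S) (M : Matrix n n R) :
    (M.map τ).trace = τ M.trace := by
  simp [Matrix.trace, Matrix.diag]

/-- a homomorphism with image `P` and the traces of `ρ` : `P` is conjugate to the image of `ρ` -/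
theorem exists_conj_form [Finite F] {P : Subgroup (GL (Fin 9) F)} (hP : ActsAbsolutelyIrreducibly (matrixSet P))
    {G : Type*} [Group G] {ψ ρ : G →* GL (Fin 9) F} (hψ : ψ.range = P)
    (htr : ∀ y, (ψ y : Matrix (Fin 9) (Fin 9) F).trace = (ρ y : Matrix (Fin 9) (Fin 9) F).trace) :
    ∃ g : GL (Fin 9) F, ∀ y, y ∈ P ↔ ∃ x : G, (y : Matrix (Fin 9) (Fin 9) F) =
      (g : Matrix (Fin 9) (Fin 9) F) * (ρ x : Matrix (Fin 9) (Fin 9) F) * ((g⁻¹ : GL (Fin 9) F) : Matrix (Fin 9) (Fin 9) F) := by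
  obtain ⟨J, hJ⟩ := exists_conj_of_trace ψ ρ
    (by
      rw [← adjoin_eq_top hP]
      congr 1
      ext M
      constructor
      · rintro ⟨g, rfl⟩
        exact ⟨ψ g, by rw [← hψ]; exact ⟨g, rfl⟩, rfl⟩
      · rintro ⟨g, hg, rfl⟩
        rw [← hψ] at hg
        obtain ⟨x, rfl⟩ := hg
        exact ⟨x, rfl⟩) htr
  refine ⟨J⁻¹, fun y => ?_⟩
  have key : ∀ x, J⁻¹ * ρ x * J⁻¹⁻¹ = ψ x := by
    intro x
    rw [hJ]
    group
  constructor
  · intro hy
    rw [← hψ] at hy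
    obtain ⟨x, rfl⟩ := hy
    refine ⟨x, ?_⟩
    rw [← key x, Units.val_mul, Units.val_mul]
  · rintro ⟨x, hx⟩
    have h1 : y = J⁻¹ * ρ x * J⁻¹⁻¹ := by
      apply Units.ext
      rw [Units.val_mul, Units.val_mul]
      exact hx
    rw [h1, key, ← hψ]
    exact ⟨x, rfl⟩

end general

variable {F : Type u} [Field F] [Finite F] {P : Subgroup (GL (Fin 9) F)} {E : Type*} [Field E] [Finite E]
variable {φ : SpecialLinearGroup (Fin 3) E →* GL (Fin 9) F} {σ τ : E →+* AlgebraicClosure F}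

theorem form_A (hC : Core P) (hφ : φ.range = P) (hne : σ ≠ τ) (h : TypA φ σ τ) (hcard : Nat.card E = Nat.card F) :
    ∃ (α : F ≃+* F) (g : GL (Fin 9) F), α ≠ RingEquiv.refl F ∧ ∀ y, y ∈ P ↔
      ∃ x : SpecialLinearGroup (Fin 3) F, (y : Matrix (Fin 9) (Fin 9) F) =
        (g : Matrix (Fin 9) (Fin 9) F) * kron9 x.1 (x.1.map α) * ((g⁻¹ : GL (Fin 9) F) : Matrix (Fin 9) (Fin 9) F) := by
  obtain ⟨σ', hσ'⟩ := exists_lift hcard σ
  obtain ⟨τ', hτ'⟩ := exists_lift hcard τ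
  let m : SpecialLinearGroup (Fin 3) F →* SpecialLinearGroup (Fin 3) E :=
    SpecialLinearGroup.map (σ'.symm : F →+* E)
  have hm : Function.Surjective m := by
    intro x
    refine ⟨SpecialLinearGroup.map (σ' : E →+* F) x, ?_⟩
    apply Subtype.ext
    ext i j
    change σ'.symm (σ' (x.1 i j)) = _
    rw [σ'.symm_apply_apply]
  have hmt : ∀ y : SpecialLinearGroup (Fin 3) F, (m y).1.trace = σ'.symm y.1.trace := by
    intro y
    exact trace_map_ringEquiv σ'.symm y.1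
  obtain ⟨g, hg⟩ := exists_conj_form hC.absIrred (ψ := φ.comp m) (ρ := kronHom (σ'.symm.trans τ'))
    (by rw [MonoidHom.range_comp, MonoidHom.range_eq_top.2 hm, ← MonoidHom.range_eq_map, hφ]) (by
      intro y
      apply algebraMap_inj
      rw [MonoidHom.comp_apply, h, hmt, kronHom_val, trace_kron9, trace_map_ringEquiv, map_mul, ← hσ', ← hτ',
        σ'.apply_symm_apply]
      rfl)
  refine ⟨σ'.symm.trans τ', g, ?_, hg⟩
  intro h1
  apply hne
  ext a
  rw [← hσ', ← hτ']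
  have h2 := RingEquiv.congr_fun h1 (σ' a)
  rw [RingEquiv.trans_apply, σ'.symm_apply_apply] at h2
  rw [h2]
  rfl

theorem form_B (hC : Core P) (hφ : φ.range = P) (hne : σ ≠ τ) (h : TypB φ σ τ) (hcard : Nat.card E = Nat.card F) :
    ∃ (α : F ≃+* F) (g : GL (Fin 9) F), α ≠ RingEquiv.refl F ∧ ∀ y, y ∈ P ↔
      ∃ x : SpecialLinearGroup (Fin 3) F, (y : Matrix (Fin 9) (Fin 9) F) =
        (g : Matrix (Fin 9) (Fin 9) F) * kron9 x.1 (((x⁻¹).1.map α)ᵀ) *
          ((g⁻¹ : GL (Fin 9) F) : Matrix (Fin 9) (Fin 9) F) := by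
  obtain ⟨σ', hσ'⟩ := exists_lift hcard σ
  obtain ⟨τ', hτ'⟩ := exists_lift hcard τ
  let m : SpecialLinearGroup (Fin 3) F →* SpecialLinearGroup (Fin 3) E :=
    SpecialLinearGroup.map (σ'.symm : F →+* E)
  have hm : Function.Surjective m := by
    intro x
    refine ⟨SpecialLinearGroup.map (σ' : E →+* F) x, ?_⟩
    apply Subtype.ext
    ext i j
    change σ'.symm (σ' (x.1 i j)) = _
    rw [σ'.symm_apply_apply]
  have hmt : ∀ y : SpecialLinearGroup (Fin 3) F, (m y).1.trace = σ'.symm y.1.trace := by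
    intro y
    exact trace_map_ringEquiv σ'.symm y.1
  obtain ⟨g, hg⟩ := exists_conj_form hC.absIrred (ψ := φ.comp m) (ρ := kronHom' (σ'.symm.trans τ'))
    (by rw [MonoidHom.range_comp, MonoidHom.range_eq_top.2 hm, ← MonoidHom.range_eq_map, hφ]) (by
      intro y
      apply algebraMap_inj
      rw [MonoidHom.comp_apply, h, ← map_inv, hmt, hmt, kronHom'_val, trace_kron9, Matrix.trace_transpose,
        trace_map_ringEquiv, map_mul, ← hσ', ← hτ', σ'.apply_symm_apply]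
      rfl)
  refine ⟨σ'.symm.trans τ', g, ?_, hg⟩
  intro h1
  apply hne
  ext a
  rw [← hσ', ← hτ']
  have h2 := RingEquiv.congr_fun h1 (σ' a)
  rw [RingEquiv.trans_apply, σ'.symm_apply_apply] at h2
  rw [h2]
  rfl

end Cfsg.Agent.H920.Nine
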