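import Cfsg.Agent.H920.NineCross
import Cfsg.Agent.H964.AltMod.Mat
import Cfsg.Agent.H825.SpinForm
import Cfsg.Agent.H614.AMod.NineB
import Cfsg.Agent.H659.Sp4Stage
import Cfsg.Agent.H36.U52.Main
import Cfsg.Agent.H95.LSx.G23
import Cfsg.Agent.H219.HerSmall

/-!
# Dimension nine: landed rows (helper920)
-/

set_option autoImplicit false
set_option linter.unusedSectionVars false
set_option linter.style.haveILetI false

namespace Cfsg.Agent.H920.Nine

open Cfsg Cfsg.Geo Matrix
open H915.LD (Core Soc tr SD Fr Cj)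
open H912.Bd (IsL IsU IsS IsOP)

universe u

variable {F : Type u} [Field F] [Fintype F] {P : Subgroup (GL (Fin 9) F)} (p : ℕ) [hp : Fact p.Prime] [hFp : CharP F p]

include hFp in
theorem three_ne (h3 : p ≠ 3) : (3 : F) ≠ 0 := by
  intro h0
  have h1 : ((3 : ℕ) : F) = 0 := by exact_mod_cast h0
  rw [CharP.cast_eq_zero_iff F p] at h1
  exact h3 ((Nat.prime_dvd_prime_iff_eq hp.out Nat.prime_three).1 h1)

include hFp hp in
/-- `A_m`, `m ≥ 8` -/
theorem alt_row (hC : Core P) {m : ℕ} (h8 : 8 ≤ m) (hL : ¬ IsLieTypeChar p (Soc P))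
    (e : Soc P ≃* alternatingGroup (Fin m)) : SD P := by
  rcases H825.Spin.alt_red hC p e h8 (by simp) with ⟨e', -⟩ | h
  · by_cases h2 : p = 2
    · subst h2
      have h9 : 9 ≤ m := by
        rcases Nat.lt_or_ge 8 m with h | h
        · exact h
        · obtain rfl : m = 8 := by omega
          exact (hL (H219.HerSmall.lie_alt8 e)).elim
      have hirr := H964.AltMod.irr_rep e' hC
      obtain ⟨a, v, hv⟩ := H964.AltMod.exists_move_rep e' hC
      have h3 : ((3 : ℕ) : F) ≠ 0 := by exact_mod_cast three_ne (F := F) 2 (by norm_num)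
      rcases H614.AMod.nine (by simpa using h9) h3 (by simp) hirr hv with h | h
      · obtain ⟨w, hw⟩ := H964.AltMod.exists_natM e' hC (by simpa using h8) h
        exact H964.AltMod.sd hC (by simpa using h8) hw
      · have := h.1
        simp at this
    · obtain ⟨w, hw⟩ := H964.AltMod.exists_natM_odd e' hC (by simpa using h8) (two_ne (p := p) h2) (by simp)
      exact H964.AltMod.sd hC (by simpa using h8) hw
  · have := h.1
    simp at this

include hFp hp in
/-- `U_4(2)` -/
theorem u42_row (hC : Core P) (h2 : p ≠ 2) (h3 : p ≠ 3) : ¬ IsU 4 2 (Soc P) := by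
  rintro ⟨K, i1, i2, hK, ⟨e⟩⟩
  have h := H659.Sp4.u42_stage' hC p h2 h3 (by simp) hK e
  simp at h

include hFp hp in
/-- `U_5(2)` -/
theorem u52_row (hC : Core P) (h2 : p ≠ 2) : ¬ IsU 5 2 (Soc P) := by
  rintro ⟨K, i1, i2, hK, ⟨e⟩⟩
  have h := H36.U52.t6 hC p h2 (by norm_num) hK e
  omega

include hFp hp in
/-- `G_2(3)` -/
theorem g23_row (hC : Core P) (h3 : p ≠ 3) : ¬ H912.Bd.IsG2 3 (Soc P) := by
  rintro ⟨K, i1, i2, hK, e⟩
  have h := H936.List12.le_of_ls' hC (r := 3) (by exact_mod_cast three_ne (F := F) p h3) (H95.LSx.G23.ls hK) e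
  omega

end Cfsg.Agent.H920.Nine
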