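import Cfsg.Agent.H920.NineRows
import Cfsg.Agent.H175.LD.Core33
import Cfsg.Agent.H918.U43.Main
import Cfsg.Agent.H878.Sz.MainThree
import Cfsg.Agent.H876.D3.Main5

/-!
# Dimension nine: landed rows, third part (helper920)
-/

set_option autoImplicit false
set_option linter.unusedSectionVars false
set_option linter.style.haveILetI false

namespace Cfsg.Agent.H920.Nine

open Cfsg Cfsg.Geo Matrix
open H915.LD (Core Soc tr SD Fr Cj)
open H912.Bd (IsL IsU IsS IsOP)

universe u

variable {F : Type u} [Field F] [Fintype F] {P : Subgroup (GL (Fin 9) F)} (p : ℕ) [hp : Fact p.Prime] [hFp : CharP F p]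

/-- `L_3(3)` -/
theorem l33_row (hC : Core P) (h3 : p ≠ 3) : ¬ IsL 3 3 (Soc P) := by
  rintro ⟨K, i1, i2, hK, ⟨e⟩⟩
  have h := (H175.L33.l33 hC p h3 hK e (by simp)).2.2.2
  simp at h

/-- `U_4(3)` -/
theorem u43_row (hC : Core P) (h3 : p ≠ 3) : ¬ IsU 4 3 (Soc P) := by
  rintro ⟨K, i1, i2, hK, ⟨e⟩⟩
  have h := (H918.U43.u43_core hC p h3 hK e (by simp)).1
  simp at h

/-- `Suz`, `p ≠ 3` -/
theorem suz_row (hC : Core P) (h3 : p ≠ 3) (h : Spor.IsoSuz (Soc P)) : False := by
  obtain ⟨e⟩ := h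
  have h := (H878.Sz.core_Suz hC e (by simp) p h3).1
  simp at h

/-- `PSU_N(q)` in its own characteristic -/
theorem psu_row (hC : Core P) (K : Type) [Field K] [Fintype K] [CharP K p] {N q : ℕ} (hK : Fintype.card K = q ^ 2)
    (h4 : 4 ≤ N) (h8 : N ≤ 8) (e : Soc P ≃* PSU N K q) : False := by
  rcases H876.D3.core_psu p K h4 (by simp) hK hC e with h | h | h | h
  · simp at h; omega
  · have := h.2.1; simp at this
  · have := h.2.1; simp at this
  · have := h.2; simp at this

end Cfsg.Agent.H920.Nine
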