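import Cfsg.Agent.H920.NineField

/-!
# Dimension nine: `P = SL_3(E)` acting as `N^σ ⊗ N^τ` or `N^σ ⊗ N*^τ` (helper920)
-/

set_option autoImplicit false
set_option linter.unusedSectionVars false

namespace Cfsg.Agent.H920.Nine

open Cfsg Cfsg.Geo Matrix
open H915.LD (Core Soc tr SD Fr Cj)

universe u

variable {F : Type u} [Field F] [Finite F] {P : Subgroup (GL (Fin 9) F)} {E : Type*} [Field E] [Finite E]
  (p : ℕ) [hp : Fact p.Prime] [hFp : CharP F p] [hEp : CharP E p]

/-- type A : `N^σ ⊗ N^τ` -/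
def TypA (φ : SpecialLinearGroup (Fin 3) E →* GL (Fin 9) F) (σ τ : E →+* AlgebraicClosure F) : Prop :=
  ∀ x, algebraMap F (AlgebraicClosure F) ((φ x : Matrix (Fin 9) (Fin 9) F).trace) = σ (x.1.trace) * τ (x.1.trace)

/-- type B : `N^σ ⊗ N*^τ` -/
def TypB (φ : SpecialLinearGroup (Fin 3) E →* GL (Fin 9) F) (σ τ : E →+* AlgebraicClosure F) : Prop :=
  ∀ x, algebraMap F (AlgebraicClosure F) ((φ x : Matrix (Fin 9) (Fin 9) F).trace) = σ (x.1.trace) * τ ((x⁻¹).1.trace)

variable {φ : SpecialLinearGroup (Fin 3) E →* GL (Fin 9) F} {σ τ : E →+* AlgebraicClosure F}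

omit [Finite F] in
theorem algebraMap_inj {a b : F} (h : algebraMap F (AlgebraicClosure F) a = algebraMap F (AlgebraicClosure F) b) :
    a = b := (algebraMap F (AlgebraicClosure F)).injective h

omit hp in
theorem exists_s : ∃ s : ℕ, 0 < s ∧ Nat.card E = p ^ s := by
  have := Fintype.ofFinite E
  obtain ⟨s, -, hs⟩ := FiniteField.card E p
  exact ⟨s, s.pos, by rw [Nat.card_eq_fintype_card, hs]⟩

include hEp in
theorem frob_pow {s : ℕ} (hs : Nat.card E = p ^ s) (a : E) : a ^ p ^ s = a := by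
  have := Fintype.ofFinite E
  rw [← hs, Nat.card_eq_fintype_card, FiniteField.pow_card]

theorem fr_of_A (hφ : φ.range = P) (h : TypA φ σ τ) {s : ℕ} (hs : Nat.card E = p ^ s) : Fr P (p ^ s) := by
  intro g hg
  rw [← hφ] at hg
  obtain ⟨x, rfl⟩ := hg
  apply algebraMap_inj
  rw [map_pow]
  unfold tr
  rw [h x, mul_pow, ← map_pow, ← map_pow, frob_pow p hs]

theorem fr_of_B (hφ : φ.range = P) (h : TypB φ σ τ) {s : ℕ} (hs : Nat.card E = p ^ s) : Fr P (p ^ s) := by
  intro g hg
  rw [← hφ] at hg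
  obtain ⟨x, rfl⟩ := hg
  apply algebraMap_inj
  rw [map_pow]
  unfold tr
  rw [h x, mul_pow, ← map_pow, ← map_pow, frob_pow p hs, frob_pow p hs]

/-- the embeddings come from isomorphisms if the orders are equal -/
theorem exists_lift (hcard : Nat.card E = Nat.card F) (σ : E →+* AlgebraicClosure F) :
    ∃ σ' : E ≃+* F, ∀ a, algebraMap F (AlgebraicClosure F) (σ' a) = σ a :=
  exists_factor hcard σ (algebraMap F (AlgebraicClosure F))

include p hp hFp hEp in
theorem card_B (hC : Core P) (hφ : φ.range = P) (h : TypB φ σ τ) : Nat.card E = Nat.card F := by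
  obtain ⟨s, hs0, hs⟩ := exists_s (E := E) p
  have h1 := fr_of_B p hφ h hs
  have := Fintype.ofFinite F
  apply le_antisymm
  · -- `σ(E)` is contained in `F`
    have h2 : ∀ a : E, ∃ b : F, algebraMap F (AlgebraicClosure F) b = σ a := by
      intro a
      obtain ⟨x, hx, hx'⟩ := exists_trace a 1
      refine ⟨_, (h x).trans ?_⟩
      rw [hx, hx', map_one, mul_one]
    choose f hf using h2
    refine Nat.card_le_card_of_injective f ?_
    intro a b hab
    apply σ.injective
    rw [← hf, ← hf, hab]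
  · rw [hs, Nat.card_eq_fintype_card]
    exact hC.card_le p hs0.ne' h1

include p hp hFp hEp in
theorem card_A (hC : Core P) (hφ : φ.range = P) (hne : σ ≠ τ) (h : TypA φ σ τ) :
    Nat.card E = Nat.card F ^ 2 ∨ Nat.card E = Nat.card F := by
  obtain ⟨s, hs0, hs⟩ := exists_s (E := E) p
  obtain ⟨e, he0, he⟩ := exists_s (E := F) p
  have h1 := fr_of_A p hφ h hs
  have hdvd : e ∣ s := dvd_of_pow_eq hp.out he (hC.pow_eq p h1)
  obtain ⟨j, hjs, hj⟩ := exists_frob_emb (p := p) hs σ τ
  have hj0 : 0 < j := by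
    rcases Nat.eq_zero_or_pos j with h0 | h0
    · exfalso
      apply hne
      ext a
      rw [hj, h0, pow_zero, pow_one]
    · exact h0
  by_cases hes : s = e
  · right; rw [hs, he, hes]
  · left
    have h2e : 2 * e ≤ s := by
      obtain ⟨c, rfl⟩ := hdvd
      have h3 : 2 ≤ c := by
        by_contra hc
        have h4 : c = 0 ∨ c = 1 := by omega
        rcases h4 with rfl | rfl <;> simp at hs0 hes
      nlinarith
    have h3 := half_of_pow (E := E) hp.out hs he0 h2e hj0 hjs (by
      intro a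
      apply σ.injective
      obtain ⟨x, hx, -⟩ := exists_trace a 1
      have h4 := h x
      rw [hx, hj, ← map_pow, ← map_mul] at h4
      rw [map_pow, ← h4, ← map_pow, frob_pow (E := F) p he])
    rw [hs, he, h3, ← pow_mul, mul_comm]

/-- the unitary trace condition excludes type A -/
theorem not_cj_of_A (hφ : φ.range = P) (h : TypA φ σ τ) {Q : ℕ} (hQ : Q ≠ 0) : ¬ Cj P Q := by
  intro hcj
  obtain ⟨x, hx, hx'⟩ := exists_trace (E := E) 0 1
  have h1 := congrArg (algebraMap F (AlgebraicClosure F)) (hcj (φ x) (by rw [← hφ]; exact ⟨x, rfl⟩))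
  rw [map_pow] at h1
  unfold tr at h1
  rw [h x, ← map_inv, h x⁻¹, hx, hx', map_zero, map_one, zero_mul, zero_pow hQ, map_one, one_mul] at h1
  exact zero_ne_one h1

end Cfsg.Agent.H920.Nine
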