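import Cfsg.Agent.H920.NineForm
import Cfsg.Agent.SporadicStructure.PsuMatch
import Cfsg.Agent.H929.UThreeGeo

/-!
# Dimension nine: `P = SU_3(q)` acting as `N^σ ⊗ N^τ` (helper920)
-/

set_option autoImplicit false
set_option linter.unusedSectionVars false
set_option linter.style.haveILetI false

namespace Cfsg.Agent.H920.Nine

open Cfsg Cfsg.Geo Matrix
open H915.LD (Core Soc tr SD Fr Cj)

universe u

/-- every element of the field is the trace of an element of `SU_3(q)` -/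
theorem exists_trace_SU {K : Type*} [Field K] [Fintype K] {q : ℕ} (hK : Fintype.card K = q ^ 2) (a : K) :
    ∃ x : SpecialLinearGroup (Fin 3) K, x ∈ SU 3 K q ∧ x.1.trace = a := by
  obtain ⟨c, hc⟩ : ∃ c : K ≃+* K, ∀ x, c x = x ^ q := by
    obtain ⟨p, hpc⟩ := CharP.exists K
    haveI hp := Fact.mk (CharP.char_is_prime K p)
    obtain ⟨n, -, hn⟩ := FiniteField.card K p
    have h1 : q ∣ p ^ (n : ℕ) := by rw [← hn, hK]; exact dvd_pow_self q two_ne_zero
    obtain ⟨b, -, rfl⟩ := (Nat.dvd_prime_pow hp.out).1 h1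
    refine ⟨RingEquiv.ofBijective (iterateFrobenius K p b) ⟨iterateFrobenius_inj K p b,
      Finite.injective_iff_surjective.1 (iterateFrobenius_inj K p b)⟩, fun x => iterateFrobenius_def p b x⟩
  have hcc : ∀ x, c (c x) = x := by
    intro x
    rw [hc, hc, ← pow_mul, ← pow_two, ← hK, FiniteField.pow_card]
  -- a frame
  obtain ⟨s, hs⟩ := LieClassical.HermBasic.exists_norm_eq hK (c := (-1 : K)) (by rw [← hc, map_neg, map_one])
  have he : hermForm 3 K q ![1, s, 0] ![1, s, 0] = 0 := by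
    rw [hermForm, Fin.sum_univ_three]
    simp only [Matrix.cons_val_zero, Matrix.cons_val_one, Matrix.cons_val]
    rw [hs, one_pow]
    ring
  have he0 : (![1, s, 0] : Fin 3 → K) ≠ 0 := by
    intro h
    have := congrFun h 0
    simp at this
  obtain ⟨e₂, e₃, hfr⟩ := H929.U3.exists_fr hK he he0
  set e₁ : Fin 3 → K := ![1, s, 0] with he₁
  -- the matrix in the frame
  set β := a + 1 with hβ
  obtain ⟨α, hα⟩ := LieClassical.HermBasic.exists_norm_eq hK (c := -(β + β ^ q)) (by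
    rw [← hc, ← hc, map_neg, map_add, hcc, add_comm])
  have hα' : β + c β + α * c α = 0 := by
    rw [hc, hc, hα]; ring
  let B : Matrix (Fin 3) (Fin 3) K := (Matrix.of ![e₁, e₂, e₃])ᵀ
  have hB : IsUnit B := by
    rw [Matrix.isUnit_transpose]
    exact Matrix.linearIndependent_rows_iff_isUnit.1 (hfr.linearIndependent hK)
  have hBm : ∀ y x z : K, B *ᵥ ![y, x, z] = y • e₁ + x • e₂ + z • e₃ := by
    intro y x z
    ext i
    simp only [B, Matrix.mulVec, dotProduct, Fin.sum_univ_three, Matrix.transpose_apply, Matrix.of_apply,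
      Matrix.cons_val_zero, Matrix.cons_val_one, Matrix.cons_val, Pi.add_apply, Pi.smul_apply, smul_eq_mul]
    ring
  let M : Matrix (Fin 3) (Fin 3) K := !![β, -α, 1; -(c α), -1, 0; 1, 0, 0]
  have hM : M.det = 1 := by
    simp only [M]
    rw [Matrix.det_fin_three]
    simp
  have hMm : ∀ y x z : K, M *ᵥ ![y, x, z] = ![β * y - α * x + z, -(c α) * y - x, y] := by
    intro y x z
    ext i
    fin_cases i <;> simp [M, Matrix.mulVec, dotProduct, Fin.sum_univ_three] <;> ring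
  obtain ⟨Bu, hBu⟩ := hB
  let G : Matrix (Fin 3) (Fin 3) K := B * M * ((Bu⁻¹ : (Matrix (Fin 3) (Fin 3) K)ˣ) : Matrix (Fin 3) (Fin 3) K)
  have hinv : ((Bu⁻¹ : (Matrix (Fin 3) (Fin 3) K)ˣ) : Matrix (Fin 3) (Fin 3) K) * B = 1 := by
    rw [← hBu, ← Units.val_mul, inv_mul_cancel, Units.val_one]
  have hdet : G.det = 1 := by
    have h1 := congrArg Matrix.det hinv
    rw [Matrix.det_mul, Matrix.det_one] at h1
    simp only [G]
    rw [Matrix.det_mul, Matrix.det_mul, hM, mul_one, mul_comm, h1]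
  have htr : G.trace = a := by
    simp only [G]
    rw [Matrix.trace_mul_comm, ← mul_assoc, hinv, one_mul]
    simp [M, Matrix.trace_fin_three, hβ]
  have hGm : ∀ y x z : K, G *ᵥ (y • e₁ + x • e₂ + z • e₃) =
      (β * y - α * x + z) • e₁ + (-(c α) * y - x) • e₂ + y • e₃ := by
    intro y x z
    rw [← hBm, ← hBm, ← hMm]
    simp only [G]
    rw [Matrix.mulVec_mulVec, Matrix.mulVec_mulVec, mul_assoc, hinv, mul_one]
  let X : SpecialLinearGroup (Fin 3) K := ⟨G, hdet⟩
  refine ⟨X, (LieClassical.HermBasic.mem_SU_iff X).2 ?_, htr⟩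
  intro u v
  obtain ⟨y, x, z, rfl⟩ := hfr.exists_comb hK u
  obtain ⟨y', x', z', rfl⟩ := hfr.exists_comb hK v
  change hermForm 3 K q (G *ᵥ _) (G *ᵥ _) = _
  rw [hGm, hGm, hfr.herm_comb hK, hfr.herm_comb hK]
  simp only [← hc, map_add, map_sub, map_mul, map_neg, hcc]
  linear_combination (y * c y') * hα'

variable {F : Type u} [Field F] [Fintype F] {P : Subgroup (GL (Fin 9) F)} {K : Type*} [Field K] [Fintype K] {q : ℕ}
variable {φ : SU 3 K q →* GL (Fin 9) F} {σ τ : K →+* AlgebraicClosure F}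

/-- type U : `N^σ ⊗ N^τ` for `SU_3` -/
def TypU (φ : SU 3 K q →* GL (Fin 9) F) (σ τ : K →+* AlgebraicClosure F) : Prop :=
  ∀ x, algebraMap F (AlgebraicClosure F) ((φ x : Matrix (Fin 9) (Fin 9) F).trace) = σ (x.1.1.trace) * τ (x.1.1.trace)

theorem fr_of_U (p : ℕ) [hp : Fact p.Prime] [_hFp : CharP F p] [hEp : CharP K p] (hφ : φ.range = P) (h : TypU φ σ τ)
    {s : ℕ} (hs : Nat.card K = p ^ s) : Fr P (p ^ s) := by
  intro g hg
  rw [← hφ] at hg
  obtain ⟨x, rfl⟩ := hg
  apply algebraMap_inj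
  rw [map_pow]
  unfold tr
  rw [h x, mul_pow, ← map_pow, ← map_pow, frob_pow p hs]

/-- the field of definition is the field of the group -/
theorem card_U (p : ℕ) [hp : Fact p.Prime] [hFp : CharP F p] [hEp : CharP K p] (hK : Fintype.card K = q ^ 2)
    (hC : Core P) (hsd : ¬ SD P) (hcj : Cj P q) (hφ : φ.range = P) (hne : σ ≠ τ) (h : TypU φ σ τ) :
    Nat.card K = Nat.card F := by
  obtain ⟨s, hs0, hs⟩ := exists_s (E := K) p
  obtain ⟨e, he0, he⟩ := exists_s (E := F) p
  have h1 := fr_of_U p hφ h hs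
  have hdvd : e ∣ s := dvd_of_pow_eq hp.out he (hC.pow_eq p h1)
  obtain ⟨j, hjs, hj⟩ := exists_frob_emb (p := p) hs σ τ
  have hj0 : 0 < j := by
    rcases Nat.eq_zero_or_pos j with h0 | h0
    · exfalso
      apply hne
      ext a
      rw [hj, h0, pow_zero, pow_one]
    · exact h0
  by_cases hes : s = e
  · rw [hs, he, hes]
  · exfalso
    have h2e : 2 * e ≤ s := by
      obtain ⟨c, rfl⟩ := hdvd
      have h3 : 2 ≤ c := by
        by_contra hc
        have h4 : c = 0 ∨ c = 1 := by omega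
        rcases h4 with rfl | rfl <;> simp at hs0 hes
      nlinarith
    have h3 := half_of_pow (E := K) hp.out hs he0 h2e hj0 hjs (by
      intro a
      apply σ.injective
      obtain ⟨x, hx, hxa⟩ := exists_trace_SU hK a
      have h4 := h ⟨x, hx⟩
      rw [hxa, hj, ← map_pow, ← map_mul] at h4
      rw [map_pow, ← h4, ← map_pow, frob_pow (E := F) p he])
    -- `q = |F|`
    have hq : q = p ^ e := by
      rw [Nat.card_eq_fintype_card, hK, h3, mul_comm, pow_mul] at hs
      exact Nat.pow_left_injective two_ne_zero hs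
    apply hsd
    intro g hg
    rw [← hcj g hg, hq, frob_pow p he]

/-- `y ↦ y ⊗ τ y` on `SU_3` -/
theorem form_U (hC : Core P) (hφ : φ.range = P) (hne : σ ≠ τ) (hne' : ¬ ∀ a, τ a = σ a ^ q) (h : TypU φ σ τ)
    (hcard : Nat.card K = Nat.card F) :
    ∃ (α : F ≃+* F) (g : GL (Fin 9) F), α ≠ RingEquiv.refl F ∧ (¬ ∀ x, α x = x ^ q) ∧ ∀ y, y ∈ P ↔
      ∃ x ∈ SU 3 F q, (y : Matrix (Fin 9) (Fin 9) F) =
        (g : Matrix (Fin 9) (Fin 9) F) * kron9 x.1 (x.1.map α) * ((g⁻¹ : GL (Fin 9) F) : Matrix (Fin 9) (Fin 9) F) := by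
  obtain ⟨σ', hσ'⟩ := exists_lift hcard σ
  obtain ⟨τ', hτ'⟩ := exists_lift hcard τ
  let m : SU 3 F q ≃* SU 3 K q := SporadicStructure.PsuMatch.suCongr σ'.symm 3 q
  have hmt : ∀ y : SU 3 F q, (m y).1.1.trace = σ'.symm y.1.1.trace := by
    intro y
    exact trace_map_ringEquiv σ'.symm y.1.1
  obtain ⟨g, hg⟩ := exists_conj_form hC.absIrred (ψ := φ.comp m.toMonoidHom)
    (ρ := (kronHom (σ'.symm.trans τ')).comp (SU 3 F q).subtype)
    (by rw [MonoidHom.range_comp, MonoidHom.range_eq_top.2 m.surjective, ← MonoidHom.range_eq_map, hφ]) (by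
      intro y
      apply algebraMap_inj
      rw [MonoidHom.comp_apply]
      change algebraMap F (AlgebraicClosure F) ((φ (m y) : Matrix (Fin 9) (Fin 9) F).trace) =
        algebraMap F (AlgebraicClosure F) ((kronHom (σ'.symm.trans τ') y.1 : Matrix (Fin 9) (Fin 9) F).trace)
      rw [h, hmt, kronHom_val, trace_kron9, trace_map_ringEquiv, map_mul, ← hσ', ← hτ', σ'.apply_symm_apply]
      rfl)
  refine ⟨σ'.symm.trans τ', g, ?_, ?_, fun y => ?_⟩
  · intro h1
    apply hne
    ext a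
    rw [← hσ', ← hτ']
    have h2 := RingEquiv.congr_fun h1 (σ' a)
    rw [RingEquiv.trans_apply, σ'.symm_apply_apply] at h2
    rw [h2]
    rfl
  · intro h1
    apply hne'
    intro a
    rw [← hσ', ← hτ', ← map_pow]
    have h2 := h1 (σ' a)
    rw [RingEquiv.trans_apply, σ'.symm_apply_apply] at h2
    rw [h2]
  · rw [hg]
    constructor
    · rintro ⟨x, hx⟩
      exact ⟨x.1, x.2, hx⟩
    · rintro ⟨x, hx, hy⟩
      exact ⟨⟨x, hx⟩, hy⟩

end Cfsg.Agent.H920.Nine
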