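import Cfsg.Agent.H925.EvenFine

/-!
# Totally singular subspaces from isometric orthogonal pieces

* `ts_of_embeddings`: `s` pairs of isometric embeddings of a nondegenerate space `W` with an anti-isometry, with
  pairwise orthogonal images, give a totally singular subspace of dimension `s * dim W`.
* `exists_anti_prod`: `W × W` has an anti-isometry (finite field, any quadratic form).
* `exists_anti_even`: a nondegenerate quadratic space of even dimension over a finite field has an anti-isometry.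
-/

set_option autoImplicit false

namespace Cfsg.Agent.H920

open QuadraticMap Matrix

section General

variable {F V W : Type*} [Field F] [AddCommGroup V] [Module F V] [AddCommGroup W] [Module F W]

theorem polar_sum_right (Q : QuadraticForm F V) {κ : Type*} (s : Finset κ) (f : κ → V) (v : V) :
    polar Q v (∑ i ∈ s, f i) = ∑ i ∈ s, polar Q v (f i) := by
  exact map_sum (Q.polarBilin v) f s

theorem Q_add (Q : QuadraticForm F V) (x y : V) : Q (x + y) = Q x + Q y + polar Q x y := by
  rw [polar]; ring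

theorem Q_sum (Q : QuadraticForm F V) {κ : Type*} (s : Finset κ) (f : κ → V)
    (h : ∀ i ∈ s, ∀ j ∈ s, i ≠ j → polar Q (f i) (f j) = 0) :
    Q (∑ i ∈ s, f i) = ∑ i ∈ s, Q (f i) := by
  classical
  induction s using Finset.induction_on with
  | empty => simp
  | insert a s ha ih =>
    have hz : ∑ i ∈ s, polar Q (f a) (f i) = 0 := Finset.sum_eq_zero fun i hi =>
      h a (Finset.mem_insert_self a s) i (Finset.mem_insert_of_mem hi) (fun h' => ha (h' ▸ hi))
    rw [Finset.sum_insert ha, Finset.sum_insert ha, Q_add,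
      ih (fun i hi j hj hij => h i (Finset.mem_insert_of_mem hi) j (Finset.mem_insert_of_mem hj) hij),
      polar_sum_right, hz, add_zero]

/-- Pairs of isometric embeddings of a space with an anti-isometry span a large totally singular subspace. -/
theorem ts_of_embeddings [FiniteDimensional F W] (Q : QuadraticForm F V) (q : QuadraticForm F W)
    (hnd : ∀ w, (∀ x, polar q w x = 0) → w = 0) (ψ : W →ₗ[F] W) (hψ : ∀ w, q (ψ w) = - q w) {s : ℕ}
    (φ ρ : Fin s → W →ₗ[F] V) (hφ : ∀ j w, Q (φ j w) = q w) (hρ : ∀ j w, Q (ρ j w) = q w)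
    (h1 : ∀ i j, i ≠ j → ∀ x y, polar Q (φ i x) (φ j y) = 0)
    (h2 : ∀ i j, i ≠ j → ∀ x y, polar Q (ρ i x) (ρ j y) = 0)
    (h3 : ∀ i j x y, polar Q (φ i x) (ρ j y) = 0) :
    ∃ U : Submodule F V, (∀ u ∈ U, Q u = 0) ∧ Module.finrank F U = s * Module.finrank F W := by
  let T : (Fin s → W) →ₗ[F] V := ∑ j, (φ j + (ρ j).comp ψ).comp (LinearMap.proj j)
  have hT : ∀ w, T w = ∑ j, (φ j (w j) + ρ j (ψ (w j))) := by
    intro w
    simp only [T, LinearMap.sum_apply, LinearMap.comp_apply, LinearMap.add_apply, LinearMap.proj_apply]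
  have hpφ : ∀ j x y, polar Q (φ j x) (φ j y) = polar q x y := by
    intro j x y
    rw [polar, polar, ← map_add, hφ, hφ, hφ]
  have hsing : ∀ w, Q (T w) = 0 := by
    intro w
    rw [hT, Q_sum]
    · apply Finset.sum_eq_zero
      intro j _
      rw [Q_add, hφ, hρ, hψ, h3]
      ring
    · intro i _ j _ hij
      rw [polar_add_left, polar_add_right, polar_add_right, h1 i j hij, h3, h2 i j hij, polar_comm, h3]
      ring
  have hinj : Function.Injective T := by
    rw [injective_iff_map_eq_zero]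
    intro w hw
    funext j
    apply hnd
    intro x
    have h : polar Q (φ j x) (T w) = polar q x (w j) := by
      rw [hT, polar_sum_right, Finset.sum_eq_single j]
      · rw [polar_add_right, hpφ, h3, add_zero]
      · intro i _ hij
        rw [polar_add_right, h1 j i (Ne.symm hij), h3, add_zero]
      · intro h; exact absurd (Finset.mem_univ j) h
    rw [polar_comm, ← h, hw, polar_zero_right]
  refine ⟨LinearMap.range T, ?_, ?_⟩
  · rintro _ ⟨w, rfl⟩
    exact hsing w
  · rw [LinearMap.finrank_range_of_inj hinj, Module.finrank_pi_fintype]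
    simp

/-- `-1` is a sum of two squares in a finite field. -/
theorem exists_sq_add_sq [Finite F] : ∃ a b : F, a ^ 2 + b ^ 2 = -1 := by
  obtain ⟨p, hp⟩ := CharP.exists F
  have hpp : p.Prime := (CharP.char_is_prime_or_zero F p).resolve_right (CharP.char_ne_zero_of_finite F p)
  have : NeZero p := ⟨hpp.ne_zero⟩
  obtain ⟨a, b, h⟩ := CharP.sq_add_sq F p (-1)
  exact ⟨a, b, by rw [h]; simp⟩

/-- `W × W` has an anti-isometry, for every quadratic form on `W` over a finite field. -/
theorem exists_anti_prod [Finite F] (q : QuadraticForm F W) :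
    ∃ ψ : (W × W) →ₗ[F] (W × W), ∀ w, (q.prod q) (ψ w) = - (q.prod q) w := by
  obtain ⟨X, Y, hXY⟩ := exists_sq_add_sq (F := F)
  refine ⟨LinearMap.prod (X • LinearMap.fst F W W - Y • LinearMap.snd F W W)
    (Y • LinearMap.fst F W W + X • LinearMap.snd F W W), ?_⟩
  rintro ⟨x, y⟩
  show q (X • x - Y • y) + q (Y • x + X • y) = - (q x + q y)
  rw [sub_eq_add_neg, Q_add, Q_add, polar_neg_right, polar_smul_left,
    polar_smul_right, polar_smul_left, polar_smul_right, QuadraticMap.map_neg, QuadraticMap.map_smul,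
    QuadraticMap.map_smul, QuadraticMap.map_smul, QuadraticMap.map_smul]
  simp only [smul_eq_mul]
  linear_combination (q x + q y) * hXY

/-- `a X ^ 2 + b Y ^ 2 = c` is solvable over a finite field of odd order, `a, b ≠ 0`. -/
theorem exists_root_two [Fintype F] (h2 : (2 : F) ≠ 0) {a b : F} (ha : a ≠ 0) (hb : b ≠ 0) (c : F) :
    ∃ X Y : F, a * X ^ 2 + b * Y ^ 2 = c := by
  have hodd : Fintype.card F % 2 = 1 := by
    apply FiniteField.odd_card_of_char_ne_two
    intro h
    apply h2
    have := (ringChar.spec F 2).2 (by rw [h])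
    exact_mod_cast this
  obtain ⟨X, Y, h⟩ := FiniteField.exists_root_sum_quadratic (R := F)
    (f := Polynomial.C a * Polynomial.X ^ 2) (g := Polynomial.C b * Polynomial.X ^ 2 - Polynomial.C c)
    (by rw [Polynomial.degree_C_mul_X_pow 2 ha]; rfl)
    (by
      rw [Polynomial.degree_sub_eq_left_of_degree_lt]
      · rw [Polynomial.degree_C_mul_X_pow 2 hb]; rfl
      · rw [Polynomial.degree_C_mul_X_pow 2 hb]
        exact lt_of_le_of_lt Polynomial.degree_C_le (by norm_num)) hodd
  refine ⟨X, Y, ?_⟩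
  simp only [Polynomial.eval_mul, Polynomial.eval_C, Polynomial.eval_pow, Polynomial.eval_X,
    Polynomial.eval_sub] at h
  linear_combination h

theorem exists_anti_diag [Fintype F] (h2 : (2 : F) ≠ 0) {n : ℕ} (hn : Even n) (w : Fin n → Fˣ) :
    ∃ ψ : (Fin n → F) →ₗ[F] (Fin n → F), ∀ v,
      weightedSumSquares F w (ψ v) = - weightedSumSquares F w v := by
  obtain ⟨k, rfl⟩ := hn
  have hex : ∀ j : Fin k, ∃ X Y : F, (w (Fin.castAdd k j) : F) * X ^ 2 + (w (Fin.natAdd k j) : F) * Y ^ 2 =
      - (w (Fin.castAdd k j) : F) := fun j => exists_root_two h2 (Units.ne_zero _) (Units.ne_zero _) _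
  choose X Y hXY using hex
  let A : Fin k → (Fin (k + k) → F) →ₗ[F] F := fun j => X j • LinearMap.proj (Fin.castAdd k j) -
    ((w (Fin.natAdd k j) : F) / (w (Fin.castAdd k j) : F) * Y j) • LinearMap.proj (Fin.natAdd k j)
  let B : Fin k → (Fin (k + k) → F) →ₗ[F] F := fun j => Y j • LinearMap.proj (Fin.castAdd k j) +
    X j • LinearMap.proj (Fin.natAdd k j)
  refine ⟨LinearMap.pi (fun i => Fin.addCases (motive := fun _ => (Fin (k + k) → F) →ₗ[F] F) A B i), fun v => ?_⟩
  rw [weightedSumSquares_apply, weightedSumSquares_apply, Fin.sum_univ_add, Fin.sum_univ_add, ← Finset.sum_add_distrib,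
    ← Finset.sum_add_distrib, ← Finset.sum_neg_distrib]
  apply Finset.sum_congr rfl
  intro j _
  have ha : (w (Fin.castAdd k j) : F) ≠ 0 := Units.ne_zero _
  simp only [LinearMap.pi_apply, Fin.addCases_left, Fin.addCases_right, A, B, LinearMap.sub_apply,
    LinearMap.add_apply, LinearMap.smul_apply, LinearMap.proj_apply, smul_eq_mul, Units.smul_def]
  field_simp
  linear_combination ((w (Fin.castAdd k j) : F) * v (Fin.castAdd k j) ^ 2 +
    (w (Fin.natAdd k j) : F) * v (Fin.natAdd k j) ^ 2) * hXY j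

/-- A nondegenerate quadratic space of even dimension over a finite field has an anti-isometry. -/
theorem exists_anti_even [Fintype F] [FiniteDimensional F W] (q : QuadraticForm F W)
    (hnd : ∀ w, (∀ x, polar q w x = 0) → w = 0) (hev : Even (Module.finrank F W)) :
    ∃ ψ : W →ₗ[F] W, ∀ w, q (ψ w) = - q w := by
  by_cases h2 : (2 : F) = 0
  · refine ⟨LinearMap.id, fun w => ?_⟩
    have : q w + q w = 0 := by rw [← two_mul, h2, zero_mul]
    rw [LinearMap.id_apply]
    exact eq_neg_of_add_eq_zero_left this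
  have : Invertible (2 : F) := invertibleOfNonzero h2
  have hnd' : (QuadraticMap.associated (R := F) q).SeparatingLeft := by
    intro x hx
    apply hnd
    intro y
    have := hx y
    rw [QuadraticMap.associated_apply] at this
    have h3 : (2 : F) = 0 ∨ q (x + y) - (q x + q y) = 0 := by simpa [sub_sub] using this
    rw [polar, sub_sub]
    exact h3.resolve_left h2
  obtain ⟨w, ⟨e⟩⟩ := QuadraticForm.equivalent_weightedSumSquares_units_of_nondegenerate' q hnd'
  obtain ⟨ψ, hψ⟩ := exists_anti_diag h2 hev w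
  refine ⟨(e.symm : (Fin (Module.finrank F W) → F) →ₗ[F] W) ∘ₗ ψ ∘ₗ (e : W →ₗ[F] (Fin (Module.finrank F W) → F)),
    fun x => ?_⟩
  have h1 := hψ (e x)
  rw [e.map_app] at h1
  rw [← h1]
  exact e.symm.map_app (ψ (e x))

theorem ts_two_mul [FiniteDimensional F W] (Q : QuadraticForm F V) (q : QuadraticForm F W)
    (hnd : ∀ w, (∀ x, polar q w x = 0) → w = 0) (hψ : ∃ ψ : W →ₗ[F] W, ∀ w, q (ψ w) = - q w) {s : ℕ}
    (E : Fin s × Fin 2 → W →ₗ[F] V) (hE : ∀ j w, Q (E j w) = q w)
    (h1 : ∀ i j, i ≠ j → ∀ x y, polar Q (E i x) (E j y) = 0) :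
    ∃ U : Submodule F V, (∀ u ∈ U, Q u = 0) ∧ Module.finrank F U = s * Module.finrank F W := by
  obtain ⟨ψ, hψ⟩ := hψ
  refine ts_of_embeddings Q q hnd ψ hψ (fun j => E (j, 0)) (fun j => E (j, 1)) (fun j w => hE _ w)
    (fun j w => hE _ w) (fun i j hij x y => h1 _ _ ?_ x y) (fun i j hij x y => h1 _ _ ?_ x y)
    (fun i j x y => h1 _ _ ?_ x y)
  · intro h; exact hij (congrArg Prod.fst h)
  · intro h; exact hij (congrArg Prod.fst h)
  · intro h
    have := congrArg Prod.snd h
    exact absurd this (by simp)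

theorem ts_four_mul [Finite F] [FiniteDimensional F W] (Q : QuadraticForm F V) (q : QuadraticForm F W)
    (hnd : ∀ w, (∀ x, polar q w x = 0) → w = 0) {s : ℕ}
    (E : Fin s × Fin 4 → W →ₗ[F] V) (hE : ∀ j w, Q (E j w) = q w)
    (h1 : ∀ i j, i ≠ j → ∀ x y, polar Q (E i x) (E j y) = 0) :
    ∃ U : Submodule F V, (∀ u ∈ U, Q u = 0) ∧ Module.finrank F U = s * (2 * Module.finrank F W) := by
  obtain ⟨ψ, hψ⟩ := exists_anti_prod q
  have hne : ∀ (i j : Fin s) (a b : Fin 4), a ≠ b → ((i, a) : Fin s × Fin 4) ≠ (j, b) := by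
    intro i j a b hab h
    exact hab (congrArg Prod.snd h)
  have hne' : ∀ (i j : Fin s) (a b : Fin 4), i ≠ j → ((i, a) : Fin s × Fin 4) ≠ (j, b) := by
    intro i j a b hab h
    exact hab (congrArg Prod.fst h)
  have hnd' : ∀ w : W × W, (∀ x, polar (q.prod q) w x = 0) → w = 0 := by
    rintro ⟨a, b⟩ h
    have ha : a = 0 := by
      apply hnd
      intro x
      have := h (x, 0)
      simpa [polar, QuadraticMap.prod_apply] using this
    have hb : b = 0 := by
      apply hnd
      intro x
      have := h (0, x)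
      simpa [polar, QuadraticMap.prod_apply] using this
    rw [ha, hb]; rfl
  obtain ⟨U, hU, hU'⟩ := ts_of_embeddings Q (q.prod q) hnd' ψ hψ
    (fun j => (E (j, 0)).comp (LinearMap.fst F W W) + (E (j, 1)).comp (LinearMap.snd F W W))
    (fun j => (E (j, 2)).comp (LinearMap.fst F W W) + (E (j, 3)).comp (LinearMap.snd F W W))
    (by
      rintro j ⟨x, y⟩
      show Q (E (j, 0) x + E (j, 1) y) = q x + q y
      rw [Q_add, hE, hE, h1 _ _ (hne j j 0 1 (by decide)), add_zero])
    (by
      rintro j ⟨x, y⟩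
      show Q (E (j, 2) x + E (j, 3) y) = q x + q y
      rw [Q_add, hE, hE, h1 _ _ (hne j j 2 3 (by decide)), add_zero])
    (by
      rintro i j hij ⟨x, y⟩ ⟨x', y'⟩
      show polar Q (E (i, 0) x + E (i, 1) y) (E (j, 0) x' + E (j, 1) y') = 0
      rw [polar_add_left, polar_add_right, polar_add_right, h1 _ _ (hne' i j _ _ hij), h1 _ _ (hne' i j _ _ hij),
        h1 _ _ (hne' i j _ _ hij), h1 _ _ (hne' i j _ _ hij)]
      ring)
    (by
      rintro i j hij ⟨x, y⟩ ⟨x', y'⟩
      show polar Q (E (i, 2) x + E (i, 3) y) (E (j, 2) x' + E (j, 3) y') = 0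
      rw [polar_add_left, polar_add_right, polar_add_right, h1 _ _ (hne' i j _ _ hij), h1 _ _ (hne' i j _ _ hij),
        h1 _ _ (hne' i j _ _ hij), h1 _ _ (hne' i j _ _ hij)]
      ring)
    (by
      rintro i j ⟨x, y⟩ ⟨x', y'⟩
      show polar Q (E (i, 0) x + E (i, 1) y) (E (j, 2) x' + E (j, 3) y') = 0
      rw [polar_add_left, polar_add_right, polar_add_right, h1 _ _ (hne i j 0 2 (by decide)),
        h1 _ _ (hne i j 0 3 (by decide)), h1 _ _ (hne i j 1 2 (by decide)), h1 _ _ (hne i j 1 3 (by decide))]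
      ring)
  refine ⟨U, hU, ?_⟩
  rw [hU', Module.finrank_prod, two_mul]

end General

section Geo

variable {ι : Type} [Fintype ι] [DecidableEq ι] {F : Type*} [Field F]

/-- An orthogonal decomposition into `t` isometric pieces of dimension `m`, with `t` and `m` even or `4 ∣ t`, forces
plus type. -/
theorem plus_of_decomposition [Fintype F] {Q : (ι → F) → F} (hQ : Geo.IsNondegenerateQuadraticForm Q) {t m : ℕ}
    {D : Fin t → Submodule F (ι → F)} (hD : Geo.IsOrthogonalMDecomposition Q m D)
    (hev : (Even m ∧ Even t) ∨ 4 ∣ t) : Geo.IsPlusTypeOn Q ⊤ := by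
  have htm : t * m = Fintype.card ι := H922.mul_eq_card hD.decomp.decomp
  have h2t := hD.decomp.decomp.two_le
  have h0t : 0 < t := by omega
  let z : Fin t := ⟨0, h0t⟩
  choose e he using hD.isometric z
  let q : QuadraticForm F (D z) := (H925.qf hQ).comp (D z).subtype
  have hq : ∀ w : D z, q w = Q w := fun w => rfl
  have hpq : ∀ w x : D z, polar q w x = polar Q w x := fun w x => rfl
  have hnd : ∀ w, (∀ x, polar q w x = 0) → w = 0 := by
    intro w hw
    by_contra hne
    obtain ⟨x, hx, hx'⟩ := (hD.decomp.nondegenerate z w w.2 (fun h => hne (Subtype.ext h))).2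
    exact hx' (hw ⟨x, hx⟩)
  let E : Fin t → (D z →ₗ[F] (ι → F)) := fun i => (D i).subtype.comp (e i : D z →ₗ[F] D i)
  have hE : ∀ i w, H925.qf hQ (E i w) = q w := fun i w => he i w
  have hort : ∀ i j, i ≠ j → ∀ x y, polar (H925.qf hQ) (E i x) (E j y) = 0 := fun i j hij x y =>
    hD.decomp.orthogonal i j hij _ (e i x).2 _ (e j y).2
  have hfr : Module.finrank F (D z) = m := hD.decomp.decomp.finrank_eq z
  rcases hev with ⟨hm, ⟨s, hs⟩⟩ | ⟨s, hs⟩
  · have hs' : s * 2 = t := by omega
    obtain ⟨U, hU, hU'⟩ := ts_two_mul (H925.qf hQ) q hnd (exists_anti_even q hnd (hfr ▸ hm))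
      (fun p => E (finCongr hs' (finProdFinEquiv p))) (fun p w => hE _ w)
      (fun i j hij x y => hort _ _ (fun h => hij (by simpa using h)) x y)
    refine ⟨U, le_top, hU, ?_⟩
    rw [hU', hfr, finrank_top, Module.finrank_fintype_fun_eq_card, ← htm, ← hs']
    ring
  · have hs' : s * 4 = t := by omega
    obtain ⟨U, hU, hU'⟩ := ts_four_mul (H925.qf hQ) q hnd
      (fun p => E (finCongr hs' (finProdFinEquiv p))) (fun p w => hE _ w)
      (fun i j hij x y => hort _ _ (fun h => hij (by simpa using h)) x y)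
    refine ⟨U, le_top, hU, ?_⟩
    rw [hU', hfr, finrank_top, Module.finrank_fintype_fun_eq_card, ← htm, ← hs']
    ring

end Geo

end Cfsg.Agent.H920
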