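import Cfsg.Agent.H920.PlusA
import Cfsg.Agent.H921.SympDim

/-!
# Extraspecial `2`-groups of isometries force plus type

* `plus_of_anticomm`: isometries `x, y` of `Q` with `x² = 1`, `y x = - x y`, `4 ∣ n`, odd characteristic: plus type.
* `plus_of_symplecticType`: `R ≤ O(Q)` absolutely irreducible of symplectic type, `|R| > 8`: plus type.
-/

set_option autoImplicit false

namespace Cfsg.Agent.H920

open QuadraticMap Matrix

section

variable {ι : Type} [Fintype ι] [DecidableEq ι] {F : Type*} [Field F]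

theorem plus_of_anticomm [Fintype F] {Q : (ι → F) → F} (hQ : Geo.IsNondegenerateQuadraticForm Q) (h2 : (2 : F) ≠ 0)
    (h4 : 4 ∣ Fintype.card ι) {x y : GL ι F} (hx : x ∈ Cfsg.isometryGroup F Q) (hy : y ∈ Cfsg.isometryGroup F Q)
    (hxx : x * x = 1) (hxy : (y : Matrix ι ι F) * (x : Matrix ι ι F) = - ((x : Matrix ι ι F) * (y : Matrix ι ι F))) :
    Geo.IsPlusTypeOn Q ⊤ := by
  have hxx' : ∀ v, (x : Matrix ι ι F) *ᵥ ((x : Matrix ι ι F) *ᵥ v) = v := by
    intro v
    rw [Matrix.mulVec_mulVec, ← Units.val_mul, hxx, Units.val_one, Matrix.one_mulVec]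
  have hxy' : ∀ v, (x : Matrix ι ι F) *ᵥ ((y : Matrix ι ι F) *ᵥ v) =
      - ((y : Matrix ι ι F) *ᵥ ((x : Matrix ι ι F) *ᵥ v)) := by
    intro v
    rw [Matrix.mulVec_mulVec, Matrix.mulVec_mulVec, hxy, Matrix.neg_mulVec, neg_neg]
  let D0 : Submodule F (ι → F) := LinearMap.ker (Matrix.toLin' (x : Matrix ι ι F) - LinearMap.id)
  have hD0 : ∀ v, v ∈ D0 ↔ (x : Matrix ι ι F) *ᵥ v = v := by
    intro v
    rw [LinearMap.mem_ker, LinearMap.sub_apply, Matrix.toLin'_apply, LinearMap.id_apply, sub_eq_zero]
  let yl : (ι → F) →ₗ[F] (ι → F) := Matrix.toLin' (y : Matrix ι ι F)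
  have hyl : ∀ v, yl v = (y : Matrix ι ι F) *ᵥ v := fun v => Matrix.toLin'_apply _ _
  have hyinj : Function.Injective yl := by
    intro a b hab
    rw [hyl, hyl] at hab
    have := congrArg (fun v => ((y⁻¹ : GL ι F) : Matrix ι ι F) *ᵥ v) hab
    simpa [Matrix.mulVec_mulVec, ← Units.val_mul] using this
  let D1 : Submodule F (ι → F) := D0.map yl
  have hD1 : ∀ v, v ∈ D1 ↔ (x : Matrix ι ι F) *ᵥ v = - v := by
    intro v
    constructor
    · rintro ⟨w, hw, rfl⟩
      rw [hyl, hxy', (hD0 w).1 hw]
    · intro hv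
      refine ⟨((y⁻¹ : GL ι F) : Matrix ι ι F) *ᵥ v, ?_, ?_⟩
      · apply (hD0 _).2
        apply hyinj
        have h1 : (y : Matrix ι ι F) *ᵥ (((y⁻¹ : GL ι F) : Matrix ι ι F) *ᵥ v) = v := by
          rw [Matrix.mulVec_mulVec, ← Units.val_mul]; simp
        have h3 := hxy' (((y⁻¹ : GL ι F) : Matrix ι ι F) *ᵥ v)
        rw [h1, hv] at h3
        rw [hyl, hyl, h1]
        exact (neg_injective h3).symm
      · rw [hyl, Matrix.mulVec_mulVec, ← Units.val_mul]; simp
  have hinf : D0 ⊓ D1 = ⊥ := by
    rw [eq_bot_iff]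
    rintro v ⟨h1, h3⟩
    have e1 := (hD0 v).1 h1
    have e2 := (hD1 v).1 h3
    rw [e1] at e2
    have e3 : (2 : F) • v = 0 := by
      rw [two_smul]; nth_rewrite 1 [e2]; exact neg_add_cancel v
    exact (smul_eq_zero.1 e3).resolve_left h2
  have hsup : D0 ⊔ D1 = ⊤ := by
    rw [eq_top_iff]
    intro v _
    have e : v = (2 : F)⁻¹ • (v + (x : Matrix ι ι F) *ᵥ v) + (2 : F)⁻¹ • (v - (x : Matrix ι ι F) *ᵥ v) := by
      rw [← smul_add, add_add_sub_cancel, ← two_smul F v, smul_smul, inv_mul_cancel₀ h2, one_smul]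
    rw [e]
    apply Submodule.add_mem_sup
    · apply Submodule.smul_mem
      rw [hD0, Matrix.mulVec_add, hxx', add_comm]
    · apply Submodule.smul_mem
      rw [hD1, Matrix.mulVec_sub, hxx', neg_sub]
  have hfr1 : Module.finrank F D1 = Module.finrank F D0 := (LinearEquiv.finrank_eq (Submodule.equivMapOfInjective yl hyinj D0)).symm
  have hfr : 2 * Module.finrank F D0 = Fintype.card ι := by
    have h := Submodule.finrank_sup_add_finrank_inf_eq D0 D1
    rw [hinf, hsup, finrank_top, finrank_bot, Module.finrank_fintype_fun_eq_card, hfr1] at h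
    omega
  have hort : ∀ u ∈ D0, ∀ v ∈ D1, polar Q u v = 0 := by
    intro u hu v hv
    have h1 := H925.polar_iso hx u v
    rw [(hD0 u).1 hu, (hD1 v).1 hv] at h1
    have h3 : polar Q u (-v) = - polar Q u v := by
      have := hQ.polar_bilinear.smul_right (-1) u v
      rwa [neg_one_smul, neg_one_mul] at this
    rw [h3] at h1
    have h5 : (2 : F) * polar Q u v = 0 := by linear_combination -h1
    exact (mul_eq_zero.1 h5).resolve_left h2
  let q : QuadraticForm F D0 := (H925.qf hQ).comp D0.subtype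
  have hnd : ∀ w, (∀ x, polar q w x = 0) → w = 0 := by
    intro w hw
    by_contra hne
    obtain ⟨u, hu⟩ := (hQ.nondegenerate (w : ι → F) (fun h => hne (Subtype.ext h))).2
    obtain ⟨a, ha, b, hb, rfl⟩ := Submodule.mem_sup.1 (by rw [hsup]; trivial : u ∈ D0 ⊔ D1)
    apply hu
    rw [hQ.polar_bilinear.add_right, hort w w.2 b hb, add_zero]
    exact hw ⟨a, ha⟩
  obtain ⟨k, hk⟩ := h4
  obtain ⟨U, hU, hU'⟩ := ts_two_mul (s := 1) (H925.qf hQ) q hnd
    (exists_anti_even q hnd ⟨k, by omega⟩)
    (fun p => if p.2 = 0 then D0.subtype else yl.comp D0.subtype)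
    (by
      rintro ⟨i, j⟩ w
      dsimp only
      split_ifs with h
      · rfl
      · show Q (yl w) = Q w
        rw [hyl]
        exact H925.mem_iso_iff.1 hy w)
    (by
      rintro ⟨i, j⟩ ⟨i', j'⟩ hij u v
      dsimp only
      have hii : i = i' := Subsingleton.elim _ _
      have hjj : j ≠ j' := fun h => hij (by rw [hii, h])
      split_ifs with h h' h'
      · exact absurd (h.trans h'.symm) hjj
      · exact hort _ u.2 _ ⟨v, v.2, rfl⟩
      · rw [polar_comm]
        exact hort _ v.2 _ ⟨u, u.2, rfl⟩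
      · exfalso; apply hjj
        fin_cases j <;> fin_cases j' <;> simp_all)
  refine ⟨U, le_top, hU, ?_⟩
  rw [hU', finrank_top, Module.finrank_fintype_fun_eq_card, ← hfr]
  ring

/-- A group with `x² ∈ {1, z}`, `[x, y] ∈ {1, z}` for all `x, y`, centre of order two and more than eight elements
has a noncentral element of order two. -/
theorem exists_noncentral_involution {R : Type*} [Group R] [Finite R] {z : R} (hzc : z ∈ Subgroup.center R)
    (hz2 : z * z = 1) (hcomm : ∀ x y : R, x * y * x⁻¹ * y⁻¹ = 1 ∨ x * y * x⁻¹ * y⁻¹ = z)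
    (hsq : ∀ x : R, x * x = 1 ∨ x * x = z) (hZ : Nat.card (Subgroup.center R) = 2) (hR : 8 < Nat.card R) :
    ∃ x : R, x ∉ Subgroup.center R ∧ x * x = 1 := by
  classical
  by_contra hcon
  push Not at hcon
  have hsq' : ∀ x : R, x ∉ Subgroup.center R → x * x = z := fun x hx => (hsq x).resolve_left (hcon x hx)
  -- a noncentral element
  have hne : ∃ x₀ : R, x₀ ∉ Subgroup.center R := by
    by_contra h
    push Not at h
    have : Subgroup.center R = ⊤ := by rw [eq_top_iff]; exact fun x _ => h x
    rw [this, Subgroup.card_top] at hZ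
    omega
  obtain ⟨x₀, hx₀⟩ := hne
  have hx₀z := hsq' x₀ hx₀
  have hzx : ∀ g : R, z * g = g * z := fun g => ((Subgroup.mem_center_iff.1 hzc) g).symm
  -- the centraliser
  let C : Set R := {y | x₀ * y = y * x₀}
  have hC : ∀ y ∈ C, y ∈ Subgroup.center R ∨ x₀ * y ∈ Subgroup.center R := by
    intro y hy
    by_contra h
    push Not at h
    have h1 := hsq' y h.1
    have h2 := hsq' (x₀ * y) h.2
    have hy' : x₀ * y = y * x₀ := hy
    have h3 : x₀ * y * (x₀ * y) = 1 := by
      calc x₀ * y * (x₀ * y) = x₀ * (y * x₀) * y := by group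
        _ = x₀ * (x₀ * y) * y := by rw [hy']
        _ = (x₀ * x₀) * (y * y) := by group
        _ = 1 := by rw [hx₀z, h1, hz2]
    rw [h3] at h2
    -- `z = 1`
    have h4 : x₀ * x₀ = 1 := by rw [hx₀z, ← h2]
    exact hcon x₀ hx₀ h4
  have hcard1 : Nat.card C ≤ 4 := by
    let f : C → Bool × Subgroup.center R := fun y =>
      if h : (y : R) ∈ Subgroup.center R then (true, ⟨y, h⟩)
      else (false, ⟨x₀ * y, (hC y y.2).resolve_left h⟩)
    have hf : Function.Injective f := by
      intro a b hab
      by_cases ha : (a : R) ∈ Subgroup.center R <;> by_cases hb : (b : R) ∈ Subgroup.center R <;>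
        simp only [f, ha, hb, dif_pos, dif_neg, not_false_iff, Prod.mk.injEq, Subtype.mk.injEq, reduceCtorEq,
          false_and, true_and, mul_right_inj] at hab
      · exact Subtype.ext hab
      · exact Subtype.ext hab
    have h := Nat.card_le_card_of_injective f hf
    rw [Nat.card_prod, hZ] at h
    simpa using h
  have hcard2 : Nat.card R ≤ 2 * Nat.card C := by
    by_cases hall : ∀ y : R, y ∈ C
    · have : Nat.card R = Nat.card C := (Nat.card_congr (Equiv.subtypeUnivEquiv hall)).symm
      omega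
    · push Not at hall
      obtain ⟨y₀, hy₀⟩ := hall
      have hcz : ∀ y : R, y ∉ C → x₀ * y = z * (y * x₀) := by
        intro y hy
        rcases hcomm x₀ y with h | h
        · exfalso; apply hy
          show x₀ * y = y * x₀
          calc x₀ * y = (x₀ * y * x₀⁻¹ * y⁻¹) * (y * x₀) := by group
            _ = y * x₀ := by rw [h, one_mul]
        · calc x₀ * y = (x₀ * y * x₀⁻¹ * y⁻¹) * (y * x₀) := by group
            _ = z * (y * x₀) := by rw [h]
      have hmem : ∀ y : R, y ∉ C → y₀⁻¹ * y ∈ C := by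
        intro y hy
        show x₀ * (y₀⁻¹ * y) = y₀⁻¹ * y * x₀
        have h1 := hcz y hy
        have h2 := hcz y₀ hy₀
        have h3 : y₀ * (x₀ * (y₀⁻¹ * y)) = y₀ * (y₀⁻¹ * y * x₀) := by
          have h4 : y₀ * x₀ = z⁻¹ * (x₀ * y₀) := by rw [h2]; group
          calc y₀ * (x₀ * (y₀⁻¹ * y)) = (y₀ * x₀) * (y₀⁻¹ * y) := by group
            _ = z⁻¹ * (x₀ * y₀) * (y₀⁻¹ * y) := by rw [h4]
            _ = z⁻¹ * (x₀ * y) := by group
            _ = y * x₀ := by rw [h1]; group
            _ = y₀ * (y₀⁻¹ * y * x₀) := by group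
        exact mul_left_cancel h3
      let f : R → Bool × C := fun y => if h : y ∈ C then (true, ⟨y, h⟩) else (false, ⟨y₀⁻¹ * y, hmem y h⟩)
      have hf : Function.Injective f := by
        intro a b hab
        by_cases ha : a ∈ C <;> by_cases hb : b ∈ C <;>
          simp only [f, ha, hb, dif_pos, dif_neg, not_false_iff, Prod.mk.injEq, Subtype.mk.injEq, reduceCtorEq,
            false_and, true_and, mul_right_inj] at hab
        · exact hab
        · exact hab
      have h := Nat.card_le_card_of_injective f hf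
      rw [Nat.card_prod] at h
      simpa using h
  omega

/-- An absolutely irreducible group of isometries of symplectic type with more than eight elements modulo a small
centre: the quadratic form has plus type. -/
theorem plus_of_symplecticType [Fintype F] {Q : (ι → F) → F} (hQ : Geo.IsNondegenerateQuadraticForm Q)
    (h2 : (2 : F) ≠ 0) (h4 : 4 ∣ Fintype.card ι) (h0 : 0 < Fintype.card ι) {R : Subgroup (GL ι F)}
    (hR : R ≤ Cfsg.isometryGroup F Q)
    (habs : Geo.ActsAbsolutelyIrreducibly (Geo.matrixSet R)) (hS : Geo.IsSymplecticTypeGroup 2 R)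
    (hev : Even (Nat.card (Subgroup.center R))) (hbig : 8 < Nat.card R) : Geo.IsPlusTypeOn Q ⊤ := by
  have : Nonempty ι := Fintype.card_pos_iff.1 h0
  have hfin : Finite R := by classical infer_instance
  -- a nonsingular vector
  obtain ⟨v₀, hv₀⟩ : ∃ v, Q v ≠ 0 := by
    by_contra h
    push Not at h
    obtain ⟨v, hv⟩ := exists_ne (0 : ι → F)
    obtain ⟨u, hu⟩ := (hQ.nondegenerate v hv).2
    apply hu
    rw [polar, h, h, h]; ring
  -- the centre
  have hcen : ∀ z : R, z ∈ Subgroup.center R → z = 1 ∨ ((z : GL ι F) : Matrix ι ι F) = -1 := by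
    intro z hz
    obtain ⟨c, hc⟩ := H921.center_scalar habs z hz
    have h1 := H925.mem_iso_iff.1 (hR z.2) v₀
    rw [hc, Matrix.smul_mulVec, Matrix.one_mulVec, hQ.smul] at h1
    have h3 : c ^ 2 = 1 := mul_right_cancel₀ hv₀ (by rw [h1, one_mul])
    rcases mul_self_eq_one_iff.1 (by rwa [pow_two] at h3) with h | h
    · left
      apply Subtype.ext
      apply Units.ext
      rw [hc, h, one_smul]; rfl
    · right
      rw [hc, h, neg_one_smul]
  have hpos : 0 < Nat.card (Subgroup.center R) := Nat.card_pos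
  obtain ⟨⟨z, hzc⟩, hz⟩ := exists_prime_orderOf_dvd_card' (G := Subgroup.center R) 2 hev.two_dvd
  have hzo : orderOf z = 2 := by
    rw [← hz]; exact (Subgroup.orderOf_mk z hzc).symm
  have hz1 : z ≠ 1 := by
    rintro rfl; rw [orderOf_one] at hzo; exact absurd hzo (by norm_num)
  have hzz : z * z = 1 := by rw [← pow_two, ← hzo, pow_orderOf_eq_one]
  have hzm : ((z : GL ι F) : Matrix ι ι F) = -1 := (hcen z hzc).resolve_left hz1
  have hcard : Nat.card (Subgroup.center R) = 2 := by
    have hset : ((Subgroup.center R : Subgroup R) : Set R) = {1, z} := by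
      ext w
      simp only [SetLike.mem_coe, Set.mem_insert_iff, Set.mem_singleton_iff]
      constructor
      · intro hw
        rcases hcen w hw with h | h
        · exact Or.inl h
        · right
          apply Subtype.ext
          apply Units.ext
          rw [h, hzm]
      · rintro (rfl | rfl)
        · exact Subgroup.one_mem _
        · exact hzc
    have : Nat.card (Subgroup.center R) = ((Subgroup.center R : Subgroup R) : Set R).ncard := rfl
    rw [this, hset, Set.ncard_pair (Ne.symm hz1)]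
  have hexp : Monoid.exponent R = 4 := by rw [hS.exponent_eq]; norm_num
  have h4' : ∀ q : R, q ^ 4 = 1 := fun q => by rw [← hexp]; exact Monoid.pow_exponent_eq_one q
  obtain ⟨hc1, hc2, -⟩ := ClassificationK.SymplecticExpFour.structure_exp_four
    ⟨hS.pGroup, hS.cyclic_of_characteristic⟩ h4' hzo hzc
  obtain ⟨x, hx, hxx⟩ := exists_noncentral_involution hzc hzz
    (fun x y => by simpa [commutatorElement_def] using hc1 x y) (fun x => by simpa [pow_two] using hc2 x) hcard hbig
  obtain ⟨y, hy⟩ : ∃ y : R, y * x ≠ x * y := by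
    by_contra h
    push Not at h
    exact hx (Subgroup.mem_center_iff.2 h)
  have hyx : y * x = z * (x * y) := by
    rcases hc1 y x with h | h
    · exfalso; apply hy
      rw [commutatorElement_def] at h
      calc y * x = (y * x * y⁻¹ * x⁻¹) * (x * y) := by group
        _ = x * y := by rw [h, one_mul]
    · rw [commutatorElement_def] at h
      calc y * x = (y * x * y⁻¹ * x⁻¹) * (x * y) := by group
        _ = z * (x * y) := by rw [h]
  refine plus_of_anticomm hQ h2 h4 (hR x.2) (hR y.2) ?_ ?_
  · have := congrArg Subtype.val hxx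
    simpa using this
  · have := congrArg (fun w : R => ((w : GL ι F) : Matrix ι ι F)) hyx
    simp only [Subgroup.coe_mul, Units.val_mul] at this
    rw [this, hzm, neg_mul, one_mul]

end

end Cfsg.Agent.H920
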