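import Cfsg.Agent.H920.PlusB
import Cfsg.Agent.H932.TensAlt
import Cfsg.Agent.H919.AschWreathForm4
import Cfsg.Agent.H924.TensorTwo

/-!
# Plus type from tensor decompositions

* `plus_of_coords` : half of the columns of `P` span a totally singular subspace;
* `plus_of_tensor_two` : a tensor decomposition `2 × n₂` with alternating factors and singular pure tensors;
* `plus_of_power_two` : a tensor power of a two-dimensional alternating form, singular pure tensors.
-/

set_option autoImplicit false

namespace Cfsg.Agent.H920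

open QuadraticMap Matrix Cfsg Cfsg.Geo
open Cfsg.Agent.H919 (HermForm WreathData)

variable {ι : Type} [Fintype ι] [DecidableEq ι] {F : Type*} [Field F]

theorem plus_of_coords {Q : (ι → F) → F} (hQ : IsNondegenerateQuadraticForm Q) (P : GL ι F) (S : Finset ι)
    (hS : 2 * S.card = Fintype.card ι)
    (h1 : ∀ j ∈ S, Q ((P : Matrix ι ι F) *ᵥ Pi.single j 1) = 0)
    (h2 : ∀ j ∈ S, ∀ k ∈ S, j ≠ k →
      polar Q ((P : Matrix ι ι F) *ᵥ Pi.single j 1) ((P : Matrix ι ι F) *ᵥ Pi.single k 1) = 0) :
    IsPlusTypeOn Q ⊤ := by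
  classical
  let u : S → (ι → F) := fun j => (P : Matrix ι ι F) *ᵥ Pi.single (j : ι) 1
  have hli : LinearIndependent F u := by
    have h3 : LinearIndependent F (fun j : ι => (Pi.single j 1 : ι → F)) := by
      have := (Pi.basisFun F ι).linearIndependent
      convert this using 1
      funext j; simp
    have h4 := h3.comp (fun j : S => (j : ι)) Subtype.val_injective
    have h5 := h4.map' (Matrix.toLin' (P : Matrix ι ι F)) (by
      rw [LinearMap.ker_eq_bot]
      intro a b hab
      rw [Matrix.toLin'_apply, Matrix.toLin'_apply] at hab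
      have := congrArg (fun v => ((P⁻¹ : GL ι F) : Matrix ι ι F) *ᵥ v) hab
      simpa [Matrix.mulVec_mulVec, ← Units.val_mul] using this)
    have h6 : u = (⇑(Matrix.toLin' (P : Matrix ι ι F)) ∘ (fun j : ι => (Pi.single j 1 : ι → F)) ∘
        fun j : S => (j : ι)) := by
      funext j
      simp only [u, Function.comp_apply, Matrix.toLin'_apply]
    rw [h6]
    exact h5
  refine ⟨Submodule.span F (Set.range u), le_top, ?_, ?_⟩
  · intro w hw
    obtain ⟨c, rfl⟩ := (Submodule.mem_span_range_iff_exists_fun F).1 hw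
    have := Q_sum (H925.qf hQ) Finset.univ (fun j : S => c j • u j) (by
      intro i _ j _ hij
      have : polar Q (c i • u i) (c j • u j) = 0 := by
        rw [hQ.polar_bilinear.smul_left, hQ.polar_bilinear.smul_right, h2 i i.2 j j.2 (fun h => hij (Subtype.ext h))]
        ring
      exact this)
    have h6 : Q (∑ i, c i • u i) = ∑ i, Q (c i • u i) := this
    rw [h6]
    apply Finset.sum_eq_zero
    intro j _
    rw [hQ.smul, h1 j j.2, mul_zero]
  · rw [finrank_span_eq_card hli, finrank_top, Module.finrank_fintype_fun_eq_card, ← hS]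
    simp

omit [Fintype ι] in
theorem single_comp {κ : Type} [Fintype κ] [DecidableEq κ] (e : ι ≃ κ) (j : ι) :
    (Pi.single (e j) (1 : F) : κ → F) ∘ e = Pi.single j 1 := by
  funext i
  simp only [Function.comp_apply, Pi.single_apply, EmbeddingLike.apply_eq_iff_eq]

theorem pt_single {n₁ n₂ : ℕ} (a : Fin n₁) (b : Fin n₂) :
    (fun p : Fin n₁ × Fin n₂ => (Pi.single a (1 : F) : Fin n₁ → F) p.1 * (Pi.single b (1 : F) : Fin n₂ → F) p.2) =
      Pi.single (a, b) 1 := by
  funext ⟨x, y⟩
  simp only [Pi.single_apply, Prod.mk.injEq]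
  by_cases h1 : x = a <;> by_cases h2 : y = b <;> simp [h1, h2]

/-- A tensor decomposition `2 × n₂` with alternating first factor and singular pure tensors forces plus type. -/
theorem plus_of_tensor_two {Q : (ι → F) → F} (hQ : IsNondegenerateQuadraticForm Q) {n₂ : ℕ} {ε₁ ε₂ : F}
    {f₁ : (Fin 2 → F) → (Fin 2 → F) → F} {f₂ : (Fin n₂ → F) → (Fin n₂ → F) → F}
    (h1 : HermForm (RingEquiv.refl F) ε₁ f₁) (h2 : HermForm (RingEquiv.refl F) ε₂ f₂)
    (halt : ∀ w, f₁ w w = 0) {e : ι ≃ Fin 2 × Fin n₂} {P : GL ι F}
    (h : IsTensorFormStructure (RingEquiv.refl F) (polar Q) f₁ f₂ e P)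
    (hpure : ∀ (v : Fin 2 → F) (w : Fin n₂ → F),
      Q ((P : Matrix ι ι F) *ᵥ ((fun a : Fin 2 × Fin n₂ => v a.1 * w a.2) ∘ e)) = 0) : IsPlusTypeOn Q ⊤ := by
  classical
  have hcol : ∀ j : ι, (P : Matrix ι ι F) *ᵥ Pi.single j 1 = (P : Matrix ι ι F) *ᵥ
      ((fun a : Fin 2 × Fin n₂ => (Pi.single (e j).1 (1 : F) : Fin 2 → F) a.1 *
        (Pi.single (e j).2 (1 : F) : Fin n₂ → F) a.2) ∘ e) := by
    intro j
    rw [pt_single, single_comp]
  obtain ⟨c, hc, hpt⟩ := H912.form_pt h1 h2 h
  refine plus_of_coords hQ P (Finset.univ.filter (fun j => (e j).1 = 0)) ?_ ?_ ?_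
  · have hcard : (Finset.univ.filter (fun j => (e j).1 = 0)).card = n₂ := by
      rw [← Fintype.card_subtype]
      have e1 : {j : ι // (e j).1 = 0} ≃ Fin n₂ :=
        { toFun := fun j => (e j).2
          invFun := fun b => ⟨e.symm (0, b), by simp⟩
          left_inv := by
            rintro ⟨j, hj⟩
            apply Subtype.ext
            apply e.injective
            rw [Equiv.apply_symm_apply]
            exact Prod.ext hj.symm rfl
          right_inv := fun b => by simp }
      rw [Fintype.card_congr e1, Fintype.card_fin]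
    rw [hcard, Fintype.card_congr e, Fintype.card_prod, Fintype.card_fin, Fintype.card_fin]
  · intro j _
    rw [hcol]
    exact hpure _ _
  · intro j hj k hk _
    rw [hcol j, hcol k]
    have h3 := hpt (Pi.single (e j).1 (1 : F)) (Pi.single (e k).1 (1 : F)) (Pi.single (e j).2 (1 : F))
      (Pi.single (e k).2 (1 : F))
    have hj' := (Finset.mem_filter.1 hj).2
    have hk' := (Finset.mem_filter.1 hk).2
    rw [hj', hk', halt] at h3
    rw [hj', hk']
    refine Eq.trans ?_ (h3.trans (by ring))
    rfl

/-- A tensor power of a two-dimensional alternating form with singular pure tensors forces plus type. -/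
theorem plus_of_power_two {Q : (ι → F) → F} (hQ : IsNondegenerateQuadraticForm Q) {s : ℕ}
    {f₁ : (Fin 2 → F) → (Fin 2 → F) → F} (halt : ∀ w, f₁ w w = 0) {e : ι ≃ (Fin (s + 1) → Fin 2)} {P : GL ι F}
    (h : IsTensorPowerFormStructure id (polar Q) f₁ e P)
    (hpure : ∀ w : Fin (s + 1) → (Fin 2 → F), Q (H919.framePure e P w) = 0) : IsPlusTypeOn Q ⊤ := by
  classical
  have hcol : ∀ j : ι, (P : Matrix ι ι F) *ᵥ Pi.single j 1 =
      H919.framePure e P (fun i => Pi.single (e j i) 1) := by
    intro j
    rw [H919.framePure, ← H919.single_eq_pureVec, single_comp]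
  obtain ⟨c, hc, hpt⟩ := h
  refine plus_of_coords hQ P (Finset.univ.filter (fun j => e j 0 = 0)) ?_ ?_ ?_
  · have hcard : (Finset.univ.filter (fun j => e j 0 = 0)).card = 2 ^ s := by
      rw [← Fintype.card_subtype]
      have e1 : {j : ι // e j 0 = 0} ≃ (Fin s → Fin 2) :=
        { toFun := fun j => Fin.tail (e j)
          invFun := fun b => ⟨e.symm (Fin.cons 0 b), by simp⟩
          left_inv := by
            rintro ⟨j, hj⟩
            apply Subtype.ext
            apply e.injective
            rw [Equiv.apply_symm_apply]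
            conv_rhs => rw [← Fin.cons_self_tail (e j), hj]
          right_inv := fun b => by simp }
      rw [Fintype.card_congr e1, Fintype.card_fun, Fintype.card_fin, Fintype.card_fin]
    rw [hcard, Fintype.card_congr e, Fintype.card_fun, Fintype.card_fin, Fintype.card_fin, pow_succ, mul_comm]
  · intro j _
    rw [hcol]
    exact hpure _
  · intro j hj k hk _
    have h3 := hpt (Pi.single (e j) 1) (Pi.single (e k) 1)
    rw [single_comp, single_comp] at h3
    rw [h3]
    have hj' := (Finset.mem_filter.1 hj).2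
    have hk' := (Finset.mem_filter.1 hk).2
    rw [Finset.sum_eq_zero, mul_zero]
    intro a _
    apply Finset.sum_eq_zero
    intro b _
    by_cases ha : a = e j
    · by_cases hb : b = e k
      · have h4 : gramMatrix f₁ (a 0) (b 0) = 0 := by
          rw [ha, hb, hj', hk']
          exact halt _
        rw [Finset.prod_eq_zero (Finset.mem_univ 0) h4, mul_zero, zero_mul]
      · rw [id, Pi.single_eq_of_ne hb, mul_zero]
    · rw [Pi.single_eq_of_ne ha, zero_mul, zero_mul]

end Cfsg.Agent.H920
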